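import Mathlib
import Cfsg.Agent.TcData.HNK.Common
import Cfsg.Agent.Lib.TcRel
import Cfsg.Agent.TcData.HNK.R0.T0
import Cfsg.Agent.TcData.HNK.R0.T1
import Cfsg.Agent.TcData.HNK.R0.T2
import Cfsg.Agent.TcData.HNK.R0.T3
import Cfsg.Agent.TcData.HNK.R0.T4
import Cfsg.Agent.TcData.HNK.R0.T5
import Cfsg.Agent.TcData.HNK.R0.T6
import Cfsg.Agent.TcData.HNK.R0.T7
import Cfsg.Agent.TcData.HNK.R0.T8
import Cfsg.Agent.TcData.HNK.R0.T9
import Cfsg.Agent.TcData.HNK.R0.T10
import Cfsg.Agent.TcData.HNK.R0.T11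
import Cfsg.Agent.TcData.HNK.R0.T12
import Cfsg.Agent.TcData.HNK.R0.T13
import Cfsg.Agent.TcData.HNK.R0.T14
import Cfsg.Agent.TcData.HNK.R0.T15
import Cfsg.Agent.TcData.HNK.R0.T16
import Cfsg.Agent.TcData.HNK.R0.T17
import Cfsg.Agent.TcData.HNK.R0.T18
import Cfsg.Agent.TcData.HNK.R0.T19
import Cfsg.Agent.TcData.HNK.R0.T20
import Cfsg.Agent.TcData.HNK.R0.T21
import Cfsg.Agent.TcData.HNK.R0.T22
import Cfsg.Agent.TcData.HNK.R0.T23
import Cfsg.Agent.TcData.HNK.R0.T24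
import Cfsg.Agent.TcData.HNK.R0.T25
import Cfsg.Agent.TcData.HNK.R0.T26
import Cfsg.Agent.TcData.HNK.R0.T27
import Cfsg.Agent.TcData.HNK.R0.T28
import Cfsg.Agent.TcData.HNK.R0.T29
import Cfsg.Agent.TcData.HNK.R0.T30
import Cfsg.Agent.TcData.HNK.R0.T31
import Cfsg.Agent.TcData.HNK.R0.T32
import Cfsg.Agent.TcData.HNK.R0.T33
import Cfsg.Agent.TcData.HNK.R0.T34
import Cfsg.Agent.TcData.HNK.R0.T35
import Cfsg.Agent.TcData.HNK.R0.T36
import Cfsg.Agent.TcData.HNK.R0.T37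
import Cfsg.Agent.TcData.HNK.R0.T38
import Cfsg.Agent.TcData.HNK.R0.T39
import Cfsg.Agent.TcData.HNK.R0.T40
import Cfsg.Agent.TcData.HNK.R0.T41
import Cfsg.Agent.TcData.HNK.R0.T42
import Cfsg.Agent.TcData.HNK.R0.T43
import Cfsg.Agent.TcData.HNK.R0.T44
import Cfsg.Agent.TcData.HNK.R0.T45
import Cfsg.Agent.TcData.HNK.R0.T46
import Cfsg.Agent.TcData.HNK.R0.T47
import Cfsg.Agent.TcData.HNK.R0.T48
import Cfsg.Agent.TcData.HNK.R0.T49
import Cfsg.Agent.TcData.HNK.R0.T50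
import Cfsg.Agent.TcData.HNK.R0.T51
import Cfsg.Agent.TcData.HNK.R0.T52
import Cfsg.Agent.TcData.HNK.R0.T53
import Cfsg.Agent.TcData.HNK.R0.T54
import Cfsg.Agent.TcData.HNK.R0.T55
import Cfsg.Agent.TcData.HNK.R0.T56
import Cfsg.Agent.TcData.HNK.R0.T57
import Cfsg.Agent.TcData.HNK.R0.T58
import Cfsg.Agent.TcData.HNK.R0.T59
import Cfsg.Agent.TcData.HNK.R0.T60
import Cfsg.Agent.TcData.HNK.R0.T61
import Cfsg.Agent.TcData.HNK.R0.T62
import Cfsg.Agent.TcData.HNK.R0.T63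
import Cfsg.Agent.TcData.HNK.R0.T64
import Cfsg.Agent.TcData.HNK.R0.T65
import Cfsg.Agent.TcData.HNK.R0.T66
import Cfsg.Agent.TcData.HNK.R0.T67
import Cfsg.Agent.TcData.HNK.R0.T68
import Cfsg.Agent.TcData.HNK.R0.T69
import Cfsg.Agent.TcData.HNK.R0.T70
import Cfsg.Agent.TcData.HNK.R0.T71
import Cfsg.Agent.TcData.HNK.R0.T72
import Cfsg.Agent.TcData.HNK.R0.T73
import Cfsg.Agent.TcData.HNK.R0.T74
import Cfsg.Agent.TcData.HNK.R0.T75
import Cfsg.Agent.TcData.HNK.R0.T76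
import Cfsg.Agent.TcData.HNK.R0.T77
import Cfsg.Agent.TcData.HNK.R0.T78
import Cfsg.Agent.TcData.HNK.R0.T79
import Cfsg.Agent.TcData.HNK.R0.T80
import Cfsg.Agent.TcData.HNK.R0.T81
import Cfsg.Agent.TcData.HNK.R0.T82
import Cfsg.Agent.TcData.HNK.R0.T83
import Cfsg.Agent.TcData.HNK.R0.T84
import Cfsg.Agent.TcData.HNK.R0.T85
import Cfsg.Agent.TcData.HNK.R0.T86
import Cfsg.Agent.TcData.HNK.R0.T87
import Cfsg.Agent.TcData.HNK.R0.T88
import Cfsg.Agent.TcData.HNK.R0.T89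
import Cfsg.Agent.TcData.HNK.R0.T90
import Cfsg.Agent.TcData.HNK.R0.T91
import Cfsg.Agent.TcData.HNK.R0.T92
import Cfsg.Agent.TcData.HNK.R0.T93
import Cfsg.Agent.TcData.HNK.R0.T94
import Cfsg.Agent.TcData.HNK.R0.T95
import Cfsg.Agent.TcData.HNK.R0.T96
import Cfsg.Agent.TcData.HNK.R0.T97
import Cfsg.Agent.TcData.HNK.R0.T98
import Cfsg.Agent.TcData.HNK.R0.T99
import Cfsg.Agent.TcData.HNK.R0.T100
import Cfsg.Agent.TcData.HNK.R0.T101
import Cfsg.Agent.TcData.HNK.R0.T102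
import Cfsg.Agent.TcData.HNK.R0.T103
import Cfsg.Agent.TcData.HNK.R0.T104
import Cfsg.Agent.TcData.HNK.R0.T105
import Cfsg.Agent.TcData.HNK.R0.T106
import Cfsg.Agent.TcData.HNK.R0.T107
import Cfsg.Agent.TcData.HNK.R0.T108
import Cfsg.Agent.TcData.HNK.R0.T109
import Cfsg.Agent.TcData.HNK.R0.T110
import Cfsg.Agent.TcData.HNK.R0.T111
import Cfsg.Agent.TcData.HNK.R0.T112
import Cfsg.Agent.TcData.HNK.R0.T113
import Cfsg.Agent.TcData.HNK.R0.T114
import Cfsg.Agent.TcData.HNK.R0.T115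
import Cfsg.Agent.TcData.HNK.R0.T116
import Cfsg.Agent.TcData.HNK.R0.T117
import Cfsg.Agent.TcData.HNK.R0.T118
import Cfsg.Agent.TcData.HNK.R0.T119
import Cfsg.Agent.TcData.HNK.R0.T120
import Cfsg.Agent.TcData.HNK.R0.T121
import Cfsg.Agent.TcData.HNK.R0.T122
import Cfsg.Agent.TcData.HNK.R0.T123
import Cfsg.Agent.TcData.HNK.R0.T124
import Cfsg.Agent.TcData.HNK.R0.T125
import Cfsg.Agent.TcData.HNK.R0.T126
import Cfsg.Agent.TcData.HNK.R0.T127
import Cfsg.Agent.TcData.HNK.R0.PS0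
import Cfsg.Agent.TcData.HNK.R0.PS1
import Cfsg.Agent.TcData.HNK.R0.PS2
import Cfsg.Agent.TcData.HNK.R0.PS3
import Cfsg.Agent.TcData.HNK.R0.PS4
import Cfsg.Agent.TcData.HNK.R0.PS5
import Cfsg.Agent.TcData.HNK.R0.PS6
import Cfsg.Agent.TcData.HNK.R0.PS7
import Cfsg.Agent.TcData.HNK.R0.PS8
import Cfsg.Agent.TcData.HNK.R0.PS9
import Cfsg.Agent.TcData.HNK.R0.PS10
import Cfsg.Agent.TcData.HNK.R0.PS11
import Cfsg.Agent.TcData.HNK.R0.PS12
import Cfsg.Agent.TcData.HNK.R0.PS13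
import Cfsg.Agent.TcData.HNK.R0.PS14
import Cfsg.Agent.TcData.HNK.R0.PS15
import Cfsg.Agent.TcData.HNK.R0.PS16
import Cfsg.Agent.TcData.HNK.R0.PS17
import Cfsg.Agent.TcData.HNK.R0.PS18
import Cfsg.Agent.TcData.HNK.R0.PS19
import Cfsg.Agent.TcData.HNK.R0.PS20
import Cfsg.Agent.TcData.HNK.R0.PS21
import Cfsg.Agent.TcData.HNK.R0.PS22
import Cfsg.Agent.TcData.HNK.R0.PS23
import Cfsg.Agent.TcData.HNK.R0.PS24
import Cfsg.Agent.TcData.HNK.R0.PS25
import Cfsg.Agent.TcData.HNK.R0.PS26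
import Cfsg.Agent.TcData.HNK.R0.PS27
import Cfsg.Agent.TcData.HNK.R0.PS28
import Cfsg.Agent.TcData.HNK.R0.PS29
import Cfsg.Agent.TcData.HNK.R0.PS30
import Cfsg.Agent.TcData.HNK.R0.PS31

set_option autoImplicit false
set_option Elab.async false
set_option maxRecDepth 100000
set_option linter.all false

namespace Cfsg.Agent.TcData.HNK.R0

open Cfsg.Spor Cfsg.Agent.Lib.TcFacts Cfsg.Agent.Lib.TcBits Cfsg.Agent.Lib.TcPres Cfsg.Agent.Lib.TcRel Cfsg.Spor.HN Cfsg.Agent.TcData.HNK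

/-- The generators of the large subgroup. -/
def SL : List Gen := [.x, .y]

/-- The generators of the small subgroup. -/
def TL : List Gen := [.y]

/-- The small subgroup. -/
abbrev HH : Subgroup (PresentedGroup RR) := subOf RR TL

/-- Long generators of the subgroup. -/
noncomputable def macros : List (FreeGroup Gen) := []

/-- The letter of a signed generator. -/
def encS : Gen → Bool → ℕ
  | .x, true => 0
  | .x, false => 1
  | .y, true => 2
  | .y, false => 3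
  | .z, _ => 0
  | .t, _ => 0

/-- The letters. -/
noncomputable def gLS : List (FreeGroup Gen) :=
  [FreeGroup.of .x, (FreeGroup.of .x)⁻¹, FreeGroup.of .y, (FreeGroup.of .y)⁻¹]

/-- The nodes of the graph. -/
def nodesS : List Gen := []

/-- Extra relators. -/
noncomputable def extraS : List (FreeGroup Gen) := [extraK.getD 0 1, extraK.getD 1 1, extraK.getD 2 1, extraK.getD 3 1, extraK.getD 4 1, extraK.getD 5 1]

/-- All relators, as a list. -/
noncomputable def relLS : List (FreeGroup Gen) := relAll edges nodesS extraS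

/-- The relators, as words in letters. -/
def Rels : List (List ℕ) := [
  [2, 2, 2, 2, 2, 2],
  [0, 0, 2, 0, 0, 3],
  [1, 3, 0, 2, 1, 3, 0, 2, 1, 3, 0, 2],
  [1, 2, 2, 0, 2, 2, 2, 1, 2, 2, 0, 2, 2, 2, 1, 2, 2, 0, 2, 2, 2],
  [0, 2, 0, 2, 0, 2, 0, 2, 0, 2, 0, 2, 0, 2, 0, 2],
  [0, 2, 0, 2, 2, 2, 0, 2, 0, 2, 2, 2, 0, 2, 0, 2, 2, 2, 0, 2, 0, 2, 2, 2],
  [3, 3, 3, 3, 3, 3],
  [2, 1, 1, 3, 1, 1],
  [3, 1, 2, 0, 3, 1, 2, 0, 3, 1, 2, 0],
  [3, 3, 3, 1, 3, 3, 0, 3, 3, 3, 1, 3, 3, 0, 3, 3, 3, 1, 3, 3, 0],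
  [3, 1, 3, 1, 3, 1, 3, 1, 3, 1, 3, 1, 3, 1, 3, 1],
  [3, 3, 3, 1, 3, 1, 3, 3, 3, 1, 3, 1, 3, 3, 3, 1, 3, 1, 3, 3, 3, 1, 3, 1],
  [0, 1],
  [1, 0],
  [2, 3],
  [3, 2]]

/-- The table. -/
noncomputable def T : Tr := (.node (.node (.node (.node (.node (.node (.node S0 S64) (.node S32 S96)) (.node (.node S16 S80) (.node S48 S112))) (.node (.node (.node S8 S72) (.node S40 S104)) (.node (.node S24 S88) (.node S56 S120)))) (.node (.node (.node (.node S4 S68) (.node S36 S100)) (.node (.node S20 S84) (.node S52 S116))) (.node (.node (.node S12 S76) (.node S44 S108)) (.node (.node S28 S92) (.node S60 S124))))) (.node (.node (.node (.node (.node S2 S66) (.node S34 S98)) (.node (.node S18 S82) (.node S50 S114))) (.node (.node (.node S10 S74) (.node S42 S106)) (.node (.node S26 S90) (.node S58 S122)))) (.node (.node (.node (.node S6 S70) (.node S38 S102)) (.node (.node S22 S86) (.node S54 S118))) (.node (.node (.node S14 S78) (.node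 S46 S110)) (.node (.node S30 S94) (.node S62 S126)))))) (.node (.node (.node (.node (.node (.node S1 S65) (.node S33 S97)) (.node (.node S17 S81) (.node S49 S113))) (.node (.node (.node S9 S73) (.node S41 S105)) (.node (.node S25 S89) (.node S57 S121)))) (.node (.node (.node (.node S5 S69) (.node S37 S101)) (.node (.node S21 S85) (.node S53 S117))) (.node (.node (.node S13 S77) (.node S45 S109)) (.node (.node S29 S93) (.node S61 S125))))) (.node (.node (.node (.node (.node S3 S67) (.node S35 S99)) (.node (.node S19 S83) (.node S51 S115))) (.node (.node (.node S11 S75) (.node S43 S107)) (.node (.node S27 S91) (.node S59 S123)))) (.node (.node (.node (.node S7 S71) (.node S39 S103)) (.node (.node S23 S87) (.node S55 S119))) (.node (.node (.node S15 S79) (.node S47 S111)) (.node (.node S31 S95) (.node S63 S127)))))))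

/-- The words. -/
noncomputable def WT : Tr := (.node (.node (.node (.node (.node (.node (.node (.leaf (nat_lit 0x1c)) (.leaf (nat_lit 0x29228a48a29228a48a5))) (.node (.leaf (nat_lit 0xc984d)) (.leaf (nat_lit 0x2452432292191490d)))) (.node (.node (.leaf (nat_lit 0x4cc4cc4cc)) (.leaf (nat_lit 0x1b65b4db2da6d96d5))) (.node (.leaf (nat_lit 0x8a48a29228a48a2922)) (.leaf (nat_lit 0x0))))) (.node (.node (.node (.leaf (nat_lit 0x19309)) (.leaf (nat_lit 0x32cb2cb2cb2cd))) (.node (.leaf (nat_lit 0x4864524322921914)) (.leaf (nat_lit 0x612cd)))) (.node (.node (.leaf (nat_lit 0x899899899)) (.leaf (nat_lit 0x136cb69b65b4db2dd))) (.node (.leaf (nat_lit 0x524514914524514914)) (.leaf (nat_lit 0x0)))))) (.node (.node (.node (.node (.leaf (nat_lit 0x12893)) (.leaf (nat_lit 0x16a16a16a5))) (.node (.leaf (nat_lit 0x452432292191490c)) (.leaf (nat_lit 0x24864524322921915)))) (.node (.node (.leaf (nat_lit 0x964c)) (.leaf (nat_lit 0x112695)))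 (.node (.leaf (nat_lit 0x6d965b6596d965b659)) (.leaf (nat_lit 0x0))))) (.node (.node (.node (.leaf (nat_lit 0x1449a)) (.leaf (nat_lit 0x4514914524514914525))) (.node (.leaf (nat_lit 0x32da6d96d36cb69b)) (.leaf (nat_lit 0x0)))) (.node (.node (.leaf (nat_lit 0x24924)) (.leaf (nat_lit 0x165b6596d965b6596dd))) (.node (.leaf (nat_lit 0x196d36cb69b65b4dd)) (.leaf (nat_lit 0x0))))))) (.node (.node (.node (.node (.node (.leaf (nat_lit 0x11)) (.leaf (nat_lit 0x2662662665))) (.node (.leaf (nat_lit 0x8a29228a48a29228a4)) (.leaf (nat_lit 0x16d965b6596d965b65d)))) (.node (.node (.leaf (nat_lit 0x85a85a85a)) (.leaf (nat_lit 0x1b4db2da6d96d36cd))) (.node (.leaf (nat_lit 0x369b65b4db2da6d9)) (.leaf (nat_lit 0x0))))) (.node (.node (.node (.leaf (nat_lit 0x134a2)) (.leaf (nat_lit 0x2432292191490c8a5))) (.node (.leaf (nat_lit 0x2cb6cb2db2cb6cb2db)) (.leaf (nat_lit 0x5930d)))) (.node (.node (.leaf (nat_lit 0x34db2da6d96d36cb)) (.leaf (nat_lit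 0x28a48a29228a48a2925))) (.node (.leaf (nat_lit 0x48a29228a48a29228a5)) (.leaf (nat_lit 0x0)))))) (.node (.node (.node (.node (.leaf (nat_lit 0xb261)) (.leaf (nat_lit 0x36596d965b6596d965d))) (.node (.leaf (nat_lit 0x514914524514914524)) (.leaf (nat_lit 0x4c25d)))) (.node (.node (.leaf (nat_lit 0x2cb2cb2cb2cb)) (.leaf (nat_lit 0x32db2cb6cb2db2cb6cd))) (.node (.leaf (nat_lit 0xdb6dd)) (.leaf (nat_lit 0x0))))) (.node (.node (.node (.leaf (nat_lit 0x224d2)) (.leaf (nat_lit 0x28a28a28a28a5))) (.node (.leaf (nat_lit 0x6596d965b6596d965b)) (.leaf (nat_lit 0x0)))) (.node (.node (.leaf (nat_lit 0x292191490c8a4864)) (.leaf (nat_lit 0x189989989d))) (.node (.leaf (nat_lit 0x1b2da6d96d36cb69d)) (.leaf (nat_lit 0x0)))))))) (.node (.node (.node (.node (.node (.node (.leaf (nat_lit 0xa)) (.leaf (nat_lit 0x10964d))) (.node (.leaf (nat_lit 0x659659659659)) (.leaf (nat_lit 0x32cb6cb2db2cb6cb2dd)))) (.node (.node (.leaf (nat_lit 0x313313313))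 (.leaf (nat_lit 0x2191490c8a4864525))) (.node (.leaf (nat_lit 0x9228a48a29228a48a2)) (.leaf (nat_lit 0x0))))) (.node (.node (.node (.leaf (nat_lit 0x212c9)) (.leaf (nat_lit 0x36cb2db2cb6cb2db2cd))) (.node (.leaf (nat_lit 0x365b4db2da6d96d3)) (.leaf (nat_lit 0x9a515)))) (.node (.node (.leaf (nat_lit 0x50b50b50b)) (.leaf (nat_lit 0xb69b65b4db2da6dd))) (.node (.leaf (nat_lit 0x490c8a4864524322)) (.leaf (nat_lit 0x0)))))) (.node (.node (.node (.node (.leaf (nat_lit 0x12694)) (.leaf (nat_lit 0x285a85a85d))) (.node (.leaf (nat_lit 0x6cb2db2cb6cb2db2cb)) (.leaf (nat_lit 0x42d42d42d5)))) (.node (.node (.leaf (nat_lit 0x984b)) (.leaf (nat_lit 0x4914524514914524515))) (.node (.leaf (nat_lit 0x36cb69b65b4db2da)) (.leaf (nat_lit 0x0))))) (.node (.node (.node (.leaf (nat_lit 0x1a512)) (.leaf (nat_lit 0x1490c8a4864524325))) (.node (.leaf (nat_lit 0x48a4864524322921)) (.leaf (nat_lit 0x0)))) (.node (.node (.leaf (nat_lit 0x26d96d36cb69b65b))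 (.leaf (nat_lit 0x4524514914524514915))) (.node (.leaf (nat_lit 0x9449d)) (.leaf (nat_lit 0x0))))))) (.node (.node (.node (.node (.node (.leaf (nat_lit 0x23)) (.leaf (nat_lit 0x3313313315))) (.node (.leaf (nat_lit 0x2db2cb6cb2db2cb6cb)) (.leaf (nat_lit 0x2292191490c8a4865)))) (.node (.node (.leaf (nat_lit 0x662662662)) (.leaf (nat_lit 0x165965965965d))) (.node (.leaf (nat_lit 0x65b6596d965b6596d9)) (.leaf (nat_lit 0x0))))) (.node (.node (.node (.leaf (nat_lit 0x1b6db)) (.leaf (nat_lit 0x44cc4cc4cd))) (.node (.leaf (nat_lit 0x914524514914524514)) (.leaf (nat_lit 0x0)))) (.node (.node (.leaf (nat_lit 0x432292191490c8a4)) (.leaf (nat_lit 0xc8a4864524322925))) (.node (.leaf (nat_lit 0x934a5)) (.leaf (nat_lit 0x0)))))) (.node (.node (.node (.node (.leaf (nat_lit 0xc259)) (.leaf (nat_lit 0x4514514514515))) (.node (.leaf (nat_lit 0x16d36cb69b65b4db)) (.leaf (nat_lit 0x4b265)))) (.node (.node (.leaf (nat_lit 0x6a16a16a1)) (.leaf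 (nat_lit 0x514514514514))) (.node (.leaf (nat_lit 0xd2895)) (.leaf (nat_lit 0x0))))) (.node (.node (.node (.leaf (nat_lit 0x2d42d42d4)) (.leaf (nat_lit 0x350b50b50d))) (.node (.leaf (nat_lit 0x191490c8a4864524)) (.leaf (nat_lit 0x0)))) (.node (.node (.leaf (nat_lit 0x8a28a28a28a2)) (.leaf (nat_lit 0x1a6d96d36cb69b65d))) (.node (.leaf (nat_lit 0x124925)) (.leaf (nat_lit 0x0)))))))))

/-- Side data. -/
noncomputable def ST : Tr := (.node (.node (.node (.node (.node PS0 PS16) (.node PS8 PS24)) (.node (.node PS4 PS20) (.node PS12 PS28))) (.node (.node (.node PS2 PS18) (.node PS10 PS26)) (.node (.node PS6 PS22) (.node PS14 PS30)))) (.node (.node (.node (.node PS1 PS17) (.node PS9 PS25)) (.node (.node PS5 PS21) (.node PS13 PS29))) (.node (.node (.node PS3 PS19) (.node PS11 PS27)) (.node (.node PS7 PS23) (.node PS15 PS31)))))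

/-- Hints for the words. -/
noncomputable def HT : Tr := (.node (.node (.node (.node (.node (.node (.node (.leaf (nat_lit 0x100e)) (.leaf (nat_lit 0x100400b))) (.node (.leaf (nat_lit 0x1003001)) (.leaf (nat_lit 0x1006009)))) (.node (.node (.leaf (nat_lit 0x1002)) (.leaf (nat_lit 0x1000003))) (.node (.leaf (nat_lit 0x500b)) (.leaf (nat_lit 0x0))))) (.node (.node (.node (.leaf (nat_lit 0x3001)) (.leaf (nat_lit 0x1000004))) (.node (.leaf (nat_lit 0x2009)) (.leaf (nat_lit 0x1001001)))) (.node (.node (.leaf (nat_lit 0x2002)) (.leaf (nat_lit 0x1001003))) (.node (.leaf (nat_lit 0x400b)) (.leaf (nat_lit 0x0)))))) (.node (.node (.node (.node (.leaf (nat_lit 0x7)) (.leaf (nat_lit 0x1000008))) (.node (.leaf (nat_lit 0x5009)) (.leaf (nat_lit 0x1003009)))) (.node (.node (.leaf (nat_lit 0x5001)) (.leaf (nat_lit 0x1004007))) (.node (.leaf (nat_lit 0x5)) (.leaf (nat_lit 0x0))))) (.node (.node (.node (.leaf (nat_lit 0x5007)) (.leaf (nat_lit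 0x100100b))) (.node (.leaf (nat_lit 0x5003)) (.leaf (nat_lit 0x0)))) (.node (.node (.leaf (nat_lit 0x6)) (.leaf (nat_lit 0x1003005))) (.node (.leaf (nat_lit 0x1005003)) (.leaf (nat_lit 0x0))))))) (.node (.node (.node (.node (.node (.leaf (nat_lit 0xc)) (.leaf (nat_lit 0x1001002))) (.node (.leaf (nat_lit 0x100b)) (.leaf (nat_lit 0x1001005)))) (.node (.node (.leaf (nat_lit 0x1008)) (.leaf (nat_lit 0x1003003))) (.node (.leaf (nat_lit 0x3003)) (.leaf (nat_lit 0x0))))) (.node (.node (.node (.leaf (nat_lit 0x2007)) (.leaf (nat_lit 0x1002009))) (.node (.leaf (nat_lit 0x3005)) (.leaf (nat_lit 0x1004001)))) (.node (.node (.leaf (nat_lit 0x2003)) (.leaf (nat_lit 0x100000b))) (.node (.leaf (nat_lit 0x100200b)) (.leaf (nat_lit 0x0)))))) (.node (.node (.node (.node (.leaf (nat_lit 0x4001)) (.leaf (nat_lit 0x1005005))) (.node (.leaf (nat_lit 0xb)) (.leaf (nat_lit 0x1002001)))) (.node (.node (.leaf (nat_lit 0x1004)) (.leaf (nat_lit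 0x1002005))) (.node (.leaf (nat_lit 0x1000000)) (.leaf (nat_lit 0x0))))) (.node (.node (.node (.leaf (nat_lit 0x4007)) (.leaf (nat_lit 0x100000a))) (.node (.leaf (nat_lit 0x4005)) (.leaf (nat_lit 0x0)))) (.node (.node (.leaf (nat_lit 0x4009)) (.leaf (nat_lit 0x1003002))) (.node (.leaf (nat_lit 0x1006003)) (.leaf (nat_lit 0x0)))))))) (.node (.node (.node (.node (.node (.node (.leaf (nat_lit 0x100c)) (.leaf (nat_lit 0x1000001))) (.node (.leaf (nat_lit 0x4)) (.leaf (nat_lit 0x1004005)))) (.node (.node (.leaf (nat_lit 0x3002)) (.leaf (nat_lit 0x1001009))) (.node (.leaf (nat_lit 0x300b)) (.leaf (nat_lit 0x0))))) (.node (.node (.node (.leaf (nat_lit 0x1)) (.leaf (nat_lit 0x1000005))) (.node (.leaf (nat_lit 0x6003)) (.leaf (nat_lit 0x1002007)))) (.node (.node (.leaf (nat_lit 0x2008)) (.leaf (nat_lit 0x1004003))) (.node (.leaf (nat_lit 0x3009)) (.leaf (nat_lit 0x0)))))) (.node (.node (.node (.node (.leaf (nat_lit 0x3007)) (.leaf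 (nat_lit 0x1002008))) (.node (.leaf (nat_lit 0x5005)) (.leaf (nat_lit 0x1001008)))) (.node (.node (.leaf (nat_lit 0x2001)) (.leaf (nat_lit 0x100300b))) (.node (.leaf (nat_lit 0x3)) (.leaf (nat_lit 0x0))))) (.node (.node (.node (.leaf (nat_lit 0x1007)) (.leaf (nat_lit 0x1004009))) (.node (.leaf (nat_lit 0x6009)) (.leaf (nat_lit 0x0)))) (.node (.node (.leaf (nat_lit 0x1003)) (.leaf (nat_lit 0x100500b))) (.node (.leaf (nat_lit 0x1000007)) (.leaf (nat_lit 0x0))))))) (.node (.node (.node (.node (.node (.leaf (nat_lit 0xe)) (.leaf (nat_lit 0x1000002))) (.node (.leaf (nat_lit 0x1005)) (.leaf (nat_lit 0x1005009)))) (.node (.node (.leaf (nat_lit 0x2)) (.leaf (nat_lit 0x1001004))) (.node (.leaf (nat_lit 0x2005)) (.leaf (nat_lit 0x0))))) (.node (.node (.node (.leaf (nat_lit 0x0)) (.leaf (nat_lit 0x1002002))) (.node (.leaf (nat_lit 0x200b)) (.leaf (nat_lit 0x0)))) (.node (.node (.leaf (nat_lit 0x1009)) (.leaf (nat_lit 0x1000009)))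 (.node (.leaf (nat_lit 0x1003007)) (.leaf (nat_lit 0x0)))))) (.node (.node (.node (.node (.leaf (nat_lit 0x1001)) (.leaf (nat_lit 0x100100a))) (.node (.leaf (nat_lit 0x4003)) (.leaf (nat_lit 0x1005001)))) (.node (.node (.leaf (nat_lit 0x3008)) (.leaf (nat_lit 0xa))) (.node (.leaf (nat_lit 0x1001007)) (.leaf (nat_lit 0x0))))) (.node (.node (.node (.leaf (nat_lit 0x8)) (.leaf (nat_lit 0x1003008))) (.node (.leaf (nat_lit 0x9)) (.leaf (nat_lit 0x0)))) (.node (.node (.leaf (nat_lit 0x100a)) (.leaf (nat_lit 0x1002003))) (.node (.leaf (nat_lit 0x1000006)) (.leaf (nat_lit 0x0)))))))))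

/-- An entry of the table. -/
noncomputable def ent (u a : ℕ) : ℕ :=
  Nat.land
    (Nat.shiftRight
      (Nat.rec (motive := fun _ => ℕ) (Tr.get T 0) (fun m _ => Tr.get T (Nat.succ m))
        (Nat.shiftRight u 4))
      (Nat.add (Nat.mul (Nat.land u 15) 366) (Nat.mul a 61)))
    2305843009213693951

/-- The parent of a label. -/
noncomputable def pa (v : ℕ) : ℕ := ent v 5

/-- A word. -/
noncomputable def wd (k : ℕ) : ℕ := Tr.get WT k

/-- Side data. -/
noncomputable def side (k : ℕ) : ℕ :=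
  Nat.land
    (Nat.shiftRight
      (Nat.rec (motive := fun _ => ℕ) (Tr.get ST 0) (fun m _ => Tr.get ST (Nat.succ m))
        (Nat.shiftRight k 5))
      (Nat.mul (Nat.land k 31) 44))
    17592186044415

/-- A hint. -/
noncomputable def hint (k : ℕ) : ℕ := Tr.get HT k

/-- The letters of the subgroup. -/
def baseL : List ℕ := [2]

/-- Is a letter in the subgroup. -/
noncomputable def base (a : ℕ) : Bool := baseL.contains a

/-- The check of a row. -/
noncomputable def F : ℕ → Bool :=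
  rowF ent pa wd side base 4 1048575 20 39 719615 3 7 8 25 524287 107 1048576 4194304

/-- Being alive. -/
noncomputable def al : ℕ → Bool := aliveB ent 4 1048576

end Cfsg.Agent.TcData.HNK.R0
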