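import Mathlib
import Cfsg.Agent.TcData.HNK.R0.Tab

set_option autoImplicit false
set_option Elab.async false
set_option maxRecDepth 100000
set_option linter.all false

namespace Cfsg.Agent.TcData.HNK.R0

open Cfsg.Spor Cfsg.Agent.Lib.TcFacts Cfsg.Agent.Lib.TcBits Cfsg.Agent.Lib.TcPres Cfsg.Spor.HN Cfsg.Agent.TcData.HNK

theorem b0 : Block F al 0 256 122 :=
  block_of_check (k := 8) rfl (by decide +kernel)

theorem b1 : Block F al 256 512 109 :=
  block_of_check (k := 8) rfl (by decide +kernel)

theorem b2 : Block F al 512 768 87 :=
  block_of_check (k := 8) rfl (by decide +kernel)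

theorem b3 : Block F al 768 1024 128 :=
  block_of_check (k := 8) rfl (by decide +kernel)

theorem b4 : Block F al 1024 1280 116 :=
  block_of_check (k := 8) rfl (by decide +kernel)

theorem b5 : Block F al 1280 1536 96 :=
  block_of_check (k := 8) rfl (by decide +kernel)

theorem b6 : Block F al 1536 1792 190 :=
  block_of_check (k := 8) rfl (by decide +kernel)

theorem b7 : Block F al 1792 2048 256 :=
  block_of_check (k := 8) rfl (by decide +kernel)

theorem b8 : Block F al 2048 2304 256 :=
  block_of_check (k := 8) rfl (by decide +kernel)

theorem b9 : Block F al 2304 2560 256 :=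
  block_of_check (k := 8) rfl (by decide +kernel)

theorem b10 : Block F al 2560 2816 254 :=
  block_of_check (k := 8) rfl (by decide +kernel)

theorem b11 : Block F al 2816 3072 256 :=
  block_of_check (k := 8) rfl (by decide +kernel)

theorem b12 : Block F al 3072 3328 256 :=
  block_of_check (k := 8) rfl (by decide +kernel)

theorem b13 : Block F al 3328 3584 256 :=
  block_of_check (k := 8) rfl (by decide +kernel)

theorem b14 : Block F al 3584 3840 254 :=
  block_of_check (k := 8) rfl (by decide +kernel)

theorem b15 : Block F al 3840 4096 249 :=
  block_of_check (k := 8) rfl (by decide +kernel)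

theorem b16 : Block F al 4096 4352 255 :=
  block_of_check (k := 8) rfl (by decide +kernel)

theorem b17 : Block F al 4352 4608 254 :=
  block_of_check (k := 8) rfl (by decide +kernel)

theorem b18 : Block F al 4608 4864 252 :=
  block_of_check (k := 8) rfl (by decide +kernel)

theorem b19 : Block F al 4864 5120 256 :=
  block_of_check (k := 8) rfl (by decide +kernel)

theorem b20 : Block F al 5120 5376 254 :=
  block_of_check (k := 8) rfl (by decide +kernel)

theorem b21 : Block F al 5376 5632 248 :=
  block_of_check (k := 8) rfl (by decide +kernel)

theorem b22 : Block F al 5632 5888 250 :=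
  block_of_check (k := 8) rfl (by decide +kernel)

theorem b23 : Block F al 5888 6144 240 :=
  block_of_check (k := 8) rfl (by decide +kernel)

theorem b24 : Block F al 6144 6400 244 :=
  block_of_check (k := 8) rfl (by decide +kernel)

theorem b25 : Block F al 6400 6656 254 :=
  block_of_check (k := 8) rfl (by decide +kernel)

theorem b26 : Block F al 6656 6912 254 :=
  block_of_check (k := 8) rfl (by decide +kernel)

theorem b27 : Block F al 6912 7168 248 :=
  block_of_check (k := 8) rfl (by decide +kernel)

theorem b28 : Block F al 7168 7424 246 :=
  block_of_check (k := 8) rfl (by decide +kernel)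

theorem b29 : Block F al 7424 7680 250 :=
  block_of_check (k := 8) rfl (by decide +kernel)

theorem b30 : Block F al 7680 7936 254 :=
  block_of_check (k := 8) rfl (by decide +kernel)

theorem b31 : Block F al 7936 8192 252 :=
  block_of_check (k := 8) rfl (by decide +kernel)

theorem b32 : Block F al 8192 8448 246 :=
  block_of_check (k := 8) rfl (by decide +kernel)

theorem b33 : Block F al 8448 8704 248 :=
  block_of_check (k := 8) rfl (by decide +kernel)

theorem b34 : Block F al 8704 8960 246 :=
  block_of_check (k := 8) rfl (by decide +kernel)

theorem b35 : Block F al 8960 9216 234 :=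
  block_of_check (k := 8) rfl (by decide +kernel)

theorem b36 : Block F al 9216 9472 248 :=
  block_of_check (k := 8) rfl (by decide +kernel)

theorem b37 : Block F al 9472 9728 222 :=
  block_of_check (k := 8) rfl (by decide +kernel)

theorem b38 : Block F al 9728 9984 246 :=
  block_of_check (k := 8) rfl (by decide +kernel)

theorem b39 : Block F al 9984 10240 240 :=
  block_of_check (k := 8) rfl (by decide +kernel)

theorem b40 : Block F al 10240 10496 222 :=
  block_of_check (k := 8) rfl (by decide +kernel)

theorem b41 : Block F al 10496 10752 252 :=
  block_of_check (k := 8) rfl (by decide +kernel)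

theorem b42 : Block F al 10752 11008 248 :=
  block_of_check (k := 8) rfl (by decide +kernel)

theorem b43 : Block F al 11008 11264 242 :=
  block_of_check (k := 8) rfl (by decide +kernel)

theorem b44 : Block F al 11264 11520 242 :=
  block_of_check (k := 8) rfl (by decide +kernel)

theorem b45 : Block F al 11520 11776 240 :=
  block_of_check (k := 8) rfl (by decide +kernel)

theorem b46 : Block F al 11776 12032 236 :=
  block_of_check (k := 8) rfl (by decide +kernel)

theorem b47 : Block F al 12032 12288 230 :=
  block_of_check (k := 8) rfl (by decide +kernel)

theorem b48 : Block F al 12288 12544 250 :=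
  block_of_check (k := 8) rfl (by decide +kernel)

theorem b49 : Block F al 12544 12800 254 :=
  block_of_check (k := 8) rfl (by decide +kernel)

theorem b50 : Block F al 12800 13056 248 :=
  block_of_check (k := 8) rfl (by decide +kernel)

theorem b51 : Block F al 13056 13312 232 :=
  block_of_check (k := 8) rfl (by decide +kernel)

theorem b52 : Block F al 13312 13568 236 :=
  block_of_check (k := 8) rfl (by decide +kernel)

theorem b53 : Block F al 13568 13824 240 :=
  block_of_check (k := 8) rfl (by decide +kernel)

theorem b54 : Block F al 13824 14080 240 :=
  block_of_check (k := 8) rfl (by decide +kernel)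

theorem b55 : Block F al 14080 14336 232 :=
  block_of_check (k := 8) rfl (by decide +kernel)

theorem b56 : Block F al 14336 14592 234 :=
  block_of_check (k := 8) rfl (by decide +kernel)

theorem b57 : Block F al 14592 14848 204 :=
  block_of_check (k := 8) rfl (by decide +kernel)

theorem b58 : Block F al 14848 15104 235 :=
  block_of_check (k := 8) rfl (by decide +kernel)

theorem b59 : Block F al 15104 15360 247 :=
  block_of_check (k := 8) rfl (by decide +kernel)

theorem b60 : Block F al 15360 15616 224 :=
  block_of_check (k := 8) rfl (by decide +kernel)

theorem b61 : Block F al 15616 15872 222 :=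
  block_of_check (k := 8) rfl (by decide +kernel)

theorem b62 : Block F al 15872 16128 214 :=
  block_of_check (k := 8) rfl (by decide +kernel)

theorem b63 : Block F al 16128 16384 246 :=
  block_of_check (k := 8) rfl (by decide +kernel)

theorem b64 : Block F al 16384 16640 228 :=
  block_of_check (k := 8) rfl (by decide +kernel)

theorem b65 : Block F al 16640 16896 200 :=
  block_of_check (k := 8) rfl (by decide +kernel)

theorem b66 : Block F al 16896 17152 232 :=
  block_of_check (k := 8) rfl (by decide +kernel)

theorem b67 : Block F al 17152 17408 238 :=
  block_of_check (k := 8) rfl (by decide +kernel)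

theorem b68 : Block F al 17408 17664 236 :=
  block_of_check (k := 8) rfl (by decide +kernel)

theorem b69 : Block F al 17664 17920 238 :=
  block_of_check (k := 8) rfl (by decide +kernel)

theorem b70 : Block F al 17920 18176 236 :=
  block_of_check (k := 8) rfl (by decide +kernel)

theorem b71 : Block F al 18176 18432 220 :=
  block_of_check (k := 8) rfl (by decide +kernel)

theorem b72 : Block F al 18432 18688 236 :=
  block_of_check (k := 8) rfl (by decide +kernel)

theorem b73 : Block F al 18688 18944 226 :=
  block_of_check (k := 8) rfl (by decide +kernel)

theorem b74 : Block F al 18944 19200 218 :=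
  block_of_check (k := 8) rfl (by decide +kernel)

theorem b75 : Block F al 19200 19456 232 :=
  block_of_check (k := 8) rfl (by decide +kernel)

theorem b76 : Block F al 19456 19712 212 :=
  block_of_check (k := 8) rfl (by decide +kernel)

theorem b77 : Block F al 19712 19968 240 :=
  block_of_check (k := 8) rfl (by decide +kernel)

theorem b78 : Block F al 19968 20224 220 :=
  block_of_check (k := 8) rfl (by decide +kernel)

theorem b79 : Block F al 20224 20480 218 :=
  block_of_check (k := 8) rfl (by decide +kernel)

theorem b80 : Block F al 20480 20736 242 :=
  block_of_check (k := 8) rfl (by decide +kernel)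

theorem b81 : Block F al 20736 20992 230 :=
  block_of_check (k := 8) rfl (by decide +kernel)

theorem b82 : Block F al 20992 21248 240 :=
  block_of_check (k := 8) rfl (by decide +kernel)

theorem b83 : Block F al 21248 21504 240 :=
  block_of_check (k := 8) rfl (by decide +kernel)

theorem b84 : Block F al 21504 21760 216 :=
  block_of_check (k := 8) rfl (by decide +kernel)

theorem b85 : Block F al 21760 22016 220 :=
  block_of_check (k := 8) rfl (by decide +kernel)

theorem b86 : Block F al 22016 22272 234 :=
  block_of_check (k := 8) rfl (by decide +kernel)

theorem b87 : Block F al 22272 22528 216 :=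
  block_of_check (k := 8) rfl (by decide +kernel)

theorem b88 : Block F al 22528 22784 220 :=
  block_of_check (k := 8) rfl (by decide +kernel)

theorem b89 : Block F al 22784 23040 222 :=
  block_of_check (k := 8) rfl (by decide +kernel)

theorem b90 : Block F al 23040 23296 216 :=
  block_of_check (k := 8) rfl (by decide +kernel)

theorem b91 : Block F al 23296 23552 220 :=
  block_of_check (k := 8) rfl (by decide +kernel)

theorem b92 : Block F al 23552 23808 214 :=
  block_of_check (k := 8) rfl (by decide +kernel)

theorem b93 : Block F al 23808 24064 209 :=
  block_of_check (k := 8) rfl (by decide +kernel)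

theorem b94 : Block F al 24064 24320 227 :=
  block_of_check (k := 8) rfl (by decide +kernel)

end Cfsg.Agent.TcData.HNK.R0
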