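import Mathlib
import Cfsg.Agent.TcData.HNK.R0.Tab

set_option autoImplicit false
set_option Elab.async false
set_option maxRecDepth 100000
set_option linter.all false

namespace Cfsg.Agent.TcData.HNK.R0

open Cfsg.Spor Cfsg.Agent.Lib.TcFacts Cfsg.Agent.Lib.TcBits Cfsg.Agent.Lib.TcPres Cfsg.Spor.HN Cfsg.Agent.TcData.HNK

theorem b95 : Block F al 24320 24576 162 :=
  block_of_check (k := 8) rfl (by decide +kernel)

theorem b96 : Block F al 24576 24832 220 :=
  block_of_check (k := 8) rfl (by decide +kernel)

theorem b97 : Block F al 24832 25088 220 :=
  block_of_check (k := 8) rfl (by decide +kernel)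

theorem b98 : Block F al 25088 25344 218 :=
  block_of_check (k := 8) rfl (by decide +kernel)

theorem b99 : Block F al 25344 25600 224 :=
  block_of_check (k := 8) rfl (by decide +kernel)

theorem b100 : Block F al 25600 25856 232 :=
  block_of_check (k := 8) rfl (by decide +kernel)

theorem b101 : Block F al 25856 26112 186 :=
  block_of_check (k := 8) rfl (by decide +kernel)

theorem b102 : Block F al 26112 26368 208 :=
  block_of_check (k := 8) rfl (by decide +kernel)

theorem b103 : Block F al 26368 26624 186 :=
  block_of_check (k := 8) rfl (by decide +kernel)

theorem b104 : Block F al 26624 26880 202 :=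
  block_of_check (k := 8) rfl (by decide +kernel)

theorem b105 : Block F al 26880 27136 236 :=
  block_of_check (k := 8) rfl (by decide +kernel)

theorem b106 : Block F al 27136 27392 217 :=
  block_of_check (k := 8) rfl (by decide +kernel)

theorem b107 : Block F al 27392 27648 203 :=
  block_of_check (k := 8) rfl (by decide +kernel)

theorem b108 : Block F al 27648 27904 216 :=
  block_of_check (k := 8) rfl (by decide +kernel)

theorem b109 : Block F al 27904 28160 160 :=
  block_of_check (k := 8) rfl (by decide +kernel)

theorem b110 : Block F al 28160 28416 222 :=
  block_of_check (k := 8) rfl (by decide +kernel)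

theorem b111 : Block F al 28416 28672 207 :=
  block_of_check (k := 8) rfl (by decide +kernel)

theorem b112 : Block F al 28672 28928 221 :=
  block_of_check (k := 8) rfl (by decide +kernel)

theorem b113 : Block F al 28928 29184 246 :=
  block_of_check (k := 8) rfl (by decide +kernel)

theorem b114 : Block F al 29184 29440 208 :=
  block_of_check (k := 8) rfl (by decide +kernel)

theorem b115 : Block F al 29440 29696 212 :=
  block_of_check (k := 8) rfl (by decide +kernel)

theorem b116 : Block F al 29696 29952 232 :=
  block_of_check (k := 8) rfl (by decide +kernel)

theorem b117 : Block F al 29952 30208 212 :=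
  block_of_check (k := 8) rfl (by decide +kernel)

theorem b118 : Block F al 30208 30464 210 :=
  block_of_check (k := 8) rfl (by decide +kernel)

theorem b119 : Block F al 30464 30720 214 :=
  block_of_check (k := 8) rfl (by decide +kernel)

theorem b120 : Block F al 30720 30976 206 :=
  block_of_check (k := 8) rfl (by decide +kernel)

theorem b121 : Block F al 30976 31232 238 :=
  block_of_check (k := 8) rfl (by decide +kernel)

theorem b122 : Block F al 31232 31488 190 :=
  block_of_check (k := 8) rfl (by decide +kernel)

theorem b123 : Block F al 31488 31744 216 :=
  block_of_check (k := 8) rfl (by decide +kernel)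

theorem b124 : Block F al 31744 32000 176 :=
  block_of_check (k := 8) rfl (by decide +kernel)

theorem b125 : Block F al 32000 32256 230 :=
  block_of_check (k := 8) rfl (by decide +kernel)

theorem b126 : Block F al 32256 32512 210 :=
  block_of_check (k := 8) rfl (by decide +kernel)

theorem b127 : Block F al 32512 32768 188 :=
  block_of_check (k := 8) rfl (by decide +kernel)

theorem b128 : Block F al 32768 33024 206 :=
  block_of_check (k := 8) rfl (by decide +kernel)

theorem b129 : Block F al 33024 33280 222 :=
  block_of_check (k := 8) rfl (by decide +kernel)

theorem b130 : Block F al 33280 33536 194 :=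
  block_of_check (k := 8) rfl (by decide +kernel)

theorem b131 : Block F al 33536 33792 212 :=
  block_of_check (k := 8) rfl (by decide +kernel)

theorem b132 : Block F al 33792 34048 174 :=
  block_of_check (k := 8) rfl (by decide +kernel)

theorem b133 : Block F al 34048 34304 224 :=
  block_of_check (k := 8) rfl (by decide +kernel)

theorem b134 : Block F al 34304 34560 212 :=
  block_of_check (k := 8) rfl (by decide +kernel)

theorem b135 : Block F al 34560 34816 222 :=
  block_of_check (k := 8) rfl (by decide +kernel)

theorem b136 : Block F al 34816 35072 208 :=
  block_of_check (k := 8) rfl (by decide +kernel)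

theorem b137 : Block F al 35072 35328 232 :=
  block_of_check (k := 8) rfl (by decide +kernel)

theorem b138 : Block F al 35328 35584 208 :=
  block_of_check (k := 8) rfl (by decide +kernel)

theorem b139 : Block F al 35584 35840 214 :=
  block_of_check (k := 8) rfl (by decide +kernel)

theorem b140 : Block F al 35840 36096 208 :=
  block_of_check (k := 8) rfl (by decide +kernel)

theorem b141 : Block F al 36096 36352 200 :=
  block_of_check (k := 8) rfl (by decide +kernel)

theorem b142 : Block F al 36352 36608 192 :=
  block_of_check (k := 8) rfl (by decide +kernel)

theorem b143 : Block F al 36608 36864 208 :=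
  block_of_check (k := 8) rfl (by decide +kernel)

theorem b144 : Block F al 36864 37120 222 :=
  block_of_check (k := 8) rfl (by decide +kernel)

theorem b145 : Block F al 37120 37376 206 :=
  block_of_check (k := 8) rfl (by decide +kernel)

theorem b146 : Block F al 37376 37632 194 :=
  block_of_check (k := 8) rfl (by decide +kernel)

theorem b147 : Block F al 37632 37888 168 :=
  block_of_check (k := 8) rfl (by decide +kernel)

theorem b148 : Block F al 37888 38144 216 :=
  block_of_check (k := 8) rfl (by decide +kernel)

theorem b149 : Block F al 38144 38400 199 :=
  block_of_check (k := 8) rfl (by decide +kernel)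

theorem b150 : Block F al 38400 38656 179 :=
  block_of_check (k := 8) rfl (by decide +kernel)

theorem b151 : Block F al 38656 38912 200 :=
  block_of_check (k := 8) rfl (by decide +kernel)

theorem b152 : Block F al 38912 39168 206 :=
  block_of_check (k := 8) rfl (by decide +kernel)

theorem b153 : Block F al 39168 39424 183 :=
  block_of_check (k := 8) rfl (by decide +kernel)

theorem b154 : Block F al 39424 39680 189 :=
  block_of_check (k := 8) rfl (by decide +kernel)

theorem b155 : Block F al 39680 39936 197 :=
  block_of_check (k := 8) rfl (by decide +kernel)

theorem b156 : Block F al 39936 40192 179 :=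
  block_of_check (k := 8) rfl (by decide +kernel)

theorem b157 : Block F al 40192 40448 190 :=
  block_of_check (k := 8) rfl (by decide +kernel)

theorem b158 : Block F al 40448 40704 230 :=
  block_of_check (k := 8) rfl (by decide +kernel)

theorem b159 : Block F al 40704 40960 176 :=
  block_of_check (k := 8) rfl (by decide +kernel)

theorem b160 : Block F al 40960 41216 148 :=
  block_of_check (k := 8) rfl (by decide +kernel)

theorem b161 : Block F al 41216 41472 183 :=
  block_of_check (k := 8) rfl (by decide +kernel)

theorem b162 : Block F al 41472 41728 204 :=
  block_of_check (k := 8) rfl (by decide +kernel)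

theorem b163 : Block F al 41728 41984 189 :=
  block_of_check (k := 8) rfl (by decide +kernel)

theorem b164 : Block F al 41984 42240 187 :=
  block_of_check (k := 8) rfl (by decide +kernel)

theorem b165 : Block F al 42240 42496 194 :=
  block_of_check (k := 8) rfl (by decide +kernel)

theorem b166 : Block F al 42496 42752 206 :=
  block_of_check (k := 8) rfl (by decide +kernel)

theorem b167 : Block F al 42752 43008 188 :=
  block_of_check (k := 8) rfl (by decide +kernel)

theorem b168 : Block F al 43008 43264 220 :=
  block_of_check (k := 8) rfl (by decide +kernel)

theorem b169 : Block F al 43264 43520 189 :=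
  block_of_check (k := 8) rfl (by decide +kernel)

theorem b170 : Block F al 43520 43776 142 :=
  block_of_check (k := 8) rfl (by decide +kernel)

theorem b171 : Block F al 43776 44032 187 :=
  block_of_check (k := 8) rfl (by decide +kernel)

theorem b172 : Block F al 44032 44288 168 :=
  block_of_check (k := 8) rfl (by decide +kernel)

theorem b173 : Block F al 44288 44544 155 :=
  block_of_check (k := 8) rfl (by decide +kernel)

theorem b174 : Block F al 44544 44800 165 :=
  block_of_check (k := 8) rfl (by decide +kernel)

theorem b175 : Block F al 44800 45056 180 :=
  block_of_check (k := 8) rfl (by decide +kernel)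

theorem b176 : Block F al 45056 45312 222 :=
  block_of_check (k := 8) rfl (by decide +kernel)

theorem b177 : Block F al 45312 45568 204 :=
  block_of_check (k := 8) rfl (by decide +kernel)

theorem b178 : Block F al 45568 45824 198 :=
  block_of_check (k := 8) rfl (by decide +kernel)

theorem b179 : Block F al 45824 46080 212 :=
  block_of_check (k := 8) rfl (by decide +kernel)

theorem b180 : Block F al 46080 46336 200 :=
  block_of_check (k := 8) rfl (by decide +kernel)

theorem b181 : Block F al 46336 46592 178 :=
  block_of_check (k := 8) rfl (by decide +kernel)

theorem b182 : Block F al 46592 46848 194 :=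
  block_of_check (k := 8) rfl (by decide +kernel)

theorem b183 : Block F al 46848 47104 182 :=
  block_of_check (k := 8) rfl (by decide +kernel)

end Cfsg.Agent.TcData.HNK.R0
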