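import Mathlib
import Cfsg.Agent.TcData.HNK.R0.Tab

set_option autoImplicit false
set_option Elab.async false
set_option maxRecDepth 100000
set_option linter.all false

namespace Cfsg.Agent.TcData.HNK.R0

open Cfsg.Spor Cfsg.Agent.Lib.TcFacts Cfsg.Agent.Lib.TcBits Cfsg.Agent.Lib.TcPres Cfsg.Spor.HN Cfsg.Agent.TcData.HNK

theorem b862 : Block F al 220672 220928 60 :=
  block_of_check (k := 8) rfl (by decide +kernel)

theorem b863 : Block F al 220928 221184 34 :=
  block_of_check (k := 8) rfl (by decide +kernel)

theorem b864 : Block F al 221184 221440 110 :=
  block_of_check (k := 8) rfl (by decide +kernel)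

theorem b865 : Block F al 221440 221696 126 :=
  block_of_check (k := 8) rfl (by decide +kernel)

theorem b866 : Block F al 221696 221952 110 :=
  block_of_check (k := 8) rfl (by decide +kernel)

theorem b867 : Block F al 221952 222208 113 :=
  block_of_check (k := 8) rfl (by decide +kernel)

theorem b868 : Block F al 222208 222464 122 :=
  block_of_check (k := 8) rfl (by decide +kernel)

theorem b869 : Block F al 222464 222720 73 :=
  block_of_check (k := 8) rfl (by decide +kernel)

theorem b870 : Block F al 222720 222976 71 :=
  block_of_check (k := 8) rfl (by decide +kernel)

theorem b871 : Block F al 222976 223232 108 :=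
  block_of_check (k := 8) rfl (by decide +kernel)

theorem b872 : Block F al 223232 223488 23 :=
  block_of_check (k := 8) rfl (by decide +kernel)

theorem b873 : Block F al 223488 223744 23 :=
  block_of_check (k := 8) rfl (by decide +kernel)

theorem b874 : Block F al 223744 224000 107 :=
  block_of_check (k := 8) rfl (by decide +kernel)

theorem b875 : Block F al 224000 224256 101 :=
  block_of_check (k := 8) rfl (by decide +kernel)

theorem b876 : Block F al 224256 224512 103 :=
  block_of_check (k := 8) rfl (by decide +kernel)

theorem b877 : Block F al 224512 224768 106 :=
  block_of_check (k := 8) rfl (by decide +kernel)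

theorem b878 : Block F al 224768 225024 110 :=
  block_of_check (k := 8) rfl (by decide +kernel)

theorem b879 : Block F al 225024 225280 144 :=
  block_of_check (k := 8) rfl (by decide +kernel)

theorem b880 : Block F al 225280 225536 135 :=
  block_of_check (k := 8) rfl (by decide +kernel)

theorem b881 : Block F al 225536 225792 61 :=
  block_of_check (k := 8) rfl (by decide +kernel)

theorem b882 : Block F al 225792 226048 88 :=
  block_of_check (k := 8) rfl (by decide +kernel)

theorem b883 : Block F al 226048 226304 90 :=
  block_of_check (k := 8) rfl (by decide +kernel)

theorem b884 : Block F al 226304 226560 64 :=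
  block_of_check (k := 8) rfl (by decide +kernel)

theorem b885 : Block F al 226560 226816 113 :=
  block_of_check (k := 8) rfl (by decide +kernel)

theorem b886 : Block F al 226816 227072 71 :=
  block_of_check (k := 8) rfl (by decide +kernel)

theorem b887 : Block F al 227072 227328 92 :=
  block_of_check (k := 8) rfl (by decide +kernel)

theorem b888 : Block F al 227328 227584 111 :=
  block_of_check (k := 8) rfl (by decide +kernel)

theorem b889 : Block F al 227584 227840 35 :=
  block_of_check (k := 8) rfl (by decide +kernel)

theorem b890 : Block F al 227840 228096 111 :=
  block_of_check (k := 8) rfl (by decide +kernel)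

theorem b891 : Block F al 228096 228352 83 :=
  block_of_check (k := 8) rfl (by decide +kernel)

theorem b892 : Block F al 228352 228608 80 :=
  block_of_check (k := 8) rfl (by decide +kernel)

theorem b893 : Block F al 228608 228864 66 :=
  block_of_check (k := 8) rfl (by decide +kernel)

theorem b894 : Block F al 228864 229120 89 :=
  block_of_check (k := 8) rfl (by decide +kernel)

theorem b895 : Block F al 229120 229376 141 :=
  block_of_check (k := 8) rfl (by decide +kernel)

theorem b896 : Block F al 229376 229632 122 :=
  block_of_check (k := 8) rfl (by decide +kernel)

theorem b897 : Block F al 229632 229888 112 :=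
  block_of_check (k := 8) rfl (by decide +kernel)

theorem b898 : Block F al 229888 230144 148 :=
  block_of_check (k := 8) rfl (by decide +kernel)

theorem b899 : Block F al 230144 230400 132 :=
  block_of_check (k := 8) rfl (by decide +kernel)

theorem b900 : Block F al 230400 230656 124 :=
  block_of_check (k := 8) rfl (by decide +kernel)

theorem b901 : Block F al 230656 230912 98 :=
  block_of_check (k := 8) rfl (by decide +kernel)

theorem b902 : Block F al 230912 231168 59 :=
  block_of_check (k := 8) rfl (by decide +kernel)

theorem b903 : Block F al 231168 231424 81 :=
  block_of_check (k := 8) rfl (by decide +kernel)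

theorem b904 : Block F al 231424 231680 104 :=
  block_of_check (k := 8) rfl (by decide +kernel)

theorem b905 : Block F al 231680 231936 79 :=
  block_of_check (k := 8) rfl (by decide +kernel)

theorem b906 : Block F al 231936 232192 105 :=
  block_of_check (k := 8) rfl (by decide +kernel)

theorem b907 : Block F al 232192 232448 94 :=
  block_of_check (k := 8) rfl (by decide +kernel)

theorem b908 : Block F al 232448 232704 69 :=
  block_of_check (k := 8) rfl (by decide +kernel)

theorem b909 : Block F al 232704 232960 53 :=
  block_of_check (k := 8) rfl (by decide +kernel)

theorem b910 : Block F al 232960 233216 66 :=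
  block_of_check (k := 8) rfl (by decide +kernel)

theorem b911 : Block F al 233216 233472 64 :=
  block_of_check (k := 8) rfl (by decide +kernel)

theorem b912 : Block F al 233472 233728 40 :=
  block_of_check (k := 8) rfl (by decide +kernel)

theorem b913 : Block F al 233728 233984 50 :=
  block_of_check (k := 8) rfl (by decide +kernel)

theorem b914 : Block F al 233984 234240 89 :=
  block_of_check (k := 8) rfl (by decide +kernel)

theorem b915 : Block F al 234240 234496 67 :=
  block_of_check (k := 8) rfl (by decide +kernel)

theorem b916 : Block F al 234496 234752 106 :=
  block_of_check (k := 8) rfl (by decide +kernel)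

theorem b917 : Block F al 234752 235008 105 :=
  block_of_check (k := 8) rfl (by decide +kernel)

theorem b918 : Block F al 235008 235264 155 :=
  block_of_check (k := 8) rfl (by decide +kernel)

theorem b919 : Block F al 235264 235520 152 :=
  block_of_check (k := 8) rfl (by decide +kernel)

theorem b920 : Block F al 235520 235776 146 :=
  block_of_check (k := 8) rfl (by decide +kernel)

theorem b921 : Block F al 235776 236032 124 :=
  block_of_check (k := 8) rfl (by decide +kernel)

theorem b922 : Block F al 236032 236288 124 :=
  block_of_check (k := 8) rfl (by decide +kernel)

theorem b923 : Block F al 236288 236544 40 :=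
  block_of_check (k := 8) rfl (by decide +kernel)

theorem b924 : Block F al 236544 236800 91 :=
  block_of_check (k := 8) rfl (by decide +kernel)

theorem b925 : Block F al 236800 237056 87 :=
  block_of_check (k := 8) rfl (by decide +kernel)

theorem b926 : Block F al 237056 237312 132 :=
  block_of_check (k := 8) rfl (by decide +kernel)

theorem b927 : Block F al 237312 237568 142 :=
  block_of_check (k := 8) rfl (by decide +kernel)

theorem b928 : Block F al 237568 237824 68 :=
  block_of_check (k := 8) rfl (by decide +kernel)

theorem b929 : Block F al 237824 238080 96 :=
  block_of_check (k := 8) rfl (by decide +kernel)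

theorem b930 : Block F al 238080 238336 120 :=
  block_of_check (k := 8) rfl (by decide +kernel)

theorem b931 : Block F al 238336 238592 116 :=
  block_of_check (k := 8) rfl (by decide +kernel)

theorem b932 : Block F al 238592 238848 78 :=
  block_of_check (k := 8) rfl (by decide +kernel)

theorem b933 : Block F al 238848 239104 84 :=
  block_of_check (k := 8) rfl (by decide +kernel)

theorem b934 : Block F al 239104 239360 94 :=
  block_of_check (k := 8) rfl (by decide +kernel)

theorem b935 : Block F al 239360 239616 109 :=
  block_of_check (k := 8) rfl (by decide +kernel)

theorem b936 : Block F al 239616 239872 105 :=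
  block_of_check (k := 8) rfl (by decide +kernel)

theorem b937 : Block F al 239872 240128 110 :=
  block_of_check (k := 8) rfl (by decide +kernel)

theorem b938 : Block F al 240128 240384 92 :=
  block_of_check (k := 8) rfl (by decide +kernel)

theorem b939 : Block F al 240384 240640 120 :=
  block_of_check (k := 8) rfl (by decide +kernel)

theorem b940 : Block F al 240640 240896 86 :=
  block_of_check (k := 8) rfl (by decide +kernel)

theorem b941 : Block F al 240896 241152 68 :=
  block_of_check (k := 8) rfl (by decide +kernel)

theorem b942 : Block F al 241152 241408 52 :=
  block_of_check (k := 8) rfl (by decide +kernel)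

theorem b943 : Block F al 241408 241664 62 :=
  block_of_check (k := 8) rfl (by decide +kernel)

theorem b944 : Block F al 241664 241920 82 :=
  block_of_check (k := 8) rfl (by decide +kernel)

theorem b945 : Block F al 241920 242176 74 :=
  block_of_check (k := 8) rfl (by decide +kernel)

theorem b946 : Block F al 242176 242432 74 :=
  block_of_check (k := 8) rfl (by decide +kernel)

end Cfsg.Agent.TcData.HNK.R0
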