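import Mathlib
import Cfsg.Agent.TcData.HNK.R0.Tab

set_option autoImplicit false
set_option Elab.async false
set_option maxRecDepth 100000
set_option linter.all false

namespace Cfsg.Agent.TcData.HNK.R0

open Cfsg.Spor Cfsg.Agent.Lib.TcFacts Cfsg.Agent.Lib.TcBits Cfsg.Agent.Lib.TcPres Cfsg.Spor.HN Cfsg.Agent.TcData.HNK

theorem b947 : Block F al 242432 242688 136 :=
  block_of_check (k := 8) rfl (by decide +kernel)

theorem b948 : Block F al 242688 242944 126 :=
  block_of_check (k := 8) rfl (by decide +kernel)

theorem b949 : Block F al 242944 243200 100 :=
  block_of_check (k := 8) rfl (by decide +kernel)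

theorem b950 : Block F al 243200 243456 106 :=
  block_of_check (k := 8) rfl (by decide +kernel)

theorem b951 : Block F al 243456 243712 97 :=
  block_of_check (k := 8) rfl (by decide +kernel)

theorem b952 : Block F al 243712 243968 110 :=
  block_of_check (k := 8) rfl (by decide +kernel)

theorem b953 : Block F al 243968 244224 141 :=
  block_of_check (k := 8) rfl (by decide +kernel)

theorem b954 : Block F al 244224 244480 64 :=
  block_of_check (k := 8) rfl (by decide +kernel)

theorem b955 : Block F al 244480 244736 50 :=
  block_of_check (k := 8) rfl (by decide +kernel)

theorem b956 : Block F al 244736 244992 38 :=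
  block_of_check (k := 8) rfl (by decide +kernel)

theorem b957 : Block F al 244992 245248 108 :=
  block_of_check (k := 8) rfl (by decide +kernel)

theorem b958 : Block F al 245248 245504 56 :=
  block_of_check (k := 8) rfl (by decide +kernel)

theorem b959 : Block F al 245504 245760 121 :=
  block_of_check (k := 8) rfl (by decide +kernel)

theorem b960 : Block F al 245760 246016 112 :=
  block_of_check (k := 8) rfl (by decide +kernel)

theorem b961 : Block F al 246016 246272 133 :=
  block_of_check (k := 8) rfl (by decide +kernel)

theorem b962 : Block F al 246272 246528 126 :=
  block_of_check (k := 8) rfl (by decide +kernel)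

theorem b963 : Block F al 246528 246784 70 :=
  block_of_check (k := 8) rfl (by decide +kernel)

theorem b964 : Block F al 246784 247040 66 :=
  block_of_check (k := 8) rfl (by decide +kernel)

theorem b965 : Block F al 247040 247296 124 :=
  block_of_check (k := 8) rfl (by decide +kernel)

theorem b966 : Block F al 247296 247552 89 :=
  block_of_check (k := 8) rfl (by decide +kernel)

theorem b967 : Block F al 247552 247808 50 :=
  block_of_check (k := 8) rfl (by decide +kernel)

theorem b968 : Block F al 247808 248064 157 :=
  block_of_check (k := 8) rfl (by decide +kernel)

theorem b969 : Block F al 248064 248320 70 :=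
  block_of_check (k := 8) rfl (by decide +kernel)

theorem b970 : Block F al 248320 248576 106 :=
  block_of_check (k := 8) rfl (by decide +kernel)

theorem b971 : Block F al 248576 248832 80 :=
  block_of_check (k := 8) rfl (by decide +kernel)

theorem b972 : Block F al 248832 249088 46 :=
  block_of_check (k := 8) rfl (by decide +kernel)

theorem b973 : Block F al 249088 249344 70 :=
  block_of_check (k := 8) rfl (by decide +kernel)

theorem b974 : Block F al 249344 249600 83 :=
  block_of_check (k := 8) rfl (by decide +kernel)

theorem b975 : Block F al 249600 249856 114 :=
  block_of_check (k := 8) rfl (by decide +kernel)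

theorem b976 : Block F al 249856 250112 79 :=
  block_of_check (k := 8) rfl (by decide +kernel)

theorem b977 : Block F al 250112 250368 118 :=
  block_of_check (k := 8) rfl (by decide +kernel)

theorem b978 : Block F al 250368 250624 100 :=
  block_of_check (k := 8) rfl (by decide +kernel)

theorem b979 : Block F al 250624 250880 108 :=
  block_of_check (k := 8) rfl (by decide +kernel)

theorem b980 : Block F al 250880 251136 71 :=
  block_of_check (k := 8) rfl (by decide +kernel)

theorem b981 : Block F al 251136 251392 45 :=
  block_of_check (k := 8) rfl (by decide +kernel)

theorem b982 : Block F al 251392 251648 26 :=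
  block_of_check (k := 8) rfl (by decide +kernel)

theorem b983 : Block F al 251648 251904 116 :=
  block_of_check (k := 8) rfl (by decide +kernel)

theorem b984 : Block F al 251904 252160 58 :=
  block_of_check (k := 8) rfl (by decide +kernel)

theorem b985 : Block F al 252160 252416 49 :=
  block_of_check (k := 8) rfl (by decide +kernel)

theorem b986 : Block F al 252416 252672 81 :=
  block_of_check (k := 8) rfl (by decide +kernel)

theorem b987 : Block F al 252672 252928 94 :=
  block_of_check (k := 8) rfl (by decide +kernel)

theorem b988 : Block F al 252928 253184 88 :=
  block_of_check (k := 8) rfl (by decide +kernel)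

theorem b989 : Block F al 253184 253440 68 :=
  block_of_check (k := 8) rfl (by decide +kernel)

theorem b990 : Block F al 253440 253696 94 :=
  block_of_check (k := 8) rfl (by decide +kernel)

theorem b991 : Block F al 253696 253952 154 :=
  block_of_check (k := 8) rfl (by decide +kernel)

theorem b992 : Block F al 253952 254208 48 :=
  block_of_check (k := 8) rfl (by decide +kernel)

theorem b993 : Block F al 254208 254464 115 :=
  block_of_check (k := 8) rfl (by decide +kernel)

theorem b994 : Block F al 254464 254720 127 :=
  block_of_check (k := 8) rfl (by decide +kernel)

theorem b995 : Block F al 254720 254976 94 :=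
  block_of_check (k := 8) rfl (by decide +kernel)

theorem b996 : Block F al 254976 255232 96 :=
  block_of_check (k := 8) rfl (by decide +kernel)

theorem b997 : Block F al 255232 255488 103 :=
  block_of_check (k := 8) rfl (by decide +kernel)

theorem b998 : Block F al 255488 255744 25 :=
  block_of_check (k := 8) rfl (by decide +kernel)

theorem b999 : Block F al 255744 256000 92 :=
  block_of_check (k := 8) rfl (by decide +kernel)

theorem b1000 : Block F al 256000 256256 126 :=
  block_of_check (k := 8) rfl (by decide +kernel)

theorem b1001 : Block F al 256256 256512 63 :=
  block_of_check (k := 8) rfl (by decide +kernel)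

theorem b1002 : Block F al 256512 256768 114 :=
  block_of_check (k := 8) rfl (by decide +kernel)

theorem b1003 : Block F al 256768 257024 111 :=
  block_of_check (k := 8) rfl (by decide +kernel)

theorem b1004 : Block F al 257024 257280 132 :=
  block_of_check (k := 8) rfl (by decide +kernel)

theorem b1005 : Block F al 257280 257536 42 :=
  block_of_check (k := 8) rfl (by decide +kernel)

theorem b1006 : Block F al 257536 257792 90 :=
  block_of_check (k := 8) rfl (by decide +kernel)

theorem b1007 : Block F al 257792 258048 50 :=
  block_of_check (k := 8) rfl (by decide +kernel)

theorem b1008 : Block F al 258048 258304 78 :=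
  block_of_check (k := 8) rfl (by decide +kernel)

theorem b1009 : Block F al 258304 258560 88 :=
  block_of_check (k := 8) rfl (by decide +kernel)

theorem b1010 : Block F al 258560 258816 104 :=
  block_of_check (k := 8) rfl (by decide +kernel)

theorem b1011 : Block F al 258816 259072 89 :=
  block_of_check (k := 8) rfl (by decide +kernel)

theorem b1012 : Block F al 259072 259328 55 :=
  block_of_check (k := 8) rfl (by decide +kernel)

theorem b1013 : Block F al 259328 259584 82 :=
  block_of_check (k := 8) rfl (by decide +kernel)

theorem b1014 : Block F al 259584 259840 38 :=
  block_of_check (k := 8) rfl (by decide +kernel)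

theorem b1015 : Block F al 259840 260096 51 :=
  block_of_check (k := 8) rfl (by decide +kernel)

theorem b1016 : Block F al 260096 260352 80 :=
  block_of_check (k := 8) rfl (by decide +kernel)

theorem b1017 : Block F al 260352 260608 95 :=
  block_of_check (k := 8) rfl (by decide +kernel)

theorem b1018 : Block F al 260608 260864 135 :=
  block_of_check (k := 8) rfl (by decide +kernel)

theorem b1019 : Block F al 260864 261120 87 :=
  block_of_check (k := 8) rfl (by decide +kernel)

theorem b1020 : Block F al 261120 261376 95 :=
  block_of_check (k := 8) rfl (by decide +kernel)

theorem b1021 : Block F al 261376 261632 107 :=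
  block_of_check (k := 8) rfl (by decide +kernel)

theorem b1022 : Block F al 261632 261888 40 :=
  block_of_check (k := 8) rfl (by decide +kernel)

theorem b1023 : Block F al 261888 262144 98 :=
  block_of_check (k := 8) rfl (by decide +kernel)

theorem b1024 : Block F al 262144 262400 68 :=
  block_of_check (k := 8) rfl (by decide +kernel)

theorem b1025 : Block F al 262400 262656 50 :=
  block_of_check (k := 8) rfl (by decide +kernel)

theorem b1026 : Block F al 262656 262912 64 :=
  block_of_check (k := 8) rfl (by decide +kernel)

theorem b1027 : Block F al 262912 263168 62 :=
  block_of_check (k := 8) rfl (by decide +kernel)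

theorem b1028 : Block F al 263168 263424 56 :=
  block_of_check (k := 8) rfl (by decide +kernel)

theorem b1029 : Block F al 263424 263680 50 :=
  block_of_check (k := 8) rfl (by decide +kernel)

theorem b1030 : Block F al 263680 263936 99 :=
  block_of_check (k := 8) rfl (by decide +kernel)

theorem b1031 : Block F al 263936 264192 85 :=
  block_of_check (k := 8) rfl (by decide +kernel)

end Cfsg.Agent.TcData.HNK.R0
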