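import Mathlib
import Cfsg.Agent.TcData.HNK.R0.Tab

set_option autoImplicit false
set_option Elab.async false
set_option maxRecDepth 100000
set_option linter.all false

namespace Cfsg.Agent.TcData.HNK.R0

open Cfsg.Spor Cfsg.Agent.Lib.TcFacts Cfsg.Agent.Lib.TcBits Cfsg.Agent.Lib.TcPres Cfsg.Spor.HN Cfsg.Agent.TcData.HNK

theorem b1032 : Block F al 264192 264448 91 :=
  block_of_check (k := 8) rfl (by decide +kernel)

theorem b1033 : Block F al 264448 264704 71 :=
  block_of_check (k := 8) rfl (by decide +kernel)

theorem b1034 : Block F al 264704 264960 124 :=
  block_of_check (k := 8) rfl (by decide +kernel)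

theorem b1035 : Block F al 264960 265216 70 :=
  block_of_check (k := 8) rfl (by decide +kernel)

theorem b1036 : Block F al 265216 265472 80 :=
  block_of_check (k := 8) rfl (by decide +kernel)

theorem b1037 : Block F al 265472 265728 70 :=
  block_of_check (k := 8) rfl (by decide +kernel)

theorem b1038 : Block F al 265728 265984 62 :=
  block_of_check (k := 8) rfl (by decide +kernel)

theorem b1039 : Block F al 265984 266240 53 :=
  block_of_check (k := 8) rfl (by decide +kernel)

theorem b1040 : Block F al 266240 266496 79 :=
  block_of_check (k := 8) rfl (by decide +kernel)

theorem b1041 : Block F al 266496 266752 31 :=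
  block_of_check (k := 8) rfl (by decide +kernel)

theorem b1042 : Block F al 266752 267008 73 :=
  block_of_check (k := 8) rfl (by decide +kernel)

theorem b1043 : Block F al 267008 267264 110 :=
  block_of_check (k := 8) rfl (by decide +kernel)

theorem b1044 : Block F al 267264 267520 74 :=
  block_of_check (k := 8) rfl (by decide +kernel)

theorem b1045 : Block F al 267520 267776 104 :=
  block_of_check (k := 8) rfl (by decide +kernel)

theorem b1046 : Block F al 267776 268032 134 :=
  block_of_check (k := 8) rfl (by decide +kernel)

theorem b1047 : Block F al 268032 268288 146 :=
  block_of_check (k := 8) rfl (by decide +kernel)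

theorem b1048 : Block F al 268288 268544 100 :=
  block_of_check (k := 8) rfl (by decide +kernel)

theorem b1049 : Block F al 268544 268800 103 :=
  block_of_check (k := 8) rfl (by decide +kernel)

theorem b1050 : Block F al 268800 269056 85 :=
  block_of_check (k := 8) rfl (by decide +kernel)

theorem b1051 : Block F al 269056 269312 64 :=
  block_of_check (k := 8) rfl (by decide +kernel)

theorem b1052 : Block F al 269312 269568 44 :=
  block_of_check (k := 8) rfl (by decide +kernel)

theorem b1053 : Block F al 269568 269824 90 :=
  block_of_check (k := 8) rfl (by decide +kernel)

theorem b1054 : Block F al 269824 270080 46 :=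
  block_of_check (k := 8) rfl (by decide +kernel)

theorem b1055 : Block F al 270080 270336 97 :=
  block_of_check (k := 8) rfl (by decide +kernel)

theorem b1056 : Block F al 270336 270592 127 :=
  block_of_check (k := 8) rfl (by decide +kernel)

theorem b1057 : Block F al 270592 270848 58 :=
  block_of_check (k := 8) rfl (by decide +kernel)

theorem b1058 : Block F al 270848 271104 96 :=
  block_of_check (k := 8) rfl (by decide +kernel)

theorem b1059 : Block F al 271104 271360 89 :=
  block_of_check (k := 8) rfl (by decide +kernel)

theorem b1060 : Block F al 271360 271616 87 :=
  block_of_check (k := 8) rfl (by decide +kernel)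

theorem b1061 : Block F al 271616 271872 124 :=
  block_of_check (k := 8) rfl (by decide +kernel)

theorem b1062 : Block F al 271872 272128 67 :=
  block_of_check (k := 8) rfl (by decide +kernel)

theorem b1063 : Block F al 272128 272384 93 :=
  block_of_check (k := 8) rfl (by decide +kernel)

theorem b1064 : Block F al 272384 272640 86 :=
  block_of_check (k := 8) rfl (by decide +kernel)

theorem b1065 : Block F al 272640 272896 90 :=
  block_of_check (k := 8) rfl (by decide +kernel)

theorem b1066 : Block F al 272896 273152 86 :=
  block_of_check (k := 8) rfl (by decide +kernel)

theorem b1067 : Block F al 273152 273408 40 :=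
  block_of_check (k := 8) rfl (by decide +kernel)

theorem b1068 : Block F al 273408 273664 43 :=
  block_of_check (k := 8) rfl (by decide +kernel)

theorem b1069 : Block F al 273664 273920 96 :=
  block_of_check (k := 8) rfl (by decide +kernel)

theorem b1070 : Block F al 273920 274176 92 :=
  block_of_check (k := 8) rfl (by decide +kernel)

theorem b1071 : Block F al 274176 274432 49 :=
  block_of_check (k := 8) rfl (by decide +kernel)

theorem b1072 : Block F al 274432 274688 38 :=
  block_of_check (k := 8) rfl (by decide +kernel)

theorem b1073 : Block F al 274688 274944 57 :=
  block_of_check (k := 8) rfl (by decide +kernel)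

theorem b1074 : Block F al 274944 275200 62 :=
  block_of_check (k := 8) rfl (by decide +kernel)

theorem b1075 : Block F al 275200 275456 71 :=
  block_of_check (k := 8) rfl (by decide +kernel)

theorem b1076 : Block F al 275456 275712 108 :=
  block_of_check (k := 8) rfl (by decide +kernel)

theorem b1077 : Block F al 275712 275968 97 :=
  block_of_check (k := 8) rfl (by decide +kernel)

theorem b1078 : Block F al 275968 276224 106 :=
  block_of_check (k := 8) rfl (by decide +kernel)

theorem b1079 : Block F al 276224 276480 77 :=
  block_of_check (k := 8) rfl (by decide +kernel)

theorem b1080 : Block F al 276480 276736 70 :=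
  block_of_check (k := 8) rfl (by decide +kernel)

theorem b1081 : Block F al 276736 276992 92 :=
  block_of_check (k := 8) rfl (by decide +kernel)

theorem b1082 : Block F al 276992 277248 72 :=
  block_of_check (k := 8) rfl (by decide +kernel)

theorem b1083 : Block F al 277248 277504 76 :=
  block_of_check (k := 8) rfl (by decide +kernel)

theorem b1084 : Block F al 277504 277760 62 :=
  block_of_check (k := 8) rfl (by decide +kernel)

theorem b1085 : Block F al 277760 278016 40 :=
  block_of_check (k := 8) rfl (by decide +kernel)

theorem b1086 : Block F al 278016 278272 72 :=
  block_of_check (k := 8) rfl (by decide +kernel)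

theorem b1087 : Block F al 278272 278528 58 :=
  block_of_check (k := 8) rfl (by decide +kernel)

theorem b1088 : Block F al 278528 278784 66 :=
  block_of_check (k := 8) rfl (by decide +kernel)

theorem b1089 : Block F al 278784 279040 46 :=
  block_of_check (k := 8) rfl (by decide +kernel)

theorem b1090 : Block F al 279040 279296 71 :=
  block_of_check (k := 8) rfl (by decide +kernel)

theorem b1091 : Block F al 279296 279552 83 :=
  block_of_check (k := 8) rfl (by decide +kernel)

theorem b1092 : Block F al 279552 279808 66 :=
  block_of_check (k := 8) rfl (by decide +kernel)

theorem b1093 : Block F al 279808 280064 78 :=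
  block_of_check (k := 8) rfl (by decide +kernel)

theorem b1094 : Block F al 280064 280320 72 :=
  block_of_check (k := 8) rfl (by decide +kernel)

theorem b1095 : Block F al 280320 280576 41 :=
  block_of_check (k := 8) rfl (by decide +kernel)

theorem b1096 : Block F al 280576 280832 47 :=
  block_of_check (k := 8) rfl (by decide +kernel)

theorem b1097 : Block F al 280832 281088 62 :=
  block_of_check (k := 8) rfl (by decide +kernel)

theorem b1098 : Block F al 281088 281344 44 :=
  block_of_check (k := 8) rfl (by decide +kernel)

theorem b1099 : Block F al 281344 281600 84 :=
  block_of_check (k := 8) rfl (by decide +kernel)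

theorem b1100 : Block F al 281600 281856 58 :=
  block_of_check (k := 8) rfl (by decide +kernel)

theorem b1101 : Block F al 281856 282112 28 :=
  block_of_check (k := 8) rfl (by decide +kernel)

theorem b1102 : Block F al 282112 282368 72 :=
  block_of_check (k := 8) rfl (by decide +kernel)

theorem b1103 : Block F al 282368 282624 32 :=
  block_of_check (k := 8) rfl (by decide +kernel)

theorem b1104 : Block F al 282624 282880 58 :=
  block_of_check (k := 8) rfl (by decide +kernel)

theorem b1105 : Block F al 282880 283136 68 :=
  block_of_check (k := 8) rfl (by decide +kernel)

theorem b1106 : Block F al 283136 283392 90 :=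
  block_of_check (k := 8) rfl (by decide +kernel)

theorem b1107 : Block F al 283392 283648 97 :=
  block_of_check (k := 8) rfl (by decide +kernel)

theorem b1108 : Block F al 283648 283904 91 :=
  block_of_check (k := 8) rfl (by decide +kernel)

theorem b1109 : Block F al 283904 284160 70 :=
  block_of_check (k := 8) rfl (by decide +kernel)

theorem b1110 : Block F al 284160 284416 46 :=
  block_of_check (k := 8) rfl (by decide +kernel)

theorem b1111 : Block F al 284416 284672 75 :=
  block_of_check (k := 8) rfl (by decide +kernel)

theorem b1112 : Block F al 284672 284928 91 :=
  block_of_check (k := 8) rfl (by decide +kernel)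

theorem b1113 : Block F al 284928 285184 120 :=
  block_of_check (k := 8) rfl (by decide +kernel)

theorem b1114 : Block F al 285184 285440 66 :=
  block_of_check (k := 8) rfl (by decide +kernel)

theorem b1115 : Block F al 285440 285696 95 :=
  block_of_check (k := 8) rfl (by decide +kernel)

theorem b1116 : Block F al 285696 285952 119 :=
  block_of_check (k := 8) rfl (by decide +kernel)

end Cfsg.Agent.TcData.HNK.R0
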