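import Mathlib
import Cfsg.Agent.TcData.HNK.R0.Tab

set_option autoImplicit false
set_option Elab.async false
set_option maxRecDepth 100000
set_option linter.all false

namespace Cfsg.Agent.TcData.HNK.R0

open Cfsg.Spor Cfsg.Agent.Lib.TcFacts Cfsg.Agent.Lib.TcBits Cfsg.Agent.Lib.TcPres Cfsg.Spor.HN Cfsg.Agent.TcData.HNK

theorem b1201 : Block F al 307456 307712 32 :=
  block_of_check (k := 8) rfl (by decide +kernel)

theorem b1202 : Block F al 307712 307968 18 :=
  block_of_check (k := 8) rfl (by decide +kernel)

theorem b1203 : Block F al 307968 308224 50 :=
  block_of_check (k := 8) rfl (by decide +kernel)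

theorem b1204 : Block F al 308224 308480 85 :=
  block_of_check (k := 8) rfl (by decide +kernel)

theorem b1205 : Block F al 308480 308736 66 :=
  block_of_check (k := 8) rfl (by decide +kernel)

theorem b1206 : Block F al 308736 308992 107 :=
  block_of_check (k := 8) rfl (by decide +kernel)

theorem b1207 : Block F al 308992 309248 60 :=
  block_of_check (k := 8) rfl (by decide +kernel)

theorem b1208 : Block F al 309248 309504 38 :=
  block_of_check (k := 8) rfl (by decide +kernel)

theorem b1209 : Block F al 309504 309760 12 :=
  block_of_check (k := 8) rfl (by decide +kernel)

theorem b1210 : Block F al 309760 310016 62 :=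
  block_of_check (k := 8) rfl (by decide +kernel)

theorem b1211 : Block F al 310016 310272 102 :=
  block_of_check (k := 8) rfl (by decide +kernel)

theorem b1212 : Block F al 310272 310528 112 :=
  block_of_check (k := 8) rfl (by decide +kernel)

theorem b1213 : Block F al 310528 310784 101 :=
  block_of_check (k := 8) rfl (by decide +kernel)

theorem b1214 : Block F al 310784 311040 83 :=
  block_of_check (k := 8) rfl (by decide +kernel)

theorem b1215 : Block F al 311040 311296 42 :=
  block_of_check (k := 8) rfl (by decide +kernel)

theorem b1216 : Block F al 311296 311552 16 :=
  block_of_check (k := 8) rfl (by decide +kernel)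

theorem b1217 : Block F al 311552 311808 46 :=
  block_of_check (k := 8) rfl (by decide +kernel)

theorem b1218 : Block F al 311808 312064 36 :=
  block_of_check (k := 8) rfl (by decide +kernel)

theorem b1219 : Block F al 312064 312320 42 :=
  block_of_check (k := 8) rfl (by decide +kernel)

theorem b1220 : Block F al 312320 312576 58 :=
  block_of_check (k := 8) rfl (by decide +kernel)

theorem b1221 : Block F al 312576 312832 78 :=
  block_of_check (k := 8) rfl (by decide +kernel)

theorem b1222 : Block F al 312832 313088 113 :=
  block_of_check (k := 8) rfl (by decide +kernel)

theorem b1223 : Block F al 313088 313344 69 :=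
  block_of_check (k := 8) rfl (by decide +kernel)

theorem b1224 : Block F al 313344 313600 18 :=
  block_of_check (k := 8) rfl (by decide +kernel)

theorem b1225 : Block F al 313600 313856 91 :=
  block_of_check (k := 8) rfl (by decide +kernel)

theorem b1226 : Block F al 313856 314112 120 :=
  block_of_check (k := 8) rfl (by decide +kernel)

theorem b1227 : Block F al 314112 314368 49 :=
  block_of_check (k := 8) rfl (by decide +kernel)

theorem b1228 : Block F al 314368 314624 70 :=
  block_of_check (k := 8) rfl (by decide +kernel)

theorem b1229 : Block F al 314624 314880 86 :=
  block_of_check (k := 8) rfl (by decide +kernel)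

theorem b1230 : Block F al 314880 315136 122 :=
  block_of_check (k := 8) rfl (by decide +kernel)

theorem b1231 : Block F al 315136 315392 58 :=
  block_of_check (k := 8) rfl (by decide +kernel)

theorem b1232 : Block F al 315392 315648 77 :=
  block_of_check (k := 8) rfl (by decide +kernel)

theorem b1233 : Block F al 315648 315904 107 :=
  block_of_check (k := 8) rfl (by decide +kernel)

theorem b1234 : Block F al 315904 316160 95 :=
  block_of_check (k := 8) rfl (by decide +kernel)

theorem b1235 : Block F al 316160 316416 105 :=
  block_of_check (k := 8) rfl (by decide +kernel)

theorem b1236 : Block F al 316416 316672 72 :=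
  block_of_check (k := 8) rfl (by decide +kernel)

theorem b1237 : Block F al 316672 316928 52 :=
  block_of_check (k := 8) rfl (by decide +kernel)

theorem b1238 : Block F al 316928 317184 42 :=
  block_of_check (k := 8) rfl (by decide +kernel)

theorem b1239 : Block F al 317184 317440 38 :=
  block_of_check (k := 8) rfl (by decide +kernel)

theorem b1240 : Block F al 317440 317696 34 :=
  block_of_check (k := 8) rfl (by decide +kernel)

theorem b1241 : Block F al 317696 317952 32 :=
  block_of_check (k := 8) rfl (by decide +kernel)

theorem b1242 : Block F al 317952 318208 80 :=
  block_of_check (k := 8) rfl (by decide +kernel)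

theorem b1243 : Block F al 318208 318464 24 :=
  block_of_check (k := 8) rfl (by decide +kernel)

theorem b1244 : Block F al 318464 318720 70 :=
  block_of_check (k := 8) rfl (by decide +kernel)

theorem b1245 : Block F al 318720 318976 48 :=
  block_of_check (k := 8) rfl (by decide +kernel)

theorem b1246 : Block F al 318976 319232 56 :=
  block_of_check (k := 8) rfl (by decide +kernel)

theorem b1247 : Block F al 319232 319488 18 :=
  block_of_check (k := 8) rfl (by decide +kernel)

theorem b1248 : Block F al 319488 319744 40 :=
  block_of_check (k := 8) rfl (by decide +kernel)

theorem b1249 : Block F al 319744 320000 96 :=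
  block_of_check (k := 8) rfl (by decide +kernel)

theorem b1250 : Block F al 320000 320256 78 :=
  block_of_check (k := 8) rfl (by decide +kernel)

theorem b1251 : Block F al 320256 320512 58 :=
  block_of_check (k := 8) rfl (by decide +kernel)

theorem b1252 : Block F al 320512 320768 77 :=
  block_of_check (k := 8) rfl (by decide +kernel)

theorem b1253 : Block F al 320768 321024 37 :=
  block_of_check (k := 8) rfl (by decide +kernel)

theorem b1254 : Block F al 321024 321280 30 :=
  block_of_check (k := 8) rfl (by decide +kernel)

theorem b1255 : Block F al 321280 321536 42 :=
  block_of_check (k := 8) rfl (by decide +kernel)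

theorem b1256 : Block F al 321536 321792 94 :=
  block_of_check (k := 8) rfl (by decide +kernel)

theorem b1257 : Block F al 321792 322048 95 :=
  block_of_check (k := 8) rfl (by decide +kernel)

theorem b1258 : Block F al 322048 322304 65 :=
  block_of_check (k := 8) rfl (by decide +kernel)

theorem b1259 : Block F al 322304 322560 79 :=
  block_of_check (k := 8) rfl (by decide +kernel)

theorem b1260 : Block F al 322560 322816 150 :=
  block_of_check (k := 8) rfl (by decide +kernel)

theorem b1261 : Block F al 322816 323072 91 :=
  block_of_check (k := 8) rfl (by decide +kernel)

theorem b1262 : Block F al 323072 323328 68 :=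
  block_of_check (k := 8) rfl (by decide +kernel)

theorem b1263 : Block F al 323328 323584 58 :=
  block_of_check (k := 8) rfl (by decide +kernel)

theorem b1264 : Block F al 323584 323840 92 :=
  block_of_check (k := 8) rfl (by decide +kernel)

theorem b1265 : Block F al 323840 324096 52 :=
  block_of_check (k := 8) rfl (by decide +kernel)

theorem b1266 : Block F al 324096 324352 58 :=
  block_of_check (k := 8) rfl (by decide +kernel)

theorem b1267 : Block F al 324352 324608 32 :=
  block_of_check (k := 8) rfl (by decide +kernel)

theorem b1268 : Block F al 324608 324864 60 :=
  block_of_check (k := 8) rfl (by decide +kernel)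

theorem b1269 : Block F al 324864 325120 96 :=
  block_of_check (k := 8) rfl (by decide +kernel)

theorem b1270 : Block F al 325120 325376 65 :=
  block_of_check (k := 8) rfl (by decide +kernel)

theorem b1271 : Block F al 325376 325632 61 :=
  block_of_check (k := 8) rfl (by decide +kernel)

theorem b1272 : Block F al 325632 325888 86 :=
  block_of_check (k := 8) rfl (by decide +kernel)

theorem b1273 : Block F al 325888 326144 78 :=
  block_of_check (k := 8) rfl (by decide +kernel)

theorem b1274 : Block F al 326144 326400 22 :=
  block_of_check (k := 8) rfl (by decide +kernel)

theorem b1275 : Block F al 326400 326656 64 :=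
  block_of_check (k := 8) rfl (by decide +kernel)

theorem b1276 : Block F al 326656 326912 80 :=
  block_of_check (k := 8) rfl (by decide +kernel)

theorem b1277 : Block F al 326912 327168 40 :=
  block_of_check (k := 8) rfl (by decide +kernel)

theorem b1278 : Block F al 327168 327424 32 :=
  block_of_check (k := 8) rfl (by decide +kernel)

theorem b1279 : Block F al 327424 327680 30 :=
  block_of_check (k := 8) rfl (by decide +kernel)

theorem b1280 : Block F al 327680 327936 81 :=
  block_of_check (k := 8) rfl (by decide +kernel)

theorem b1281 : Block F al 327936 328192 35 :=
  block_of_check (k := 8) rfl (by decide +kernel)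

theorem b1282 : Block F al 328192 328448 86 :=
  block_of_check (k := 8) rfl (by decide +kernel)

theorem b1283 : Block F al 328448 328704 92 :=
  block_of_check (k := 8) rfl (by decide +kernel)

theorem b1284 : Block F al 328704 328960 78 :=
  block_of_check (k := 8) rfl (by decide +kernel)

theorem b1285 : Block F al 328960 329216 34 :=
  block_of_check (k := 8) rfl (by decide +kernel)

end Cfsg.Agent.TcData.HNK.R0
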