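import Mathlib
import Cfsg.Agent.TcData.HNK.R0.Tab

set_option autoImplicit false
set_option Elab.async false
set_option maxRecDepth 100000
set_option linter.all false

namespace Cfsg.Agent.TcData.HNK.R0

open Cfsg.Spor Cfsg.Agent.Lib.TcFacts Cfsg.Agent.Lib.TcBits Cfsg.Agent.Lib.TcPres Cfsg.Spor.HN Cfsg.Agent.TcData.HNK

theorem b1286 : Block F al 329216 329472 51 :=
  block_of_check (k := 8) rfl (by decide +kernel)

theorem b1287 : Block F al 329472 329728 79 :=
  block_of_check (k := 8) rfl (by decide +kernel)

theorem b1288 : Block F al 329728 329984 54 :=
  block_of_check (k := 8) rfl (by decide +kernel)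

theorem b1289 : Block F al 329984 330240 90 :=
  block_of_check (k := 8) rfl (by decide +kernel)

theorem b1290 : Block F al 330240 330496 38 :=
  block_of_check (k := 8) rfl (by decide +kernel)

theorem b1291 : Block F al 330496 330752 76 :=
  block_of_check (k := 8) rfl (by decide +kernel)

theorem b1292 : Block F al 330752 331008 100 :=
  block_of_check (k := 8) rfl (by decide +kernel)

theorem b1293 : Block F al 331008 331264 68 :=
  block_of_check (k := 8) rfl (by decide +kernel)

theorem b1294 : Block F al 331264 331520 76 :=
  block_of_check (k := 8) rfl (by decide +kernel)

theorem b1295 : Block F al 331520 331776 86 :=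
  block_of_check (k := 8) rfl (by decide +kernel)

theorem b1296 : Block F al 331776 332032 69 :=
  block_of_check (k := 8) rfl (by decide +kernel)

theorem b1297 : Block F al 332032 332288 65 :=
  block_of_check (k := 8) rfl (by decide +kernel)

theorem b1298 : Block F al 332288 332544 42 :=
  block_of_check (k := 8) rfl (by decide +kernel)

theorem b1299 : Block F al 332544 332800 50 :=
  block_of_check (k := 8) rfl (by decide +kernel)

theorem b1300 : Block F al 332800 333056 63 :=
  block_of_check (k := 8) rfl (by decide +kernel)

theorem b1301 : Block F al 333056 333312 95 :=
  block_of_check (k := 8) rfl (by decide +kernel)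

theorem b1302 : Block F al 333312 333568 68 :=
  block_of_check (k := 8) rfl (by decide +kernel)

theorem b1303 : Block F al 333568 333824 48 :=
  block_of_check (k := 8) rfl (by decide +kernel)

theorem b1304 : Block F al 333824 334080 49 :=
  block_of_check (k := 8) rfl (by decide +kernel)

theorem b1305 : Block F al 334080 334336 51 :=
  block_of_check (k := 8) rfl (by decide +kernel)

theorem b1306 : Block F al 334336 334592 74 :=
  block_of_check (k := 8) rfl (by decide +kernel)

theorem b1307 : Block F al 334592 334848 30 :=
  block_of_check (k := 8) rfl (by decide +kernel)

theorem b1308 : Block F al 334848 335104 52 :=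
  block_of_check (k := 8) rfl (by decide +kernel)

theorem b1309 : Block F al 335104 335360 83 :=
  block_of_check (k := 8) rfl (by decide +kernel)

theorem b1310 : Block F al 335360 335616 11 :=
  block_of_check (k := 8) rfl (by decide +kernel)

theorem b1311 : Block F al 335616 335872 0 :=
  block_of_check (k := 8) rfl (by decide +kernel)

theorem b1312 : Block F al 335872 336128 48 :=
  block_of_check (k := 8) rfl (by decide +kernel)

theorem b1313 : Block F al 336128 336384 62 :=
  block_of_check (k := 8) rfl (by decide +kernel)

theorem b1314 : Block F al 336384 336640 76 :=
  block_of_check (k := 8) rfl (by decide +kernel)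

theorem b1315 : Block F al 336640 336896 96 :=
  block_of_check (k := 8) rfl (by decide +kernel)

theorem b1316 : Block F al 336896 337152 34 :=
  block_of_check (k := 8) rfl (by decide +kernel)

theorem b1317 : Block F al 337152 337408 74 :=
  block_of_check (k := 8) rfl (by decide +kernel)

theorem b1318 : Block F al 337408 337664 16 :=
  block_of_check (k := 8) rfl (by decide +kernel)

theorem b1319 : Block F al 337664 337920 86 :=
  block_of_check (k := 8) rfl (by decide +kernel)

theorem b1320 : Block F al 337920 338176 60 :=
  block_of_check (k := 8) rfl (by decide +kernel)

theorem b1321 : Block F al 338176 338432 76 :=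
  block_of_check (k := 8) rfl (by decide +kernel)

theorem b1322 : Block F al 338432 338688 88 :=
  block_of_check (k := 8) rfl (by decide +kernel)

theorem b1323 : Block F al 338688 338944 44 :=
  block_of_check (k := 8) rfl (by decide +kernel)

theorem b1324 : Block F al 338944 339200 43 :=
  block_of_check (k := 8) rfl (by decide +kernel)

theorem b1325 : Block F al 339200 339456 41 :=
  block_of_check (k := 8) rfl (by decide +kernel)

theorem b1326 : Block F al 339456 339712 46 :=
  block_of_check (k := 8) rfl (by decide +kernel)

theorem b1327 : Block F al 339712 339968 43 :=
  block_of_check (k := 8) rfl (by decide +kernel)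

theorem b1328 : Block F al 339968 340224 89 :=
  block_of_check (k := 8) rfl (by decide +kernel)

theorem b1329 : Block F al 340224 340480 112 :=
  block_of_check (k := 8) rfl (by decide +kernel)

theorem b1330 : Block F al 340480 340736 82 :=
  block_of_check (k := 8) rfl (by decide +kernel)

theorem b1331 : Block F al 340736 340992 88 :=
  block_of_check (k := 8) rfl (by decide +kernel)

theorem b1332 : Block F al 340992 341248 64 :=
  block_of_check (k := 8) rfl (by decide +kernel)

theorem b1333 : Block F al 341248 341504 20 :=
  block_of_check (k := 8) rfl (by decide +kernel)

theorem b1334 : Block F al 341504 341760 56 :=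
  block_of_check (k := 8) rfl (by decide +kernel)

theorem b1335 : Block F al 341760 342016 64 :=
  block_of_check (k := 8) rfl (by decide +kernel)

theorem b1336 : Block F al 342016 342272 2 :=
  block_of_check (k := 8) rfl (by decide +kernel)

theorem b1337 : Block F al 342272 342528 36 :=
  block_of_check (k := 8) rfl (by decide +kernel)

theorem b1338 : Block F al 342528 342784 36 :=
  block_of_check (k := 8) rfl (by decide +kernel)

theorem b1339 : Block F al 342784 343040 48 :=
  block_of_check (k := 8) rfl (by decide +kernel)

theorem b1340 : Block F al 343040 343296 86 :=
  block_of_check (k := 8) rfl (by decide +kernel)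

theorem b1341 : Block F al 343296 343552 10 :=
  block_of_check (k := 8) rfl (by decide +kernel)

theorem b1342 : Block F al 343552 343808 10 :=
  block_of_check (k := 8) rfl (by decide +kernel)

theorem b1343 : Block F al 343808 344064 94 :=
  block_of_check (k := 8) rfl (by decide +kernel)

theorem b1344 : Block F al 344064 344320 70 :=
  block_of_check (k := 8) rfl (by decide +kernel)

theorem b1345 : Block F al 344320 344576 65 :=
  block_of_check (k := 8) rfl (by decide +kernel)

theorem b1346 : Block F al 344576 344832 73 :=
  block_of_check (k := 8) rfl (by decide +kernel)

theorem b1347 : Block F al 344832 345088 34 :=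
  block_of_check (k := 8) rfl (by decide +kernel)

theorem b1348 : Block F al 345088 345344 26 :=
  block_of_check (k := 8) rfl (by decide +kernel)

theorem b1349 : Block F al 345344 345600 44 :=
  block_of_check (k := 8) rfl (by decide +kernel)

theorem b1350 : Block F al 345600 345856 87 :=
  block_of_check (k := 8) rfl (by decide +kernel)

theorem b1351 : Block F al 345856 346112 51 :=
  block_of_check (k := 8) rfl (by decide +kernel)

theorem b1352 : Block F al 346112 346368 51 :=
  block_of_check (k := 8) rfl (by decide +kernel)

theorem b1353 : Block F al 346368 346624 76 :=
  block_of_check (k := 8) rfl (by decide +kernel)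

theorem b1354 : Block F al 346624 346880 123 :=
  block_of_check (k := 8) rfl (by decide +kernel)

theorem b1355 : Block F al 346880 347136 103 :=
  block_of_check (k := 8) rfl (by decide +kernel)

theorem b1356 : Block F al 347136 347392 71 :=
  block_of_check (k := 8) rfl (by decide +kernel)

theorem b1357 : Block F al 347392 347648 60 :=
  block_of_check (k := 8) rfl (by decide +kernel)

theorem b1358 : Block F al 347648 347904 80 :=
  block_of_check (k := 8) rfl (by decide +kernel)

theorem b1359 : Block F al 347904 348160 73 :=
  block_of_check (k := 8) rfl (by decide +kernel)

theorem b1360 : Block F al 348160 348416 49 :=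
  block_of_check (k := 8) rfl (by decide +kernel)

theorem b1361 : Block F al 348416 348672 36 :=
  block_of_check (k := 8) rfl (by decide +kernel)

theorem b1362 : Block F al 348672 348928 34 :=
  block_of_check (k := 8) rfl (by decide +kernel)

theorem b1363 : Block F al 348928 349184 50 :=
  block_of_check (k := 8) rfl (by decide +kernel)

theorem b1364 : Block F al 349184 349440 90 :=
  block_of_check (k := 8) rfl (by decide +kernel)

theorem b1365 : Block F al 349440 349696 78 :=
  block_of_check (k := 8) rfl (by decide +kernel)

theorem b1366 : Block F al 349696 349952 76 :=
  block_of_check (k := 8) rfl (by decide +kernel)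

theorem b1367 : Block F al 349952 350208 68 :=
  block_of_check (k := 8) rfl (by decide +kernel)

theorem b1368 : Block F al 350208 350464 54 :=
  block_of_check (k := 8) rfl (by decide +kernel)

theorem b1369 : Block F al 350464 350720 129 :=
  block_of_check (k := 8) rfl (by decide +kernel)

end Cfsg.Agent.TcData.HNK.R0
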