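import Mathlib
import Cfsg.Agent.TcData.HNK.R0.Tab

set_option autoImplicit false
set_option Elab.async false
set_option maxRecDepth 100000
set_option linter.all false

namespace Cfsg.Agent.TcData.HNK.R0

open Cfsg.Spor Cfsg.Agent.Lib.TcFacts Cfsg.Agent.Lib.TcBits Cfsg.Agent.Lib.TcPres Cfsg.Spor.HN Cfsg.Agent.TcData.HNK

theorem b1370 : Block F al 350720 350976 73 :=
  block_of_check (k := 8) rfl (by decide +kernel)

theorem b1371 : Block F al 350976 351232 86 :=
  block_of_check (k := 8) rfl (by decide +kernel)

theorem b1372 : Block F al 351232 351488 70 :=
  block_of_check (k := 8) rfl (by decide +kernel)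

theorem b1373 : Block F al 351488 351744 49 :=
  block_of_check (k := 8) rfl (by decide +kernel)

theorem b1374 : Block F al 351744 352000 105 :=
  block_of_check (k := 8) rfl (by decide +kernel)

theorem b1375 : Block F al 352000 352256 108 :=
  block_of_check (k := 8) rfl (by decide +kernel)

theorem b1376 : Block F al 352256 352512 122 :=
  block_of_check (k := 8) rfl (by decide +kernel)

theorem b1377 : Block F al 352512 352768 38 :=
  block_of_check (k := 8) rfl (by decide +kernel)

theorem b1378 : Block F al 352768 353024 61 :=
  block_of_check (k := 8) rfl (by decide +kernel)

theorem b1379 : Block F al 353024 353280 123 :=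
  block_of_check (k := 8) rfl (by decide +kernel)

theorem b1380 : Block F al 353280 353536 22 :=
  block_of_check (k := 8) rfl (by decide +kernel)

theorem b1381 : Block F al 353536 353792 47 :=
  block_of_check (k := 8) rfl (by decide +kernel)

theorem b1382 : Block F al 353792 354048 51 :=
  block_of_check (k := 8) rfl (by decide +kernel)

theorem b1383 : Block F al 354048 354304 85 :=
  block_of_check (k := 8) rfl (by decide +kernel)

theorem b1384 : Block F al 354304 354560 115 :=
  block_of_check (k := 8) rfl (by decide +kernel)

theorem b1385 : Block F al 354560 354816 70 :=
  block_of_check (k := 8) rfl (by decide +kernel)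

theorem b1386 : Block F al 354816 355072 106 :=
  block_of_check (k := 8) rfl (by decide +kernel)

theorem b1387 : Block F al 355072 355328 48 :=
  block_of_check (k := 8) rfl (by decide +kernel)

theorem b1388 : Block F al 355328 355584 38 :=
  block_of_check (k := 8) rfl (by decide +kernel)

theorem b1389 : Block F al 355584 355840 28 :=
  block_of_check (k := 8) rfl (by decide +kernel)

theorem b1390 : Block F al 355840 356096 40 :=
  block_of_check (k := 8) rfl (by decide +kernel)

theorem b1391 : Block F al 356096 356352 90 :=
  block_of_check (k := 8) rfl (by decide +kernel)

theorem b1392 : Block F al 356352 356608 68 :=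
  block_of_check (k := 8) rfl (by decide +kernel)

theorem b1393 : Block F al 356608 356864 66 :=
  block_of_check (k := 8) rfl (by decide +kernel)

theorem b1394 : Block F al 356864 357120 44 :=
  block_of_check (k := 8) rfl (by decide +kernel)

theorem b1395 : Block F al 357120 357376 13 :=
  block_of_check (k := 8) rfl (by decide +kernel)

theorem b1396 : Block F al 357376 357632 77 :=
  block_of_check (k := 8) rfl (by decide +kernel)

theorem b1397 : Block F al 357632 357888 76 :=
  block_of_check (k := 8) rfl (by decide +kernel)

theorem b1398 : Block F al 357888 358144 98 :=
  block_of_check (k := 8) rfl (by decide +kernel)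

theorem b1399 : Block F al 358144 358400 84 :=
  block_of_check (k := 8) rfl (by decide +kernel)

theorem b1400 : Block F al 358400 358656 44 :=
  block_of_check (k := 8) rfl (by decide +kernel)

theorem b1401 : Block F al 358656 358912 56 :=
  block_of_check (k := 8) rfl (by decide +kernel)

theorem b1402 : Block F al 358912 359168 75 :=
  block_of_check (k := 8) rfl (by decide +kernel)

theorem b1403 : Block F al 359168 359424 79 :=
  block_of_check (k := 8) rfl (by decide +kernel)

theorem b1404 : Block F al 359424 359680 78 :=
  block_of_check (k := 8) rfl (by decide +kernel)

theorem b1405 : Block F al 359680 359936 40 :=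
  block_of_check (k := 8) rfl (by decide +kernel)

theorem b1406 : Block F al 359936 360192 62 :=
  block_of_check (k := 8) rfl (by decide +kernel)

theorem b1407 : Block F al 360192 360448 64 :=
  block_of_check (k := 8) rfl (by decide +kernel)

theorem b1408 : Block F al 360448 360704 20 :=
  block_of_check (k := 8) rfl (by decide +kernel)

theorem b1409 : Block F al 360704 360960 0 :=
  block_of_check (k := 8) rfl (by decide +kernel)

theorem b1410 : Block F al 360960 361216 78 :=
  block_of_check (k := 8) rfl (by decide +kernel)

theorem b1411 : Block F al 361216 361472 68 :=
  block_of_check (k := 8) rfl (by decide +kernel)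

theorem b1412 : Block F al 361472 361728 50 :=
  block_of_check (k := 8) rfl (by decide +kernel)

theorem b1413 : Block F al 361728 361984 72 :=
  block_of_check (k := 8) rfl (by decide +kernel)

theorem b1414 : Block F al 361984 362240 104 :=
  block_of_check (k := 8) rfl (by decide +kernel)

theorem b1415 : Block F al 362240 362496 68 :=
  block_of_check (k := 8) rfl (by decide +kernel)

theorem b1416 : Block F al 362496 362752 116 :=
  block_of_check (k := 8) rfl (by decide +kernel)

theorem b1417 : Block F al 362752 363008 84 :=
  block_of_check (k := 8) rfl (by decide +kernel)

theorem b1418 : Block F al 363008 363264 92 :=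
  block_of_check (k := 8) rfl (by decide +kernel)

theorem b1419 : Block F al 363264 363520 98 :=
  block_of_check (k := 8) rfl (by decide +kernel)

theorem b1420 : Block F al 363520 363776 92 :=
  block_of_check (k := 8) rfl (by decide +kernel)

theorem b1421 : Block F al 363776 364032 50 :=
  block_of_check (k := 8) rfl (by decide +kernel)

theorem b1422 : Block F al 364032 364288 42 :=
  block_of_check (k := 8) rfl (by decide +kernel)

theorem b1423 : Block F al 364288 364544 74 :=
  block_of_check (k := 8) rfl (by decide +kernel)

theorem b1424 : Block F al 364544 364800 28 :=
  block_of_check (k := 8) rfl (by decide +kernel)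

theorem b1425 : Block F al 364800 365056 66 :=
  block_of_check (k := 8) rfl (by decide +kernel)

theorem b1426 : Block F al 365056 365312 52 :=
  block_of_check (k := 8) rfl (by decide +kernel)

theorem b1427 : Block F al 365312 365568 107 :=
  block_of_check (k := 8) rfl (by decide +kernel)

theorem b1428 : Block F al 365568 365824 55 :=
  block_of_check (k := 8) rfl (by decide +kernel)

theorem b1429 : Block F al 365824 366080 48 :=
  block_of_check (k := 8) rfl (by decide +kernel)

theorem b1430 : Block F al 366080 366336 72 :=
  block_of_check (k := 8) rfl (by decide +kernel)

theorem b1431 : Block F al 366336 366592 62 :=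
  block_of_check (k := 8) rfl (by decide +kernel)

theorem b1432 : Block F al 366592 366848 36 :=
  block_of_check (k := 8) rfl (by decide +kernel)

theorem b1433 : Block F al 366848 367104 65 :=
  block_of_check (k := 8) rfl (by decide +kernel)

theorem b1434 : Block F al 367104 367360 47 :=
  block_of_check (k := 8) rfl (by decide +kernel)

theorem b1435 : Block F al 367360 367616 80 :=
  block_of_check (k := 8) rfl (by decide +kernel)

theorem b1436 : Block F al 367616 367872 68 :=
  block_of_check (k := 8) rfl (by decide +kernel)

theorem b1437 : Block F al 367872 368128 44 :=
  block_of_check (k := 8) rfl (by decide +kernel)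

theorem b1438 : Block F al 368128 368384 50 :=
  block_of_check (k := 8) rfl (by decide +kernel)

theorem b1439 : Block F al 368384 368640 92 :=
  block_of_check (k := 8) rfl (by decide +kernel)

theorem b1440 : Block F al 368640 368896 115 :=
  block_of_check (k := 8) rfl (by decide +kernel)

theorem b1441 : Block F al 368896 369152 79 :=
  block_of_check (k := 8) rfl (by decide +kernel)

theorem b1442 : Block F al 369152 369408 94 :=
  block_of_check (k := 8) rfl (by decide +kernel)

theorem b1443 : Block F al 369408 369664 105 :=
  block_of_check (k := 8) rfl (by decide +kernel)

theorem b1444 : Block F al 369664 369920 103 :=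
  block_of_check (k := 8) rfl (by decide +kernel)

theorem b1445 : Block F al 369920 370176 108 :=
  block_of_check (k := 8) rfl (by decide +kernel)

theorem b1446 : Block F al 370176 370432 100 :=
  block_of_check (k := 8) rfl (by decide +kernel)

theorem b1447 : Block F al 370432 370688 104 :=
  block_of_check (k := 8) rfl (by decide +kernel)

theorem b1448 : Block F al 370688 370944 88 :=
  block_of_check (k := 8) rfl (by decide +kernel)

theorem b1449 : Block F al 370944 371200 74 :=
  block_of_check (k := 8) rfl (by decide +kernel)

theorem b1450 : Block F al 371200 371456 34 :=
  block_of_check (k := 8) rfl (by decide +kernel)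

theorem b1451 : Block F al 371456 371712 72 :=
  block_of_check (k := 8) rfl (by decide +kernel)

theorem b1452 : Block F al 371712 371968 48 :=
  block_of_check (k := 8) rfl (by decide +kernel)

theorem b1453 : Block F al 371968 372224 91 :=
  block_of_check (k := 8) rfl (by decide +kernel)

theorem b1454 : Block F al 372224 372480 57 :=
  block_of_check (k := 8) rfl (by decide +kernel)

theorem b1455 : Block F al 372480 372736 53 :=
  block_of_check (k := 8) rfl (by decide +kernel)

end Cfsg.Agent.TcData.HNK.R0
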