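import Mathlib
import Cfsg.Agent.TcData.HNK.R0.Tab

set_option autoImplicit false
set_option Elab.async false
set_option maxRecDepth 100000
set_option linter.all false

namespace Cfsg.Agent.TcData.HNK.R0

open Cfsg.Spor Cfsg.Agent.Lib.TcFacts Cfsg.Agent.Lib.TcBits Cfsg.Agent.Lib.TcPres Cfsg.Spor.HN Cfsg.Agent.TcData.HNK

theorem b1456 : Block F al 372736 372992 56 :=
  block_of_check (k := 8) rfl (by decide +kernel)

theorem b1457 : Block F al 372992 373248 77 :=
  block_of_check (k := 8) rfl (by decide +kernel)

theorem b1458 : Block F al 373248 373504 50 :=
  block_of_check (k := 8) rfl (by decide +kernel)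

theorem b1459 : Block F al 373504 373760 70 :=
  block_of_check (k := 8) rfl (by decide +kernel)

theorem b1460 : Block F al 373760 374016 32 :=
  block_of_check (k := 8) rfl (by decide +kernel)

theorem b1461 : Block F al 374016 374272 48 :=
  block_of_check (k := 8) rfl (by decide +kernel)

theorem b1462 : Block F al 374272 374528 34 :=
  block_of_check (k := 8) rfl (by decide +kernel)

theorem b1463 : Block F al 374528 374784 32 :=
  block_of_check (k := 8) rfl (by decide +kernel)

theorem b1464 : Block F al 374784 375040 42 :=
  block_of_check (k := 8) rfl (by decide +kernel)

theorem b1465 : Block F al 375040 375296 22 :=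
  block_of_check (k := 8) rfl (by decide +kernel)

theorem b1466 : Block F al 375296 375552 72 :=
  block_of_check (k := 8) rfl (by decide +kernel)

theorem b1467 : Block F al 375552 375808 41 :=
  block_of_check (k := 8) rfl (by decide +kernel)

theorem b1468 : Block F al 375808 376064 61 :=
  block_of_check (k := 8) rfl (by decide +kernel)

theorem b1469 : Block F al 376064 376320 88 :=
  block_of_check (k := 8) rfl (by decide +kernel)

theorem b1470 : Block F al 376320 376576 61 :=
  block_of_check (k := 8) rfl (by decide +kernel)

theorem b1471 : Block F al 376576 376832 108 :=
  block_of_check (k := 8) rfl (by decide +kernel)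

theorem b1472 : Block F al 376832 377088 112 :=
  block_of_check (k := 8) rfl (by decide +kernel)

theorem b1473 : Block F al 377088 377344 114 :=
  block_of_check (k := 8) rfl (by decide +kernel)

theorem b1474 : Block F al 377344 377600 93 :=
  block_of_check (k := 8) rfl (by decide +kernel)

theorem b1475 : Block F al 377600 377856 81 :=
  block_of_check (k := 8) rfl (by decide +kernel)

theorem b1476 : Block F al 377856 378112 103 :=
  block_of_check (k := 8) rfl (by decide +kernel)

theorem b1477 : Block F al 378112 378368 90 :=
  block_of_check (k := 8) rfl (by decide +kernel)

theorem b1478 : Block F al 378368 378624 88 :=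
  block_of_check (k := 8) rfl (by decide +kernel)

theorem b1479 : Block F al 378624 378880 36 :=
  block_of_check (k := 8) rfl (by decide +kernel)

theorem b1480 : Block F al 378880 379136 54 :=
  block_of_check (k := 8) rfl (by decide +kernel)

theorem b1481 : Block F al 379136 379392 40 :=
  block_of_check (k := 8) rfl (by decide +kernel)

theorem b1482 : Block F al 379392 379648 58 :=
  block_of_check (k := 8) rfl (by decide +kernel)

theorem b1483 : Block F al 379648 379904 93 :=
  block_of_check (k := 8) rfl (by decide +kernel)

theorem b1484 : Block F al 379904 380160 89 :=
  block_of_check (k := 8) rfl (by decide +kernel)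

theorem b1485 : Block F al 380160 380416 94 :=
  block_of_check (k := 8) rfl (by decide +kernel)

theorem b1486 : Block F al 380416 380672 58 :=
  block_of_check (k := 8) rfl (by decide +kernel)

theorem b1487 : Block F al 380672 380928 46 :=
  block_of_check (k := 8) rfl (by decide +kernel)

theorem b1488 : Block F al 380928 381184 88 :=
  block_of_check (k := 8) rfl (by decide +kernel)

theorem b1489 : Block F al 381184 381440 88 :=
  block_of_check (k := 8) rfl (by decide +kernel)

theorem b1490 : Block F al 381440 381696 74 :=
  block_of_check (k := 8) rfl (by decide +kernel)

theorem b1491 : Block F al 381696 381952 80 :=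
  block_of_check (k := 8) rfl (by decide +kernel)

theorem b1492 : Block F al 381952 382208 62 :=
  block_of_check (k := 8) rfl (by decide +kernel)

theorem b1493 : Block F al 382208 382464 38 :=
  block_of_check (k := 8) rfl (by decide +kernel)

theorem b1494 : Block F al 382464 382720 44 :=
  block_of_check (k := 8) rfl (by decide +kernel)

theorem b1495 : Block F al 382720 382976 72 :=
  block_of_check (k := 8) rfl (by decide +kernel)

theorem b1496 : Block F al 382976 383232 70 :=
  block_of_check (k := 8) rfl (by decide +kernel)

theorem b1497 : Block F al 383232 383488 92 :=
  block_of_check (k := 8) rfl (by decide +kernel)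

theorem b1498 : Block F al 383488 383744 65 :=
  block_of_check (k := 8) rfl (by decide +kernel)

theorem b1499 : Block F al 383744 384000 92 :=
  block_of_check (k := 8) rfl (by decide +kernel)

theorem b1500 : Block F al 384000 384256 58 :=
  block_of_check (k := 8) rfl (by decide +kernel)

theorem b1501 : Block F al 384256 384512 73 :=
  block_of_check (k := 8) rfl (by decide +kernel)

theorem b1502 : Block F al 384512 384768 98 :=
  block_of_check (k := 8) rfl (by decide +kernel)

theorem b1503 : Block F al 384768 385024 48 :=
  block_of_check (k := 8) rfl (by decide +kernel)

theorem b1504 : Block F al 385024 385280 51 :=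
  block_of_check (k := 8) rfl (by decide +kernel)

theorem b1505 : Block F al 385280 385536 35 :=
  block_of_check (k := 8) rfl (by decide +kernel)

theorem b1506 : Block F al 385536 385792 54 :=
  block_of_check (k := 8) rfl (by decide +kernel)

theorem b1507 : Block F al 385792 386048 42 :=
  block_of_check (k := 8) rfl (by decide +kernel)

theorem b1508 : Block F al 386048 386304 53 :=
  block_of_check (k := 8) rfl (by decide +kernel)

theorem b1509 : Block F al 386304 386560 81 :=
  block_of_check (k := 8) rfl (by decide +kernel)

theorem b1510 : Block F al 386560 386816 28 :=
  block_of_check (k := 8) rfl (by decide +kernel)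

theorem b1511 : Block F al 386816 387072 34 :=
  block_of_check (k := 8) rfl (by decide +kernel)

theorem b1512 : Block F al 387072 387328 98 :=
  block_of_check (k := 8) rfl (by decide +kernel)

theorem b1513 : Block F al 387328 387584 76 :=
  block_of_check (k := 8) rfl (by decide +kernel)

theorem b1514 : Block F al 387584 387840 117 :=
  block_of_check (k := 8) rfl (by decide +kernel)

theorem b1515 : Block F al 387840 388096 91 :=
  block_of_check (k := 8) rfl (by decide +kernel)

theorem b1516 : Block F al 388096 388352 90 :=
  block_of_check (k := 8) rfl (by decide +kernel)

theorem b1517 : Block F al 388352 388608 58 :=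
  block_of_check (k := 8) rfl (by decide +kernel)

theorem b1518 : Block F al 388608 388864 82 :=
  block_of_check (k := 8) rfl (by decide +kernel)

theorem b1519 : Block F al 388864 389120 90 :=
  block_of_check (k := 8) rfl (by decide +kernel)

theorem b1520 : Block F al 389120 389376 62 :=
  block_of_check (k := 8) rfl (by decide +kernel)

theorem b1521 : Block F al 389376 389632 100 :=
  block_of_check (k := 8) rfl (by decide +kernel)

theorem b1522 : Block F al 389632 389888 80 :=
  block_of_check (k := 8) rfl (by decide +kernel)

theorem b1523 : Block F al 389888 390144 58 :=
  block_of_check (k := 8) rfl (by decide +kernel)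

theorem b1524 : Block F al 390144 390400 14 :=
  block_of_check (k := 8) rfl (by decide +kernel)

theorem b1525 : Block F al 390400 390656 28 :=
  block_of_check (k := 8) rfl (by decide +kernel)

theorem b1526 : Block F al 390656 390912 56 :=
  block_of_check (k := 8) rfl (by decide +kernel)

theorem b1527 : Block F al 390912 391168 68 :=
  block_of_check (k := 8) rfl (by decide +kernel)

theorem b1528 : Block F al 391168 391424 45 :=
  block_of_check (k := 8) rfl (by decide +kernel)

theorem b1529 : Block F al 391424 391680 67 :=
  block_of_check (k := 8) rfl (by decide +kernel)

theorem b1530 : Block F al 391680 391936 65 :=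
  block_of_check (k := 8) rfl (by decide +kernel)

theorem b1531 : Block F al 391936 392192 102 :=
  block_of_check (k := 8) rfl (by decide +kernel)

theorem b1532 : Block F al 392192 392448 75 :=
  block_of_check (k := 8) rfl (by decide +kernel)

theorem b1533 : Block F al 392448 392704 112 :=
  block_of_check (k := 8) rfl (by decide +kernel)

theorem b1534 : Block F al 392704 392960 76 :=
  block_of_check (k := 8) rfl (by decide +kernel)

theorem b1535 : Block F al 392960 393216 50 :=
  block_of_check (k := 8) rfl (by decide +kernel)

theorem b1536 : Block F al 393216 393472 53 :=
  block_of_check (k := 8) rfl (by decide +kernel)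

theorem b1537 : Block F al 393472 393728 97 :=
  block_of_check (k := 8) rfl (by decide +kernel)

theorem b1538 : Block F al 393728 393984 76 :=
  block_of_check (k := 8) rfl (by decide +kernel)

theorem b1539 : Block F al 393984 394240 58 :=
  block_of_check (k := 8) rfl (by decide +kernel)

theorem b1540 : Block F al 394240 394496 49 :=
  block_of_check (k := 8) rfl (by decide +kernel)

theorem b1541 : Block F al 394496 394752 59 :=
  block_of_check (k := 8) rfl (by decide +kernel)

theorem b1542 : Block F al 394752 395008 118 :=
  block_of_check (k := 8) rfl (by decide +kernel)

end Cfsg.Agent.TcData.HNK.R0
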