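import Mathlib
import Cfsg.Agent.TcData.HNK.R0.Tab

set_option autoImplicit false
set_option Elab.async false
set_option maxRecDepth 100000
set_option linter.all false

namespace Cfsg.Agent.TcData.HNK.R0

open Cfsg.Spor Cfsg.Agent.Lib.TcFacts Cfsg.Agent.Lib.TcBits Cfsg.Agent.Lib.TcPres Cfsg.Spor.HN Cfsg.Agent.TcData.HNK

theorem b1543 : Block F al 395008 395264 42 :=
  block_of_check (k := 8) rfl (by decide +kernel)

theorem b1544 : Block F al 395264 395520 64 :=
  block_of_check (k := 8) rfl (by decide +kernel)

theorem b1545 : Block F al 395520 395776 82 :=
  block_of_check (k := 8) rfl (by decide +kernel)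

theorem b1546 : Block F al 395776 396032 46 :=
  block_of_check (k := 8) rfl (by decide +kernel)

theorem b1547 : Block F al 396032 396288 36 :=
  block_of_check (k := 8) rfl (by decide +kernel)

theorem b1548 : Block F al 396288 396544 58 :=
  block_of_check (k := 8) rfl (by decide +kernel)

theorem b1549 : Block F al 396544 396800 26 :=
  block_of_check (k := 8) rfl (by decide +kernel)

theorem b1550 : Block F al 396800 397056 97 :=
  block_of_check (k := 8) rfl (by decide +kernel)

theorem b1551 : Block F al 397056 397312 71 :=
  block_of_check (k := 8) rfl (by decide +kernel)

theorem b1552 : Block F al 397312 397568 40 :=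
  block_of_check (k := 8) rfl (by decide +kernel)

theorem b1553 : Block F al 397568 397824 51 :=
  block_of_check (k := 8) rfl (by decide +kernel)

theorem b1554 : Block F al 397824 398080 85 :=
  block_of_check (k := 8) rfl (by decide +kernel)

theorem b1555 : Block F al 398080 398336 96 :=
  block_of_check (k := 8) rfl (by decide +kernel)

theorem b1556 : Block F al 398336 398592 63 :=
  block_of_check (k := 8) rfl (by decide +kernel)

theorem b1557 : Block F al 398592 398848 65 :=
  block_of_check (k := 8) rfl (by decide +kernel)

theorem b1558 : Block F al 398848 399104 58 :=
  block_of_check (k := 8) rfl (by decide +kernel)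

theorem b1559 : Block F al 399104 399360 40 :=
  block_of_check (k := 8) rfl (by decide +kernel)

theorem b1560 : Block F al 399360 399616 24 :=
  block_of_check (k := 8) rfl (by decide +kernel)

theorem b1561 : Block F al 399616 399872 34 :=
  block_of_check (k := 8) rfl (by decide +kernel)

theorem b1562 : Block F al 399872 400128 122 :=
  block_of_check (k := 8) rfl (by decide +kernel)

theorem b1563 : Block F al 400128 400384 49 :=
  block_of_check (k := 8) rfl (by decide +kernel)

theorem b1564 : Block F al 400384 400640 47 :=
  block_of_check (k := 8) rfl (by decide +kernel)

theorem b1565 : Block F al 400640 400896 46 :=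
  block_of_check (k := 8) rfl (by decide +kernel)

theorem b1566 : Block F al 400896 401152 85 :=
  block_of_check (k := 8) rfl (by decide +kernel)

theorem b1567 : Block F al 401152 401408 73 :=
  block_of_check (k := 8) rfl (by decide +kernel)

theorem b1568 : Block F al 401408 401664 49 :=
  block_of_check (k := 8) rfl (by decide +kernel)

theorem b1569 : Block F al 401664 401920 44 :=
  block_of_check (k := 8) rfl (by decide +kernel)

theorem b1570 : Block F al 401920 402176 37 :=
  block_of_check (k := 8) rfl (by decide +kernel)

theorem b1571 : Block F al 402176 402432 47 :=
  block_of_check (k := 8) rfl (by decide +kernel)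

theorem b1572 : Block F al 402432 402688 100 :=
  block_of_check (k := 8) rfl (by decide +kernel)

theorem b1573 : Block F al 402688 402944 97 :=
  block_of_check (k := 8) rfl (by decide +kernel)

theorem b1574 : Block F al 402944 403200 34 :=
  block_of_check (k := 8) rfl (by decide +kernel)

theorem b1575 : Block F al 403200 403456 60 :=
  block_of_check (k := 8) rfl (by decide +kernel)

theorem b1576 : Block F al 403456 403712 118 :=
  block_of_check (k := 8) rfl (by decide +kernel)

theorem b1577 : Block F al 403712 403968 74 :=
  block_of_check (k := 8) rfl (by decide +kernel)

theorem b1578 : Block F al 403968 404224 62 :=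
  block_of_check (k := 8) rfl (by decide +kernel)

theorem b1579 : Block F al 404224 404480 52 :=
  block_of_check (k := 8) rfl (by decide +kernel)

theorem b1580 : Block F al 404480 404736 72 :=
  block_of_check (k := 8) rfl (by decide +kernel)

theorem b1581 : Block F al 404736 404992 88 :=
  block_of_check (k := 8) rfl (by decide +kernel)

theorem b1582 : Block F al 404992 405248 24 :=
  block_of_check (k := 8) rfl (by decide +kernel)

theorem b1583 : Block F al 405248 405504 46 :=
  block_of_check (k := 8) rfl (by decide +kernel)

theorem b1584 : Block F al 405504 405760 84 :=
  block_of_check (k := 8) rfl (by decide +kernel)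

theorem b1585 : Block F al 405760 406016 99 :=
  block_of_check (k := 8) rfl (by decide +kernel)

theorem b1586 : Block F al 406016 406272 65 :=
  block_of_check (k := 8) rfl (by decide +kernel)

theorem b1587 : Block F al 406272 406528 60 :=
  block_of_check (k := 8) rfl (by decide +kernel)

theorem b1588 : Block F al 406528 406784 92 :=
  block_of_check (k := 8) rfl (by decide +kernel)

theorem b1589 : Block F al 406784 407040 64 :=
  block_of_check (k := 8) rfl (by decide +kernel)

theorem b1590 : Block F al 407040 407296 90 :=
  block_of_check (k := 8) rfl (by decide +kernel)

theorem b1591 : Block F al 407296 407552 86 :=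
  block_of_check (k := 8) rfl (by decide +kernel)

theorem b1592 : Block F al 407552 407808 26 :=
  block_of_check (k := 8) rfl (by decide +kernel)

theorem b1593 : Block F al 407808 408064 86 :=
  block_of_check (k := 8) rfl (by decide +kernel)

theorem b1594 : Block F al 408064 408320 22 :=
  block_of_check (k := 8) rfl (by decide +kernel)

theorem b1595 : Block F al 408320 408576 64 :=
  block_of_check (k := 8) rfl (by decide +kernel)

theorem b1596 : Block F al 408576 408832 24 :=
  block_of_check (k := 8) rfl (by decide +kernel)

theorem b1597 : Block F al 408832 409088 64 :=
  block_of_check (k := 8) rfl (by decide +kernel)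

theorem b1598 : Block F al 409088 409344 70 :=
  block_of_check (k := 8) rfl (by decide +kernel)

theorem b1599 : Block F al 409344 409600 44 :=
  block_of_check (k := 8) rfl (by decide +kernel)

theorem b1600 : Block F al 409600 409856 64 :=
  block_of_check (k := 8) rfl (by decide +kernel)

theorem b1601 : Block F al 409856 410112 46 :=
  block_of_check (k := 8) rfl (by decide +kernel)

theorem b1602 : Block F al 410112 410368 59 :=
  block_of_check (k := 8) rfl (by decide +kernel)

theorem b1603 : Block F al 410368 410624 40 :=
  block_of_check (k := 8) rfl (by decide +kernel)

theorem b1604 : Block F al 410624 410880 9 :=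
  block_of_check (k := 8) rfl (by decide +kernel)

theorem b1605 : Block F al 410880 411136 43 :=
  block_of_check (k := 8) rfl (by decide +kernel)

theorem b1606 : Block F al 411136 411392 64 :=
  block_of_check (k := 8) rfl (by decide +kernel)

theorem b1607 : Block F al 411392 411648 42 :=
  block_of_check (k := 8) rfl (by decide +kernel)

theorem b1608 : Block F al 411648 411904 75 :=
  block_of_check (k := 8) rfl (by decide +kernel)

theorem b1609 : Block F al 411904 412160 127 :=
  block_of_check (k := 8) rfl (by decide +kernel)

theorem b1610 : Block F al 412160 412416 84 :=
  block_of_check (k := 8) rfl (by decide +kernel)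

theorem b1611 : Block F al 412416 412672 61 :=
  block_of_check (k := 8) rfl (by decide +kernel)

theorem b1612 : Block F al 412672 412928 90 :=
  block_of_check (k := 8) rfl (by decide +kernel)

theorem b1613 : Block F al 412928 413184 85 :=
  block_of_check (k := 8) rfl (by decide +kernel)

theorem b1614 : Block F al 413184 413440 47 :=
  block_of_check (k := 8) rfl (by decide +kernel)

theorem b1615 : Block F al 413440 413696 38 :=
  block_of_check (k := 8) rfl (by decide +kernel)

theorem b1616 : Block F al 413696 413952 62 :=
  block_of_check (k := 8) rfl (by decide +kernel)

theorem b1617 : Block F al 413952 414208 34 :=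
  block_of_check (k := 8) rfl (by decide +kernel)

theorem b1618 : Block F al 414208 414464 20 :=
  block_of_check (k := 8) rfl (by decide +kernel)

theorem b1619 : Block F al 414464 414720 34 :=
  block_of_check (k := 8) rfl (by decide +kernel)

theorem b1620 : Block F al 414720 414976 42 :=
  block_of_check (k := 8) rfl (by decide +kernel)

theorem b1621 : Block F al 414976 415232 38 :=
  block_of_check (k := 8) rfl (by decide +kernel)

theorem b1622 : Block F al 415232 415488 26 :=
  block_of_check (k := 8) rfl (by decide +kernel)

theorem b1623 : Block F al 415488 415744 24 :=
  block_of_check (k := 8) rfl (by decide +kernel)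

theorem b1624 : Block F al 415744 416000 74 :=
  block_of_check (k := 8) rfl (by decide +kernel)

theorem b1625 : Block F al 416000 416256 80 :=
  block_of_check (k := 8) rfl (by decide +kernel)

theorem b1626 : Block F al 416256 416512 38 :=
  block_of_check (k := 8) rfl (by decide +kernel)

theorem b1627 : Block F al 416512 416768 56 :=
  block_of_check (k := 8) rfl (by decide +kernel)

theorem b1628 : Block F al 416768 417024 78 :=
  block_of_check (k := 8) rfl (by decide +kernel)

end Cfsg.Agent.TcData.HNK.R0
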