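import Mathlib
import Cfsg.Agent.TcData.HNK.R0.Tab

set_option autoImplicit false
set_option Elab.async false
set_option maxRecDepth 100000
set_option linter.all false

namespace Cfsg.Agent.TcData.HNK.R0

open Cfsg.Spor Cfsg.Agent.Lib.TcFacts Cfsg.Agent.Lib.TcBits Cfsg.Agent.Lib.TcPres Cfsg.Spor.HN Cfsg.Agent.TcData.HNK

theorem b1629 : Block F al 417024 417280 65 :=
  block_of_check (k := 8) rfl (by decide +kernel)

theorem b1630 : Block F al 417280 417536 73 :=
  block_of_check (k := 8) rfl (by decide +kernel)

theorem b1631 : Block F al 417536 417792 60 :=
  block_of_check (k := 8) rfl (by decide +kernel)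

theorem b1632 : Block F al 417792 418048 66 :=
  block_of_check (k := 8) rfl (by decide +kernel)

theorem b1633 : Block F al 418048 418304 56 :=
  block_of_check (k := 8) rfl (by decide +kernel)

theorem b1634 : Block F al 418304 418560 62 :=
  block_of_check (k := 8) rfl (by decide +kernel)

theorem b1635 : Block F al 418560 418816 48 :=
  block_of_check (k := 8) rfl (by decide +kernel)

theorem b1636 : Block F al 418816 419072 24 :=
  block_of_check (k := 8) rfl (by decide +kernel)

theorem b1637 : Block F al 419072 419328 42 :=
  block_of_check (k := 8) rfl (by decide +kernel)

theorem b1638 : Block F al 419328 419584 43 :=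
  block_of_check (k := 8) rfl (by decide +kernel)

theorem b1639 : Block F al 419584 419840 33 :=
  block_of_check (k := 8) rfl (by decide +kernel)

theorem b1640 : Block F al 419840 420096 36 :=
  block_of_check (k := 8) rfl (by decide +kernel)

theorem b1641 : Block F al 420096 420352 103 :=
  block_of_check (k := 8) rfl (by decide +kernel)

theorem b1642 : Block F al 420352 420608 75 :=
  block_of_check (k := 8) rfl (by decide +kernel)

theorem b1643 : Block F al 420608 420864 36 :=
  block_of_check (k := 8) rfl (by decide +kernel)

theorem b1644 : Block F al 420864 421120 98 :=
  block_of_check (k := 8) rfl (by decide +kernel)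

theorem b1645 : Block F al 421120 421376 56 :=
  block_of_check (k := 8) rfl (by decide +kernel)

theorem b1646 : Block F al 421376 421632 99 :=
  block_of_check (k := 8) rfl (by decide +kernel)

theorem b1647 : Block F al 421632 421888 93 :=
  block_of_check (k := 8) rfl (by decide +kernel)

theorem b1648 : Block F al 421888 422144 94 :=
  block_of_check (k := 8) rfl (by decide +kernel)

theorem b1649 : Block F al 422144 422400 66 :=
  block_of_check (k := 8) rfl (by decide +kernel)

theorem b1650 : Block F al 422400 422656 84 :=
  block_of_check (k := 8) rfl (by decide +kernel)

theorem b1651 : Block F al 422656 422912 76 :=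
  block_of_check (k := 8) rfl (by decide +kernel)

theorem b1652 : Block F al 422912 423168 32 :=
  block_of_check (k := 8) rfl (by decide +kernel)

theorem b1653 : Block F al 423168 423424 40 :=
  block_of_check (k := 8) rfl (by decide +kernel)

theorem b1654 : Block F al 423424 423680 14 :=
  block_of_check (k := 8) rfl (by decide +kernel)

theorem b1655 : Block F al 423680 423936 41 :=
  block_of_check (k := 8) rfl (by decide +kernel)

theorem b1656 : Block F al 423936 424192 91 :=
  block_of_check (k := 8) rfl (by decide +kernel)

theorem b1657 : Block F al 424192 424448 26 :=
  block_of_check (k := 8) rfl (by decide +kernel)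

theorem b1658 : Block F al 424448 424704 64 :=
  block_of_check (k := 8) rfl (by decide +kernel)

theorem b1659 : Block F al 424704 424960 85 :=
  block_of_check (k := 8) rfl (by decide +kernel)

theorem b1660 : Block F al 424960 425216 81 :=
  block_of_check (k := 8) rfl (by decide +kernel)

theorem b1661 : Block F al 425216 425472 44 :=
  block_of_check (k := 8) rfl (by decide +kernel)

theorem b1662 : Block F al 425472 425728 52 :=
  block_of_check (k := 8) rfl (by decide +kernel)

theorem b1663 : Block F al 425728 425984 74 :=
  block_of_check (k := 8) rfl (by decide +kernel)

theorem b1664 : Block F al 425984 426240 50 :=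
  block_of_check (k := 8) rfl (by decide +kernel)

theorem b1665 : Block F al 426240 426496 68 :=
  block_of_check (k := 8) rfl (by decide +kernel)

theorem b1666 : Block F al 426496 426752 72 :=
  block_of_check (k := 8) rfl (by decide +kernel)

theorem b1667 : Block F al 426752 427008 74 :=
  block_of_check (k := 8) rfl (by decide +kernel)

theorem b1668 : Block F al 427008 427264 49 :=
  block_of_check (k := 8) rfl (by decide +kernel)

theorem b1669 : Block F al 427264 427520 73 :=
  block_of_check (k := 8) rfl (by decide +kernel)

theorem b1670 : Block F al 427520 427776 54 :=
  block_of_check (k := 8) rfl (by decide +kernel)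

theorem b1671 : Block F al 427776 428032 66 :=
  block_of_check (k := 8) rfl (by decide +kernel)

theorem b1672 : Block F al 428032 428288 70 :=
  block_of_check (k := 8) rfl (by decide +kernel)

theorem b1673 : Block F al 428288 428544 56 :=
  block_of_check (k := 8) rfl (by decide +kernel)

theorem b1674 : Block F al 428544 428800 48 :=
  block_of_check (k := 8) rfl (by decide +kernel)

theorem b1675 : Block F al 428800 429056 42 :=
  block_of_check (k := 8) rfl (by decide +kernel)

theorem b1676 : Block F al 429056 429312 32 :=
  block_of_check (k := 8) rfl (by decide +kernel)

theorem b1677 : Block F al 429312 429568 56 :=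
  block_of_check (k := 8) rfl (by decide +kernel)

theorem b1678 : Block F al 429568 429824 62 :=
  block_of_check (k := 8) rfl (by decide +kernel)

theorem b1679 : Block F al 429824 430080 60 :=
  block_of_check (k := 8) rfl (by decide +kernel)

theorem b1680 : Block F al 430080 430336 24 :=
  block_of_check (k := 8) rfl (by decide +kernel)

theorem b1681 : Block F al 430336 430592 44 :=
  block_of_check (k := 8) rfl (by decide +kernel)

theorem b1682 : Block F al 430592 430848 28 :=
  block_of_check (k := 8) rfl (by decide +kernel)

theorem b1683 : Block F al 430848 431104 42 :=
  block_of_check (k := 8) rfl (by decide +kernel)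

theorem b1684 : Block F al 431104 431360 42 :=
  block_of_check (k := 8) rfl (by decide +kernel)

theorem b1685 : Block F al 431360 431616 56 :=
  block_of_check (k := 8) rfl (by decide +kernel)

theorem b1686 : Block F al 431616 431872 55 :=
  block_of_check (k := 8) rfl (by decide +kernel)

theorem b1687 : Block F al 431872 432128 71 :=
  block_of_check (k := 8) rfl (by decide +kernel)

theorem b1688 : Block F al 432128 432384 70 :=
  block_of_check (k := 8) rfl (by decide +kernel)

theorem b1689 : Block F al 432384 432640 72 :=
  block_of_check (k := 8) rfl (by decide +kernel)

theorem b1690 : Block F al 432640 432896 32 :=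
  block_of_check (k := 8) rfl (by decide +kernel)

theorem b1691 : Block F al 432896 433152 94 :=
  block_of_check (k := 8) rfl (by decide +kernel)

theorem b1692 : Block F al 433152 433408 58 :=
  block_of_check (k := 8) rfl (by decide +kernel)

theorem b1693 : Block F al 433408 433664 74 :=
  block_of_check (k := 8) rfl (by decide +kernel)

theorem b1694 : Block F al 433664 433920 36 :=
  block_of_check (k := 8) rfl (by decide +kernel)

theorem b1695 : Block F al 433920 434176 60 :=
  block_of_check (k := 8) rfl (by decide +kernel)

theorem b1696 : Block F al 434176 434432 42 :=
  block_of_check (k := 8) rfl (by decide +kernel)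

theorem b1697 : Block F al 434432 434688 44 :=
  block_of_check (k := 8) rfl (by decide +kernel)

theorem b1698 : Block F al 434688 434944 24 :=
  block_of_check (k := 8) rfl (by decide +kernel)

theorem b1699 : Block F al 434944 435200 32 :=
  block_of_check (k := 8) rfl (by decide +kernel)

theorem b1700 : Block F al 435200 435456 70 :=
  block_of_check (k := 8) rfl (by decide +kernel)

theorem b1701 : Block F al 435456 435712 28 :=
  block_of_check (k := 8) rfl (by decide +kernel)

theorem b1702 : Block F al 435712 435968 37 :=
  block_of_check (k := 8) rfl (by decide +kernel)

theorem b1703 : Block F al 435968 436224 17 :=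
  block_of_check (k := 8) rfl (by decide +kernel)

theorem b1704 : Block F al 436224 436480 34 :=
  block_of_check (k := 8) rfl (by decide +kernel)

theorem b1705 : Block F al 436480 436736 39 :=
  block_of_check (k := 8) rfl (by decide +kernel)

theorem b1706 : Block F al 436736 436992 78 :=
  block_of_check (k := 8) rfl (by decide +kernel)

theorem b1707 : Block F al 436992 437248 31 :=
  block_of_check (k := 8) rfl (by decide +kernel)

theorem b1708 : Block F al 437248 437504 64 :=
  block_of_check (k := 8) rfl (by decide +kernel)

theorem b1709 : Block F al 437504 437760 36 :=
  block_of_check (k := 8) rfl (by decide +kernel)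

theorem b1710 : Block F al 437760 438016 52 :=
  block_of_check (k := 8) rfl (by decide +kernel)

theorem b1711 : Block F al 438016 438272 28 :=
  block_of_check (k := 8) rfl (by decide +kernel)

theorem b1712 : Block F al 438272 438528 30 :=
  block_of_check (k := 8) rfl (by decide +kernel)

theorem b1713 : Block F al 438528 438784 55 :=
  block_of_check (k := 8) rfl (by decide +kernel)

theorem b1714 : Block F al 438784 439040 23 :=
  block_of_check (k := 8) rfl (by decide +kernel)

end Cfsg.Agent.TcData.HNK.R0
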