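import Mathlib
import Cfsg.Agent.TcData.HNK.R0.Tab

set_option autoImplicit false
set_option Elab.async false
set_option maxRecDepth 100000
set_option linter.all false

namespace Cfsg.Agent.TcData.HNK.R0

open Cfsg.Spor Cfsg.Agent.Lib.TcFacts Cfsg.Agent.Lib.TcBits Cfsg.Agent.Lib.TcPres Cfsg.Spor.HN Cfsg.Agent.TcData.HNK

theorem b184 : Block F al 47104 47360 126 :=
  block_of_check (k := 8) rfl (by decide +kernel)

theorem b185 : Block F al 47360 47616 183 :=
  block_of_check (k := 8) rfl (by decide +kernel)

theorem b186 : Block F al 47616 47872 209 :=
  block_of_check (k := 8) rfl (by decide +kernel)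

theorem b187 : Block F al 47872 48128 186 :=
  block_of_check (k := 8) rfl (by decide +kernel)

theorem b188 : Block F al 48128 48384 184 :=
  block_of_check (k := 8) rfl (by decide +kernel)

theorem b189 : Block F al 48384 48640 198 :=
  block_of_check (k := 8) rfl (by decide +kernel)

theorem b190 : Block F al 48640 48896 234 :=
  block_of_check (k := 8) rfl (by decide +kernel)

theorem b191 : Block F al 48896 49152 214 :=
  block_of_check (k := 8) rfl (by decide +kernel)

theorem b192 : Block F al 49152 49408 202 :=
  block_of_check (k := 8) rfl (by decide +kernel)

theorem b193 : Block F al 49408 49664 165 :=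
  block_of_check (k := 8) rfl (by decide +kernel)

theorem b194 : Block F al 49664 49920 191 :=
  block_of_check (k := 8) rfl (by decide +kernel)

theorem b195 : Block F al 49920 50176 207 :=
  block_of_check (k := 8) rfl (by decide +kernel)

theorem b196 : Block F al 50176 50432 225 :=
  block_of_check (k := 8) rfl (by decide +kernel)

theorem b197 : Block F al 50432 50688 185 :=
  block_of_check (k := 8) rfl (by decide +kernel)

theorem b198 : Block F al 50688 50944 203 :=
  block_of_check (k := 8) rfl (by decide +kernel)

theorem b199 : Block F al 50944 51200 203 :=
  block_of_check (k := 8) rfl (by decide +kernel)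

theorem b200 : Block F al 51200 51456 160 :=
  block_of_check (k := 8) rfl (by decide +kernel)

theorem b201 : Block F al 51456 51712 204 :=
  block_of_check (k := 8) rfl (by decide +kernel)

theorem b202 : Block F al 51712 51968 192 :=
  block_of_check (k := 8) rfl (by decide +kernel)

theorem b203 : Block F al 51968 52224 169 :=
  block_of_check (k := 8) rfl (by decide +kernel)

theorem b204 : Block F al 52224 52480 221 :=
  block_of_check (k := 8) rfl (by decide +kernel)

theorem b205 : Block F al 52480 52736 174 :=
  block_of_check (k := 8) rfl (by decide +kernel)

theorem b206 : Block F al 52736 52992 174 :=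
  block_of_check (k := 8) rfl (by decide +kernel)

theorem b207 : Block F al 52992 53248 186 :=
  block_of_check (k := 8) rfl (by decide +kernel)

theorem b208 : Block F al 53248 53504 197 :=
  block_of_check (k := 8) rfl (by decide +kernel)

theorem b209 : Block F al 53504 53760 138 :=
  block_of_check (k := 8) rfl (by decide +kernel)

theorem b210 : Block F al 53760 54016 208 :=
  block_of_check (k := 8) rfl (by decide +kernel)

theorem b211 : Block F al 54016 54272 218 :=
  block_of_check (k := 8) rfl (by decide +kernel)

theorem b212 : Block F al 54272 54528 160 :=
  block_of_check (k := 8) rfl (by decide +kernel)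

theorem b213 : Block F al 54528 54784 216 :=
  block_of_check (k := 8) rfl (by decide +kernel)

theorem b214 : Block F al 54784 55040 145 :=
  block_of_check (k := 8) rfl (by decide +kernel)

theorem b215 : Block F al 55040 55296 200 :=
  block_of_check (k := 8) rfl (by decide +kernel)

theorem b216 : Block F al 55296 55552 160 :=
  block_of_check (k := 8) rfl (by decide +kernel)

theorem b217 : Block F al 55552 55808 208 :=
  block_of_check (k := 8) rfl (by decide +kernel)

theorem b218 : Block F al 55808 56064 186 :=
  block_of_check (k := 8) rfl (by decide +kernel)

theorem b219 : Block F al 56064 56320 152 :=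
  block_of_check (k := 8) rfl (by decide +kernel)

theorem b220 : Block F al 56320 56576 180 :=
  block_of_check (k := 8) rfl (by decide +kernel)

theorem b221 : Block F al 56576 56832 186 :=
  block_of_check (k := 8) rfl (by decide +kernel)

theorem b222 : Block F al 56832 57088 138 :=
  block_of_check (k := 8) rfl (by decide +kernel)

theorem b223 : Block F al 57088 57344 187 :=
  block_of_check (k := 8) rfl (by decide +kernel)

theorem b224 : Block F al 57344 57600 193 :=
  block_of_check (k := 8) rfl (by decide +kernel)

theorem b225 : Block F al 57600 57856 167 :=
  block_of_check (k := 8) rfl (by decide +kernel)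

theorem b226 : Block F al 57856 58112 207 :=
  block_of_check (k := 8) rfl (by decide +kernel)

theorem b227 : Block F al 58112 58368 203 :=
  block_of_check (k := 8) rfl (by decide +kernel)

theorem b228 : Block F al 58368 58624 175 :=
  block_of_check (k := 8) rfl (by decide +kernel)

theorem b229 : Block F al 58624 58880 192 :=
  block_of_check (k := 8) rfl (by decide +kernel)

theorem b230 : Block F al 58880 59136 178 :=
  block_of_check (k := 8) rfl (by decide +kernel)

theorem b231 : Block F al 59136 59392 214 :=
  block_of_check (k := 8) rfl (by decide +kernel)

theorem b232 : Block F al 59392 59648 176 :=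
  block_of_check (k := 8) rfl (by decide +kernel)

theorem b233 : Block F al 59648 59904 190 :=
  block_of_check (k := 8) rfl (by decide +kernel)

theorem b234 : Block F al 59904 60160 181 :=
  block_of_check (k := 8) rfl (by decide +kernel)

theorem b235 : Block F al 60160 60416 177 :=
  block_of_check (k := 8) rfl (by decide +kernel)

theorem b236 : Block F al 60416 60672 172 :=
  block_of_check (k := 8) rfl (by decide +kernel)

theorem b237 : Block F al 60672 60928 154 :=
  block_of_check (k := 8) rfl (by decide +kernel)

theorem b238 : Block F al 60928 61184 178 :=
  block_of_check (k := 8) rfl (by decide +kernel)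

theorem b239 : Block F al 61184 61440 178 :=
  block_of_check (k := 8) rfl (by decide +kernel)

theorem b240 : Block F al 61440 61696 183 :=
  block_of_check (k := 8) rfl (by decide +kernel)

theorem b241 : Block F al 61696 61952 187 :=
  block_of_check (k := 8) rfl (by decide +kernel)

theorem b242 : Block F al 61952 62208 162 :=
  block_of_check (k := 8) rfl (by decide +kernel)

theorem b243 : Block F al 62208 62464 216 :=
  block_of_check (k := 8) rfl (by decide +kernel)

theorem b244 : Block F al 62464 62720 173 :=
  block_of_check (k := 8) rfl (by decide +kernel)

theorem b245 : Block F al 62720 62976 183 :=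
  block_of_check (k := 8) rfl (by decide +kernel)

theorem b246 : Block F al 62976 63232 170 :=
  block_of_check (k := 8) rfl (by decide +kernel)

theorem b247 : Block F al 63232 63488 168 :=
  block_of_check (k := 8) rfl (by decide +kernel)

theorem b248 : Block F al 63488 63744 146 :=
  block_of_check (k := 8) rfl (by decide +kernel)

theorem b249 : Block F al 63744 64000 176 :=
  block_of_check (k := 8) rfl (by decide +kernel)

theorem b250 : Block F al 64000 64256 190 :=
  block_of_check (k := 8) rfl (by decide +kernel)

theorem b251 : Block F al 64256 64512 166 :=
  block_of_check (k := 8) rfl (by decide +kernel)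

theorem b252 : Block F al 64512 64768 146 :=
  block_of_check (k := 8) rfl (by decide +kernel)

theorem b253 : Block F al 64768 65024 168 :=
  block_of_check (k := 8) rfl (by decide +kernel)

theorem b254 : Block F al 65024 65280 166 :=
  block_of_check (k := 8) rfl (by decide +kernel)

theorem b255 : Block F al 65280 65536 184 :=
  block_of_check (k := 8) rfl (by decide +kernel)

theorem b256 : Block F al 65536 65792 202 :=
  block_of_check (k := 8) rfl (by decide +kernel)

theorem b257 : Block F al 65792 66048 162 :=
  block_of_check (k := 8) rfl (by decide +kernel)

theorem b258 : Block F al 66048 66304 148 :=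
  block_of_check (k := 8) rfl (by decide +kernel)

theorem b259 : Block F al 66304 66560 152 :=
  block_of_check (k := 8) rfl (by decide +kernel)

theorem b260 : Block F al 66560 66816 138 :=
  block_of_check (k := 8) rfl (by decide +kernel)

theorem b261 : Block F al 66816 67072 178 :=
  block_of_check (k := 8) rfl (by decide +kernel)

theorem b262 : Block F al 67072 67328 186 :=
  block_of_check (k := 8) rfl (by decide +kernel)

theorem b263 : Block F al 67328 67584 124 :=
  block_of_check (k := 8) rfl (by decide +kernel)

theorem b264 : Block F al 67584 67840 146 :=
  block_of_check (k := 8) rfl (by decide +kernel)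

theorem b265 : Block F al 67840 68096 171 :=
  block_of_check (k := 8) rfl (by decide +kernel)

theorem b266 : Block F al 68096 68352 192 :=
  block_of_check (k := 8) rfl (by decide +kernel)

theorem b267 : Block F al 68352 68608 198 :=
  block_of_check (k := 8) rfl (by decide +kernel)

theorem b268 : Block F al 68608 68864 169 :=
  block_of_check (k := 8) rfl (by decide +kernel)

theorem b269 : Block F al 68864 69120 112 :=
  block_of_check (k := 8) rfl (by decide +kernel)

theorem b270 : Block F al 69120 69376 120 :=
  block_of_check (k := 8) rfl (by decide +kernel)

theorem b271 : Block F al 69376 69632 138 :=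
  block_of_check (k := 8) rfl (by decide +kernel)

end Cfsg.Agent.TcData.HNK.R0
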