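import Mathlib
import Cfsg.Agent.TcData.HNK.R0.Tab

set_option autoImplicit false
set_option Elab.async false
set_option maxRecDepth 100000
set_option linter.all false

namespace Cfsg.Agent.TcData.HNK.R0

open Cfsg.Spor Cfsg.Agent.Lib.TcFacts Cfsg.Agent.Lib.TcBits Cfsg.Agent.Lib.TcPres Cfsg.Spor.HN Cfsg.Agent.TcData.HNK

theorem b1715 : Block F al 439040 439296 32 :=
  block_of_check (k := 8) rfl (by decide +kernel)

theorem b1716 : Block F al 439296 439552 50 :=
  block_of_check (k := 8) rfl (by decide +kernel)

theorem b1717 : Block F al 439552 439808 58 :=
  block_of_check (k := 8) rfl (by decide +kernel)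

theorem b1718 : Block F al 439808 440064 12 :=
  block_of_check (k := 8) rfl (by decide +kernel)

theorem b1719 : Block F al 440064 440320 34 :=
  block_of_check (k := 8) rfl (by decide +kernel)

theorem b1720 : Block F al 440320 440576 76 :=
  block_of_check (k := 8) rfl (by decide +kernel)

theorem b1721 : Block F al 440576 440832 20 :=
  block_of_check (k := 8) rfl (by decide +kernel)

theorem b1722 : Block F al 440832 441088 36 :=
  block_of_check (k := 8) rfl (by decide +kernel)

theorem b1723 : Block F al 441088 441344 56 :=
  block_of_check (k := 8) rfl (by decide +kernel)

theorem b1724 : Block F al 441344 441600 32 :=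
  block_of_check (k := 8) rfl (by decide +kernel)

theorem b1725 : Block F al 441600 441856 64 :=
  block_of_check (k := 8) rfl (by decide +kernel)

theorem b1726 : Block F al 441856 442112 58 :=
  block_of_check (k := 8) rfl (by decide +kernel)

theorem b1727 : Block F al 442112 442368 80 :=
  block_of_check (k := 8) rfl (by decide +kernel)

theorem b1728 : Block F al 442368 442624 42 :=
  block_of_check (k := 8) rfl (by decide +kernel)

theorem b1729 : Block F al 442624 442880 56 :=
  block_of_check (k := 8) rfl (by decide +kernel)

theorem b1730 : Block F al 442880 443136 34 :=
  block_of_check (k := 8) rfl (by decide +kernel)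

theorem b1731 : Block F al 443136 443392 49 :=
  block_of_check (k := 8) rfl (by decide +kernel)

theorem b1732 : Block F al 443392 443648 37 :=
  block_of_check (k := 8) rfl (by decide +kernel)

theorem b1733 : Block F al 443648 443904 50 :=
  block_of_check (k := 8) rfl (by decide +kernel)

theorem b1734 : Block F al 443904 444160 76 :=
  block_of_check (k := 8) rfl (by decide +kernel)

theorem b1735 : Block F al 444160 444416 64 :=
  block_of_check (k := 8) rfl (by decide +kernel)

theorem b1736 : Block F al 444416 444672 34 :=
  block_of_check (k := 8) rfl (by decide +kernel)

theorem b1737 : Block F al 444672 444928 58 :=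
  block_of_check (k := 8) rfl (by decide +kernel)

theorem b1738 : Block F al 444928 445184 89 :=
  block_of_check (k := 8) rfl (by decide +kernel)

theorem b1739 : Block F al 445184 445440 55 :=
  block_of_check (k := 8) rfl (by decide +kernel)

theorem b1740 : Block F al 445440 445696 46 :=
  block_of_check (k := 8) rfl (by decide +kernel)

theorem b1741 : Block F al 445696 445952 52 :=
  block_of_check (k := 8) rfl (by decide +kernel)

theorem b1742 : Block F al 445952 446208 90 :=
  block_of_check (k := 8) rfl (by decide +kernel)

theorem b1743 : Block F al 446208 446464 80 :=
  block_of_check (k := 8) rfl (by decide +kernel)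

theorem b1744 : Block F al 446464 446720 24 :=
  block_of_check (k := 8) rfl (by decide +kernel)

theorem b1745 : Block F al 446720 446976 68 :=
  block_of_check (k := 8) rfl (by decide +kernel)

theorem b1746 : Block F al 446976 447232 62 :=
  block_of_check (k := 8) rfl (by decide +kernel)

theorem b1747 : Block F al 447232 447488 87 :=
  block_of_check (k := 8) rfl (by decide +kernel)

theorem b1748 : Block F al 447488 447744 49 :=
  block_of_check (k := 8) rfl (by decide +kernel)

theorem b1749 : Block F al 447744 448000 24 :=
  block_of_check (k := 8) rfl (by decide +kernel)

theorem b1750 : Block F al 448000 448256 32 :=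
  block_of_check (k := 8) rfl (by decide +kernel)

theorem b1751 : Block F al 448256 448512 50 :=
  block_of_check (k := 8) rfl (by decide +kernel)

theorem b1752 : Block F al 448512 448768 62 :=
  block_of_check (k := 8) rfl (by decide +kernel)

theorem b1753 : Block F al 448768 449024 36 :=
  block_of_check (k := 8) rfl (by decide +kernel)

theorem b1754 : Block F al 449024 449280 27 :=
  block_of_check (k := 8) rfl (by decide +kernel)

theorem b1755 : Block F al 449280 449536 63 :=
  block_of_check (k := 8) rfl (by decide +kernel)

theorem b1756 : Block F al 449536 449792 35 :=
  block_of_check (k := 8) rfl (by decide +kernel)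

theorem b1757 : Block F al 449792 450048 48 :=
  block_of_check (k := 8) rfl (by decide +kernel)

theorem b1758 : Block F al 450048 450304 69 :=
  block_of_check (k := 8) rfl (by decide +kernel)

theorem b1759 : Block F al 450304 450560 71 :=
  block_of_check (k := 8) rfl (by decide +kernel)

theorem b1760 : Block F al 450560 450816 63 :=
  block_of_check (k := 8) rfl (by decide +kernel)

theorem b1761 : Block F al 450816 451072 40 :=
  block_of_check (k := 8) rfl (by decide +kernel)

theorem b1762 : Block F al 451072 451328 48 :=
  block_of_check (k := 8) rfl (by decide +kernel)

theorem b1763 : Block F al 451328 451584 38 :=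
  block_of_check (k := 8) rfl (by decide +kernel)

theorem b1764 : Block F al 451584 451840 32 :=
  block_of_check (k := 8) rfl (by decide +kernel)

theorem b1765 : Block F al 451840 452096 62 :=
  block_of_check (k := 8) rfl (by decide +kernel)

theorem b1766 : Block F al 452096 452352 88 :=
  block_of_check (k := 8) rfl (by decide +kernel)

theorem b1767 : Block F al 452352 452608 40 :=
  block_of_check (k := 8) rfl (by decide +kernel)

theorem b1768 : Block F al 452608 452864 52 :=
  block_of_check (k := 8) rfl (by decide +kernel)

theorem b1769 : Block F al 452864 453120 54 :=
  block_of_check (k := 8) rfl (by decide +kernel)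

theorem b1770 : Block F al 453120 453376 78 :=
  block_of_check (k := 8) rfl (by decide +kernel)

theorem b1771 : Block F al 453376 453632 24 :=
  block_of_check (k := 8) rfl (by decide +kernel)

theorem b1772 : Block F al 453632 453888 22 :=
  block_of_check (k := 8) rfl (by decide +kernel)

theorem b1773 : Block F al 453888 454144 66 :=
  block_of_check (k := 8) rfl (by decide +kernel)

theorem b1774 : Block F al 454144 454400 32 :=
  block_of_check (k := 8) rfl (by decide +kernel)

theorem b1775 : Block F al 454400 454656 46 :=
  block_of_check (k := 8) rfl (by decide +kernel)

theorem b1776 : Block F al 454656 454912 46 :=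
  block_of_check (k := 8) rfl (by decide +kernel)

theorem b1777 : Block F al 454912 455168 76 :=
  block_of_check (k := 8) rfl (by decide +kernel)

theorem b1778 : Block F al 455168 455424 62 :=
  block_of_check (k := 8) rfl (by decide +kernel)

theorem b1779 : Block F al 455424 455680 44 :=
  block_of_check (k := 8) rfl (by decide +kernel)

theorem b1780 : Block F al 455680 455936 46 :=
  block_of_check (k := 8) rfl (by decide +kernel)

theorem b1781 : Block F al 455936 456192 33 :=
  block_of_check (k := 8) rfl (by decide +kernel)

theorem b1782 : Block F al 456192 456448 35 :=
  block_of_check (k := 8) rfl (by decide +kernel)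

theorem b1783 : Block F al 456448 456704 51 :=
  block_of_check (k := 8) rfl (by decide +kernel)

theorem b1784 : Block F al 456704 456960 79 :=
  block_of_check (k := 8) rfl (by decide +kernel)

theorem b1785 : Block F al 456960 457216 25 :=
  block_of_check (k := 8) rfl (by decide +kernel)

theorem b1786 : Block F al 457216 457472 61 :=
  block_of_check (k := 8) rfl (by decide +kernel)

theorem b1787 : Block F al 457472 457728 8 :=
  block_of_check (k := 8) rfl (by decide +kernel)

theorem b1788 : Block F al 457728 457984 36 :=
  block_of_check (k := 8) rfl (by decide +kernel)

theorem b1789 : Block F al 457984 458240 68 :=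
  block_of_check (k := 8) rfl (by decide +kernel)

theorem b1790 : Block F al 458240 458496 83 :=
  block_of_check (k := 8) rfl (by decide +kernel)

theorem b1791 : Block F al 458496 458752 85 :=
  block_of_check (k := 8) rfl (by decide +kernel)

theorem b1792 : Block F al 458752 459008 52 :=
  block_of_check (k := 8) rfl (by decide +kernel)

theorem b1793 : Block F al 459008 459264 24 :=
  block_of_check (k := 8) rfl (by decide +kernel)

theorem b1794 : Block F al 459264 459520 53 :=
  block_of_check (k := 8) rfl (by decide +kernel)

theorem b1795 : Block F al 459520 459776 33 :=
  block_of_check (k := 8) rfl (by decide +kernel)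

theorem b1796 : Block F al 459776 460032 69 :=
  block_of_check (k := 8) rfl (by decide +kernel)

theorem b1797 : Block F al 460032 460288 74 :=
  block_of_check (k := 8) rfl (by decide +kernel)

theorem b1798 : Block F al 460288 460544 78 :=
  block_of_check (k := 8) rfl (by decide +kernel)

theorem b1799 : Block F al 460544 460800 31 :=
  block_of_check (k := 8) rfl (by decide +kernel)

end Cfsg.Agent.TcData.HNK.R0
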