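import Mathlib
import Cfsg.Agent.TcData.HNK.R0.Tab

set_option autoImplicit false
set_option Elab.async false
set_option maxRecDepth 100000
set_option linter.all false

namespace Cfsg.Agent.TcData.HNK.R0

open Cfsg.Spor Cfsg.Agent.Lib.TcFacts Cfsg.Agent.Lib.TcBits Cfsg.Agent.Lib.TcPres Cfsg.Spor.HN Cfsg.Agent.TcData.HNK

theorem b1800 : Block F al 460800 461056 27 :=
  block_of_check (k := 8) rfl (by decide +kernel)

theorem b1801 : Block F al 461056 461312 25 :=
  block_of_check (k := 8) rfl (by decide +kernel)

theorem b1802 : Block F al 461312 461568 12 :=
  block_of_check (k := 8) rfl (by decide +kernel)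

theorem b1803 : Block F al 461568 461824 34 :=
  block_of_check (k := 8) rfl (by decide +kernel)

theorem b1804 : Block F al 461824 462080 56 :=
  block_of_check (k := 8) rfl (by decide +kernel)

theorem b1805 : Block F al 462080 462336 44 :=
  block_of_check (k := 8) rfl (by decide +kernel)

theorem b1806 : Block F al 462336 462592 56 :=
  block_of_check (k := 8) rfl (by decide +kernel)

theorem b1807 : Block F al 462592 462848 24 :=
  block_of_check (k := 8) rfl (by decide +kernel)

theorem b1808 : Block F al 462848 463104 20 :=
  block_of_check (k := 8) rfl (by decide +kernel)

theorem b1809 : Block F al 463104 463360 36 :=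
  block_of_check (k := 8) rfl (by decide +kernel)

theorem b1810 : Block F al 463360 463616 40 :=
  block_of_check (k := 8) rfl (by decide +kernel)

theorem b1811 : Block F al 463616 463872 26 :=
  block_of_check (k := 8) rfl (by decide +kernel)

theorem b1812 : Block F al 463872 464128 56 :=
  block_of_check (k := 8) rfl (by decide +kernel)

theorem b1813 : Block F al 464128 464384 38 :=
  block_of_check (k := 8) rfl (by decide +kernel)

theorem b1814 : Block F al 464384 464640 34 :=
  block_of_check (k := 8) rfl (by decide +kernel)

theorem b1815 : Block F al 464640 464896 38 :=
  block_of_check (k := 8) rfl (by decide +kernel)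

theorem b1816 : Block F al 464896 465152 34 :=
  block_of_check (k := 8) rfl (by decide +kernel)

theorem b1817 : Block F al 465152 465408 48 :=
  block_of_check (k := 8) rfl (by decide +kernel)

theorem b1818 : Block F al 465408 465664 64 :=
  block_of_check (k := 8) rfl (by decide +kernel)

theorem b1819 : Block F al 465664 465920 80 :=
  block_of_check (k := 8) rfl (by decide +kernel)

theorem b1820 : Block F al 465920 466176 35 :=
  block_of_check (k := 8) rfl (by decide +kernel)

theorem b1821 : Block F al 466176 466432 39 :=
  block_of_check (k := 8) rfl (by decide +kernel)

theorem b1822 : Block F al 466432 466688 78 :=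
  block_of_check (k := 8) rfl (by decide +kernel)

theorem b1823 : Block F al 466688 466944 42 :=
  block_of_check (k := 8) rfl (by decide +kernel)

theorem b1824 : Block F al 466944 467200 66 :=
  block_of_check (k := 8) rfl (by decide +kernel)

theorem b1825 : Block F al 467200 467456 32 :=
  block_of_check (k := 8) rfl (by decide +kernel)

theorem b1826 : Block F al 467456 467712 68 :=
  block_of_check (k := 8) rfl (by decide +kernel)

theorem b1827 : Block F al 467712 467968 84 :=
  block_of_check (k := 8) rfl (by decide +kernel)

theorem b1828 : Block F al 467968 468224 70 :=
  block_of_check (k := 8) rfl (by decide +kernel)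

theorem b1829 : Block F al 468224 468480 42 :=
  block_of_check (k := 8) rfl (by decide +kernel)

theorem b1830 : Block F al 468480 468736 76 :=
  block_of_check (k := 8) rfl (by decide +kernel)

theorem b1831 : Block F al 468736 468992 71 :=
  block_of_check (k := 8) rfl (by decide +kernel)

theorem b1832 : Block F al 468992 469248 65 :=
  block_of_check (k := 8) rfl (by decide +kernel)

theorem b1833 : Block F al 469248 469504 44 :=
  block_of_check (k := 8) rfl (by decide +kernel)

theorem b1834 : Block F al 469504 469760 34 :=
  block_of_check (k := 8) rfl (by decide +kernel)

theorem b1835 : Block F al 469760 470016 34 :=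
  block_of_check (k := 8) rfl (by decide +kernel)

theorem b1836 : Block F al 470016 470272 60 :=
  block_of_check (k := 8) rfl (by decide +kernel)

theorem b1837 : Block F al 470272 470528 48 :=
  block_of_check (k := 8) rfl (by decide +kernel)

theorem b1838 : Block F al 470528 470784 62 :=
  block_of_check (k := 8) rfl (by decide +kernel)

theorem b1839 : Block F al 470784 471040 66 :=
  block_of_check (k := 8) rfl (by decide +kernel)

theorem b1840 : Block F al 471040 471296 42 :=
  block_of_check (k := 8) rfl (by decide +kernel)

theorem b1841 : Block F al 471296 471552 34 :=
  block_of_check (k := 8) rfl (by decide +kernel)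

theorem b1842 : Block F al 471552 471808 56 :=
  block_of_check (k := 8) rfl (by decide +kernel)

theorem b1843 : Block F al 471808 472064 16 :=
  block_of_check (k := 8) rfl (by decide +kernel)

theorem b1844 : Block F al 472064 472320 28 :=
  block_of_check (k := 8) rfl (by decide +kernel)

theorem b1845 : Block F al 472320 472576 18 :=
  block_of_check (k := 8) rfl (by decide +kernel)

theorem b1846 : Block F al 472576 472832 24 :=
  block_of_check (k := 8) rfl (by decide +kernel)

theorem b1847 : Block F al 472832 473088 16 :=
  block_of_check (k := 8) rfl (by decide +kernel)

theorem b1848 : Block F al 473088 473344 22 :=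
  block_of_check (k := 8) rfl (by decide +kernel)

theorem b1849 : Block F al 473344 473600 34 :=
  block_of_check (k := 8) rfl (by decide +kernel)

theorem b1850 : Block F al 473600 473856 12 :=
  block_of_check (k := 8) rfl (by decide +kernel)

theorem b1851 : Block F al 473856 474112 22 :=
  block_of_check (k := 8) rfl (by decide +kernel)

theorem b1852 : Block F al 474112 474368 4 :=
  block_of_check (k := 8) rfl (by decide +kernel)

theorem b1853 : Block F al 474368 474624 54 :=
  block_of_check (k := 8) rfl (by decide +kernel)

theorem b1854 : Block F al 474624 474880 44 :=
  block_of_check (k := 8) rfl (by decide +kernel)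

theorem b1855 : Block F al 474880 475136 46 :=
  block_of_check (k := 8) rfl (by decide +kernel)

theorem b1856 : Block F al 475136 475392 64 :=
  block_of_check (k := 8) rfl (by decide +kernel)

theorem b1857 : Block F al 475392 475648 82 :=
  block_of_check (k := 8) rfl (by decide +kernel)

theorem b1858 : Block F al 475648 475904 38 :=
  block_of_check (k := 8) rfl (by decide +kernel)

theorem b1859 : Block F al 475904 476160 42 :=
  block_of_check (k := 8) rfl (by decide +kernel)

theorem b1860 : Block F al 476160 476416 6 :=
  block_of_check (k := 8) rfl (by decide +kernel)

theorem b1861 : Block F al 476416 476672 12 :=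
  block_of_check (k := 8) rfl (by decide +kernel)

theorem b1862 : Block F al 476672 476928 57 :=
  block_of_check (k := 8) rfl (by decide +kernel)

theorem b1863 : Block F al 476928 477184 71 :=
  block_of_check (k := 8) rfl (by decide +kernel)

theorem b1864 : Block F al 477184 477440 42 :=
  block_of_check (k := 8) rfl (by decide +kernel)

theorem b1865 : Block F al 477440 477696 75 :=
  block_of_check (k := 8) rfl (by decide +kernel)

theorem b1866 : Block F al 477696 477952 65 :=
  block_of_check (k := 8) rfl (by decide +kernel)

theorem b1867 : Block F al 477952 478208 44 :=
  block_of_check (k := 8) rfl (by decide +kernel)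

theorem b1868 : Block F al 478208 478464 46 :=
  block_of_check (k := 8) rfl (by decide +kernel)

theorem b1869 : Block F al 478464 478720 18 :=
  block_of_check (k := 8) rfl (by decide +kernel)

theorem b1870 : Block F al 478720 478976 14 :=
  block_of_check (k := 8) rfl (by decide +kernel)

theorem b1871 : Block F al 478976 479232 31 :=
  block_of_check (k := 8) rfl (by decide +kernel)

theorem b1872 : Block F al 479232 479488 19 :=
  block_of_check (k := 8) rfl (by decide +kernel)

theorem b1873 : Block F al 479488 479744 25 :=
  block_of_check (k := 8) rfl (by decide +kernel)

theorem b1874 : Block F al 479744 480000 51 :=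
  block_of_check (k := 8) rfl (by decide +kernel)

theorem b1875 : Block F al 480000 480256 29 :=
  block_of_check (k := 8) rfl (by decide +kernel)

theorem b1876 : Block F al 480256 480512 67 :=
  block_of_check (k := 8) rfl (by decide +kernel)

theorem b1877 : Block F al 480512 480768 48 :=
  block_of_check (k := 8) rfl (by decide +kernel)

theorem b1878 : Block F al 480768 481024 78 :=
  block_of_check (k := 8) rfl (by decide +kernel)

theorem b1879 : Block F al 481024 481280 42 :=
  block_of_check (k := 8) rfl (by decide +kernel)

theorem b1880 : Block F al 481280 481536 34 :=
  block_of_check (k := 8) rfl (by decide +kernel)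

theorem b1881 : Block F al 481536 481792 58 :=
  block_of_check (k := 8) rfl (by decide +kernel)

theorem b1882 : Block F al 481792 482048 68 :=
  block_of_check (k := 8) rfl (by decide +kernel)

theorem b1883 : Block F al 482048 482304 58 :=
  block_of_check (k := 8) rfl (by decide +kernel)

theorem b1884 : Block F al 482304 482560 20 :=
  block_of_check (k := 8) rfl (by decide +kernel)

end Cfsg.Agent.TcData.HNK.R0
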