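import Mathlib
import Cfsg.Agent.TcData.HNK.R0.Tab

set_option autoImplicit false
set_option Elab.async false
set_option maxRecDepth 100000
set_option linter.all false

namespace Cfsg.Agent.TcData.HNK.R0

open Cfsg.Spor Cfsg.Agent.Lib.TcFacts Cfsg.Agent.Lib.TcBits Cfsg.Agent.Lib.TcPres Cfsg.Spor.HN Cfsg.Agent.TcData.HNK

theorem b1885 : Block F al 482560 482816 52 :=
  block_of_check (k := 8) rfl (by decide +kernel)

theorem b1886 : Block F al 482816 483072 72 :=
  block_of_check (k := 8) rfl (by decide +kernel)

theorem b1887 : Block F al 483072 483328 48 :=
  block_of_check (k := 8) rfl (by decide +kernel)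

theorem b1888 : Block F al 483328 483584 74 :=
  block_of_check (k := 8) rfl (by decide +kernel)

theorem b1889 : Block F al 483584 483840 40 :=
  block_of_check (k := 8) rfl (by decide +kernel)

theorem b1890 : Block F al 483840 484096 48 :=
  block_of_check (k := 8) rfl (by decide +kernel)

theorem b1891 : Block F al 484096 484352 54 :=
  block_of_check (k := 8) rfl (by decide +kernel)

theorem b1892 : Block F al 484352 484608 82 :=
  block_of_check (k := 8) rfl (by decide +kernel)

theorem b1893 : Block F al 484608 484864 76 :=
  block_of_check (k := 8) rfl (by decide +kernel)

theorem b1894 : Block F al 484864 485120 78 :=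
  block_of_check (k := 8) rfl (by decide +kernel)

theorem b1895 : Block F al 485120 485376 68 :=
  block_of_check (k := 8) rfl (by decide +kernel)

theorem b1896 : Block F al 485376 485632 42 :=
  block_of_check (k := 8) rfl (by decide +kernel)

theorem b1897 : Block F al 485632 485888 28 :=
  block_of_check (k := 8) rfl (by decide +kernel)

theorem b1898 : Block F al 485888 486144 32 :=
  block_of_check (k := 8) rfl (by decide +kernel)

theorem b1899 : Block F al 486144 486400 28 :=
  block_of_check (k := 8) rfl (by decide +kernel)

theorem b1900 : Block F al 486400 486656 30 :=
  block_of_check (k := 8) rfl (by decide +kernel)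

theorem b1901 : Block F al 486656 486912 14 :=
  block_of_check (k := 8) rfl (by decide +kernel)

theorem b1902 : Block F al 486912 487168 29 :=
  block_of_check (k := 8) rfl (by decide +kernel)

theorem b1903 : Block F al 487168 487424 67 :=
  block_of_check (k := 8) rfl (by decide +kernel)

theorem b1904 : Block F al 487424 487680 16 :=
  block_of_check (k := 8) rfl (by decide +kernel)

theorem b1905 : Block F al 487680 487936 42 :=
  block_of_check (k := 8) rfl (by decide +kernel)

theorem b1906 : Block F al 487936 488192 52 :=
  block_of_check (k := 8) rfl (by decide +kernel)

theorem b1907 : Block F al 488192 488448 30 :=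
  block_of_check (k := 8) rfl (by decide +kernel)

theorem b1908 : Block F al 488448 488704 42 :=
  block_of_check (k := 8) rfl (by decide +kernel)

theorem b1909 : Block F al 488704 488960 18 :=
  block_of_check (k := 8) rfl (by decide +kernel)

theorem b1910 : Block F al 488960 489216 18 :=
  block_of_check (k := 8) rfl (by decide +kernel)

theorem b1911 : Block F al 489216 489472 63 :=
  block_of_check (k := 8) rfl (by decide +kernel)

theorem b1912 : Block F al 489472 489728 45 :=
  block_of_check (k := 8) rfl (by decide +kernel)

theorem b1913 : Block F al 489728 489984 52 :=
  block_of_check (k := 8) rfl (by decide +kernel)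

theorem b1914 : Block F al 489984 490240 34 :=
  block_of_check (k := 8) rfl (by decide +kernel)

theorem b1915 : Block F al 490240 490496 44 :=
  block_of_check (k := 8) rfl (by decide +kernel)

theorem b1916 : Block F al 490496 490752 54 :=
  block_of_check (k := 8) rfl (by decide +kernel)

theorem b1917 : Block F al 490752 491008 16 :=
  block_of_check (k := 8) rfl (by decide +kernel)

theorem b1918 : Block F al 491008 491264 20 :=
  block_of_check (k := 8) rfl (by decide +kernel)

theorem b1919 : Block F al 491264 491520 44 :=
  block_of_check (k := 8) rfl (by decide +kernel)

theorem b1920 : Block F al 491520 491776 63 :=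
  block_of_check (k := 8) rfl (by decide +kernel)

theorem b1921 : Block F al 491776 492032 63 :=
  block_of_check (k := 8) rfl (by decide +kernel)

theorem b1922 : Block F al 492032 492288 60 :=
  block_of_check (k := 8) rfl (by decide +kernel)

theorem b1923 : Block F al 492288 492544 44 :=
  block_of_check (k := 8) rfl (by decide +kernel)

theorem b1924 : Block F al 492544 492800 24 :=
  block_of_check (k := 8) rfl (by decide +kernel)

theorem b1925 : Block F al 492800 493056 82 :=
  block_of_check (k := 8) rfl (by decide +kernel)

theorem b1926 : Block F al 493056 493312 98 :=
  block_of_check (k := 8) rfl (by decide +kernel)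

theorem b1927 : Block F al 493312 493568 56 :=
  block_of_check (k := 8) rfl (by decide +kernel)

theorem b1928 : Block F al 493568 493824 54 :=
  block_of_check (k := 8) rfl (by decide +kernel)

theorem b1929 : Block F al 493824 494080 38 :=
  block_of_check (k := 8) rfl (by decide +kernel)

theorem b1930 : Block F al 494080 494336 31 :=
  block_of_check (k := 8) rfl (by decide +kernel)

theorem b1931 : Block F al 494336 494592 69 :=
  block_of_check (k := 8) rfl (by decide +kernel)

theorem b1932 : Block F al 494592 494848 42 :=
  block_of_check (k := 8) rfl (by decide +kernel)

theorem b1933 : Block F al 494848 495104 28 :=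
  block_of_check (k := 8) rfl (by decide +kernel)

theorem b1934 : Block F al 495104 495360 32 :=
  block_of_check (k := 8) rfl (by decide +kernel)

theorem b1935 : Block F al 495360 495616 22 :=
  block_of_check (k := 8) rfl (by decide +kernel)

theorem b1936 : Block F al 495616 495872 26 :=
  block_of_check (k := 8) rfl (by decide +kernel)

theorem b1937 : Block F al 495872 496128 66 :=
  block_of_check (k := 8) rfl (by decide +kernel)

theorem b1938 : Block F al 496128 496384 42 :=
  block_of_check (k := 8) rfl (by decide +kernel)

theorem b1939 : Block F al 496384 496640 64 :=
  block_of_check (k := 8) rfl (by decide +kernel)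

theorem b1940 : Block F al 496640 496896 42 :=
  block_of_check (k := 8) rfl (by decide +kernel)

theorem b1941 : Block F al 496896 497152 40 :=
  block_of_check (k := 8) rfl (by decide +kernel)

theorem b1942 : Block F al 497152 497408 74 :=
  block_of_check (k := 8) rfl (by decide +kernel)

theorem b1943 : Block F al 497408 497664 56 :=
  block_of_check (k := 8) rfl (by decide +kernel)

theorem b1944 : Block F al 497664 497920 20 :=
  block_of_check (k := 8) rfl (by decide +kernel)

theorem b1945 : Block F al 497920 498176 36 :=
  block_of_check (k := 8) rfl (by decide +kernel)

theorem b1946 : Block F al 498176 498432 50 :=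
  block_of_check (k := 8) rfl (by decide +kernel)

theorem b1947 : Block F al 498432 498688 28 :=
  block_of_check (k := 8) rfl (by decide +kernel)

theorem b1948 : Block F al 498688 498944 26 :=
  block_of_check (k := 8) rfl (by decide +kernel)

theorem b1949 : Block F al 498944 499200 16 :=
  block_of_check (k := 8) rfl (by decide +kernel)

theorem b1950 : Block F al 499200 499456 24 :=
  block_of_check (k := 8) rfl (by decide +kernel)

theorem b1951 : Block F al 499456 499712 66 :=
  block_of_check (k := 8) rfl (by decide +kernel)

theorem b1952 : Block F al 499712 499968 30 :=
  block_of_check (k := 8) rfl (by decide +kernel)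

theorem b1953 : Block F al 499968 500224 33 :=
  block_of_check (k := 8) rfl (by decide +kernel)

theorem b1954 : Block F al 500224 500480 55 :=
  block_of_check (k := 8) rfl (by decide +kernel)

theorem b1955 : Block F al 500480 500736 72 :=
  block_of_check (k := 8) rfl (by decide +kernel)

theorem b1956 : Block F al 500736 500992 50 :=
  block_of_check (k := 8) rfl (by decide +kernel)

theorem b1957 : Block F al 500992 501248 18 :=
  block_of_check (k := 8) rfl (by decide +kernel)

theorem b1958 : Block F al 501248 501504 24 :=
  block_of_check (k := 8) rfl (by decide +kernel)

theorem b1959 : Block F al 501504 501760 26 :=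
  block_of_check (k := 8) rfl (by decide +kernel)

theorem b1960 : Block F al 501760 502016 58 :=
  block_of_check (k := 8) rfl (by decide +kernel)

theorem b1961 : Block F al 502016 502272 41 :=
  block_of_check (k := 8) rfl (by decide +kernel)

theorem b1962 : Block F al 502272 502528 47 :=
  block_of_check (k := 8) rfl (by decide +kernel)

theorem b1963 : Block F al 502528 502784 86 :=
  block_of_check (k := 8) rfl (by decide +kernel)

theorem b1964 : Block F al 502784 503040 12 :=
  block_of_check (k := 8) rfl (by decide +kernel)

theorem b1965 : Block F al 503040 503296 36 :=
  block_of_check (k := 8) rfl (by decide +kernel)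

theorem b1966 : Block F al 503296 503552 54 :=
  block_of_check (k := 8) rfl (by decide +kernel)

theorem b1967 : Block F al 503552 503808 68 :=
  block_of_check (k := 8) rfl (by decide +kernel)

theorem b1968 : Block F al 503808 504064 32 :=
  block_of_check (k := 8) rfl (by decide +kernel)

theorem b1969 : Block F al 504064 504320 44 :=
  block_of_check (k := 8) rfl (by decide +kernel)

end Cfsg.Agent.TcData.HNK.R0
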