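import Mathlib
import Cfsg.Agent.TcData.HNK.R0.Tab

set_option autoImplicit false
set_option Elab.async false
set_option maxRecDepth 100000
set_option linter.all false

namespace Cfsg.Agent.TcData.HNK.R0

open Cfsg.Spor Cfsg.Agent.Lib.TcFacts Cfsg.Agent.Lib.TcBits Cfsg.Agent.Lib.TcPres Cfsg.Spor.HN Cfsg.Agent.TcData.HNK

theorem b1970 : Block F al 504320 504576 42 :=
  block_of_check (k := 8) rfl (by decide +kernel)

theorem b1971 : Block F al 504576 504832 40 :=
  block_of_check (k := 8) rfl (by decide +kernel)

theorem b1972 : Block F al 504832 505088 44 :=
  block_of_check (k := 8) rfl (by decide +kernel)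

theorem b1973 : Block F al 505088 505344 72 :=
  block_of_check (k := 8) rfl (by decide +kernel)

theorem b1974 : Block F al 505344 505600 20 :=
  block_of_check (k := 8) rfl (by decide +kernel)

theorem b1975 : Block F al 505600 505856 34 :=
  block_of_check (k := 8) rfl (by decide +kernel)

theorem b1976 : Block F al 505856 506112 22 :=
  block_of_check (k := 8) rfl (by decide +kernel)

theorem b1977 : Block F al 506112 506368 24 :=
  block_of_check (k := 8) rfl (by decide +kernel)

theorem b1978 : Block F al 506368 506624 69 :=
  block_of_check (k := 8) rfl (by decide +kernel)

theorem b1979 : Block F al 506624 506880 56 :=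
  block_of_check (k := 8) rfl (by decide +kernel)

theorem b1980 : Block F al 506880 507136 31 :=
  block_of_check (k := 8) rfl (by decide +kernel)

theorem b1981 : Block F al 507136 507392 30 :=
  block_of_check (k := 8) rfl (by decide +kernel)

theorem b1982 : Block F al 507392 507648 32 :=
  block_of_check (k := 8) rfl (by decide +kernel)

theorem b1983 : Block F al 507648 507904 18 :=
  block_of_check (k := 8) rfl (by decide +kernel)

theorem b1984 : Block F al 507904 508160 48 :=
  block_of_check (k := 8) rfl (by decide +kernel)

theorem b1985 : Block F al 508160 508416 48 :=
  block_of_check (k := 8) rfl (by decide +kernel)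

theorem b1986 : Block F al 508416 508672 20 :=
  block_of_check (k := 8) rfl (by decide +kernel)

theorem b1987 : Block F al 508672 508928 42 :=
  block_of_check (k := 8) rfl (by decide +kernel)

theorem b1988 : Block F al 508928 509184 42 :=
  block_of_check (k := 8) rfl (by decide +kernel)

theorem b1989 : Block F al 509184 509440 52 :=
  block_of_check (k := 8) rfl (by decide +kernel)

theorem b1990 : Block F al 509440 509696 4 :=
  block_of_check (k := 8) rfl (by decide +kernel)

theorem b1991 : Block F al 509696 509952 0 :=
  block_of_check (k := 8) rfl (by decide +kernel)

theorem b1992 : Block F al 509952 510208 44 :=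
  block_of_check (k := 8) rfl (by decide +kernel)

theorem b1993 : Block F al 510208 510464 43 :=
  block_of_check (k := 8) rfl (by decide +kernel)

theorem b1994 : Block F al 510464 510720 33 :=
  block_of_check (k := 8) rfl (by decide +kernel)

theorem b1995 : Block F al 510720 510976 72 :=
  block_of_check (k := 8) rfl (by decide +kernel)

theorem b1996 : Block F al 510976 511232 90 :=
  block_of_check (k := 8) rfl (by decide +kernel)

theorem b1997 : Block F al 511232 511488 6 :=
  block_of_check (k := 8) rfl (by decide +kernel)

theorem b1998 : Block F al 511488 511744 38 :=
  block_of_check (k := 8) rfl (by decide +kernel)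

theorem b1999 : Block F al 511744 512000 58 :=
  block_of_check (k := 8) rfl (by decide +kernel)

theorem b2000 : Block F al 512000 512256 36 :=
  block_of_check (k := 8) rfl (by decide +kernel)

theorem b2001 : Block F al 512256 512512 42 :=
  block_of_check (k := 8) rfl (by decide +kernel)

theorem b2002 : Block F al 512512 512768 27 :=
  block_of_check (k := 8) rfl (by decide +kernel)

theorem b2003 : Block F al 512768 513024 43 :=
  block_of_check (k := 8) rfl (by decide +kernel)

theorem b2004 : Block F al 513024 513280 52 :=
  block_of_check (k := 8) rfl (by decide +kernel)

theorem b2005 : Block F al 513280 513536 46 :=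
  block_of_check (k := 8) rfl (by decide +kernel)

theorem b2006 : Block F al 513536 513792 23 :=
  block_of_check (k := 8) rfl (by decide +kernel)

theorem b2007 : Block F al 513792 514048 25 :=
  block_of_check (k := 8) rfl (by decide +kernel)

theorem b2008 : Block F al 514048 514304 39 :=
  block_of_check (k := 8) rfl (by decide +kernel)

theorem b2009 : Block F al 514304 514560 23 :=
  block_of_check (k := 8) rfl (by decide +kernel)

theorem b2010 : Block F al 514560 514816 8 :=
  block_of_check (k := 8) rfl (by decide +kernel)

theorem b2011 : Block F al 514816 515072 64 :=
  block_of_check (k := 8) rfl (by decide +kernel)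

theorem b2012 : Block F al 515072 515328 42 :=
  block_of_check (k := 8) rfl (by decide +kernel)

theorem b2013 : Block F al 515328 515584 90 :=
  block_of_check (k := 8) rfl (by decide +kernel)

theorem b2014 : Block F al 515584 515840 40 :=
  block_of_check (k := 8) rfl (by decide +kernel)

theorem b2015 : Block F al 515840 516096 51 :=
  block_of_check (k := 8) rfl (by decide +kernel)

theorem b2016 : Block F al 516096 516352 55 :=
  block_of_check (k := 8) rfl (by decide +kernel)

theorem b2017 : Block F al 516352 516608 42 :=
  block_of_check (k := 8) rfl (by decide +kernel)

theorem b2018 : Block F al 516608 516864 6 :=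
  block_of_check (k := 8) rfl (by decide +kernel)

theorem b2019 : Block F al 516864 517120 37 :=
  block_of_check (k := 8) rfl (by decide +kernel)

theorem b2020 : Block F al 517120 517376 47 :=
  block_of_check (k := 8) rfl (by decide +kernel)

theorem b2021 : Block F al 517376 517632 56 :=
  block_of_check (k := 8) rfl (by decide +kernel)

theorem b2022 : Block F al 517632 517888 0 :=
  block_of_check (k := 8) rfl (by decide +kernel)

theorem b2023 : Block F al 517888 518144 30 :=
  block_of_check (k := 8) rfl (by decide +kernel)

theorem b2024 : Block F al 518144 518400 14 :=
  block_of_check (k := 8) rfl (by decide +kernel)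

theorem b2025 : Block F al 518400 518656 48 :=
  block_of_check (k := 8) rfl (by decide +kernel)

theorem b2026 : Block F al 518656 518912 41 :=
  block_of_check (k := 8) rfl (by decide +kernel)

theorem b2027 : Block F al 518912 519168 53 :=
  block_of_check (k := 8) rfl (by decide +kernel)

theorem b2028 : Block F al 519168 519424 10 :=
  block_of_check (k := 8) rfl (by decide +kernel)

theorem b2029 : Block F al 519424 519680 12 :=
  block_of_check (k := 8) rfl (by decide +kernel)

theorem b2030 : Block F al 519680 519936 40 :=
  block_of_check (k := 8) rfl (by decide +kernel)

theorem b2031 : Block F al 519936 520192 23 :=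
  block_of_check (k := 8) rfl (by decide +kernel)

theorem b2032 : Block F al 520192 520448 67 :=
  block_of_check (k := 8) rfl (by decide +kernel)

theorem b2033 : Block F al 520448 520704 32 :=
  block_of_check (k := 8) rfl (by decide +kernel)

theorem b2034 : Block F al 520704 520960 42 :=
  block_of_check (k := 8) rfl (by decide +kernel)

theorem b2035 : Block F al 520960 521216 18 :=
  block_of_check (k := 8) rfl (by decide +kernel)

theorem b2036 : Block F al 521216 521472 28 :=
  block_of_check (k := 8) rfl (by decide +kernel)

theorem b2037 : Block F al 521472 521728 10 :=
  block_of_check (k := 8) rfl (by decide +kernel)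

theorem b2038 : Block F al 521728 521984 42 :=
  block_of_check (k := 8) rfl (by decide +kernel)

theorem b2039 : Block F al 521984 522240 54 :=
  block_of_check (k := 8) rfl (by decide +kernel)

theorem b2040 : Block F al 522240 522496 38 :=
  block_of_check (k := 8) rfl (by decide +kernel)

theorem b2041 : Block F al 522496 522752 14 :=
  block_of_check (k := 8) rfl (by decide +kernel)

theorem b2042 : Block F al 522752 523008 54 :=
  block_of_check (k := 8) rfl (by decide +kernel)

theorem b2043 : Block F al 523008 523264 64 :=
  block_of_check (k := 8) rfl (by decide +kernel)

theorem b2044 : Block F al 523264 523520 70 :=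
  block_of_check (k := 8) rfl (by decide +kernel)

theorem b2045 : Block F al 523520 523776 82 :=
  block_of_check (k := 8) rfl (by decide +kernel)

theorem b2046 : Block F al 523776 524032 70 :=
  block_of_check (k := 8) rfl (by decide +kernel)

theorem b2047 : Block F al 524032 524288 38 :=
  block_of_check (k := 8) rfl (by decide +kernel)

theorem b2048 : Block F al 524288 524544 44 :=
  block_of_check (k := 8) rfl (by decide +kernel)

theorem b2049 : Block F al 524544 524800 47 :=
  block_of_check (k := 8) rfl (by decide +kernel)

theorem b2050 : Block F al 524800 525056 59 :=
  block_of_check (k := 8) rfl (by decide +kernel)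

theorem b2051 : Block F al 525056 525312 60 :=
  block_of_check (k := 8) rfl (by decide +kernel)

theorem b2052 : Block F al 525312 525568 28 :=
  block_of_check (k := 8) rfl (by decide +kernel)

theorem b2053 : Block F al 525568 525824 12 :=
  block_of_check (k := 8) rfl (by decide +kernel)

end Cfsg.Agent.TcData.HNK.R0
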