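import Mathlib
import Cfsg.Agent.TcData.HNK.R0.Tab

set_option autoImplicit false
set_option Elab.async false
set_option maxRecDepth 100000
set_option linter.all false

namespace Cfsg.Agent.TcData.HNK.R0

open Cfsg.Spor Cfsg.Agent.Lib.TcFacts Cfsg.Agent.Lib.TcBits Cfsg.Agent.Lib.TcPres Cfsg.Spor.HN Cfsg.Agent.TcData.HNK

theorem b2054 : Block F al 525824 526080 20 :=
  block_of_check (k := 8) rfl (by decide +kernel)

theorem b2055 : Block F al 526080 526336 30 :=
  block_of_check (k := 8) rfl (by decide +kernel)

theorem b2056 : Block F al 526336 526592 56 :=
  block_of_check (k := 8) rfl (by decide +kernel)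

theorem b2057 : Block F al 526592 526848 80 :=
  block_of_check (k := 8) rfl (by decide +kernel)

theorem b2058 : Block F al 526848 527104 35 :=
  block_of_check (k := 8) rfl (by decide +kernel)

theorem b2059 : Block F al 527104 527360 39 :=
  block_of_check (k := 8) rfl (by decide +kernel)

theorem b2060 : Block F al 527360 527616 40 :=
  block_of_check (k := 8) rfl (by decide +kernel)

theorem b2061 : Block F al 527616 527872 30 :=
  block_of_check (k := 8) rfl (by decide +kernel)

theorem b2062 : Block F al 527872 528128 72 :=
  block_of_check (k := 8) rfl (by decide +kernel)

theorem b2063 : Block F al 528128 528384 70 :=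
  block_of_check (k := 8) rfl (by decide +kernel)

theorem b2064 : Block F al 528384 528640 38 :=
  block_of_check (k := 8) rfl (by decide +kernel)

theorem b2065 : Block F al 528640 528896 68 :=
  block_of_check (k := 8) rfl (by decide +kernel)

theorem b2066 : Block F al 528896 529152 49 :=
  block_of_check (k := 8) rfl (by decide +kernel)

theorem b2067 : Block F al 529152 529408 37 :=
  block_of_check (k := 8) rfl (by decide +kernel)

theorem b2068 : Block F al 529408 529664 26 :=
  block_of_check (k := 8) rfl (by decide +kernel)

theorem b2069 : Block F al 529664 529920 62 :=
  block_of_check (k := 8) rfl (by decide +kernel)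

theorem b2070 : Block F al 529920 530176 94 :=
  block_of_check (k := 8) rfl (by decide +kernel)

theorem b2071 : Block F al 530176 530432 55 :=
  block_of_check (k := 8) rfl (by decide +kernel)

theorem b2072 : Block F al 530432 530688 88 :=
  block_of_check (k := 8) rfl (by decide +kernel)

theorem b2073 : Block F al 530688 530944 61 :=
  block_of_check (k := 8) rfl (by decide +kernel)

theorem b2074 : Block F al 530944 531200 28 :=
  block_of_check (k := 8) rfl (by decide +kernel)

theorem b2075 : Block F al 531200 531456 28 :=
  block_of_check (k := 8) rfl (by decide +kernel)

theorem b2076 : Block F al 531456 531712 66 :=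
  block_of_check (k := 8) rfl (by decide +kernel)

theorem b2077 : Block F al 531712 531968 42 :=
  block_of_check (k := 8) rfl (by decide +kernel)

theorem b2078 : Block F al 531968 532224 24 :=
  block_of_check (k := 8) rfl (by decide +kernel)

theorem b2079 : Block F al 532224 532480 66 :=
  block_of_check (k := 8) rfl (by decide +kernel)

theorem b2080 : Block F al 532480 532736 25 :=
  block_of_check (k := 8) rfl (by decide +kernel)

theorem b2081 : Block F al 532736 532992 39 :=
  block_of_check (k := 8) rfl (by decide +kernel)

theorem b2082 : Block F al 532992 533248 72 :=
  block_of_check (k := 8) rfl (by decide +kernel)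

theorem b2083 : Block F al 533248 533504 72 :=
  block_of_check (k := 8) rfl (by decide +kernel)

theorem b2084 : Block F al 533504 533760 46 :=
  block_of_check (k := 8) rfl (by decide +kernel)

theorem b2085 : Block F al 533760 534016 90 :=
  block_of_check (k := 8) rfl (by decide +kernel)

theorem b2086 : Block F al 534016 534272 36 :=
  block_of_check (k := 8) rfl (by decide +kernel)

theorem b2087 : Block F al 534272 534528 40 :=
  block_of_check (k := 8) rfl (by decide +kernel)

theorem b2088 : Block F al 534528 534784 8 :=
  block_of_check (k := 8) rfl (by decide +kernel)

theorem b2089 : Block F al 534784 535040 20 :=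
  block_of_check (k := 8) rfl (by decide +kernel)

theorem b2090 : Block F al 535040 535296 42 :=
  block_of_check (k := 8) rfl (by decide +kernel)

theorem b2091 : Block F al 535296 535552 50 :=
  block_of_check (k := 8) rfl (by decide +kernel)

theorem b2092 : Block F al 535552 535808 58 :=
  block_of_check (k := 8) rfl (by decide +kernel)

theorem b2093 : Block F al 535808 536064 50 :=
  block_of_check (k := 8) rfl (by decide +kernel)

theorem b2094 : Block F al 536064 536320 38 :=
  block_of_check (k := 8) rfl (by decide +kernel)

theorem b2095 : Block F al 536320 536576 30 :=
  block_of_check (k := 8) rfl (by decide +kernel)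

theorem b2096 : Block F al 536576 536832 18 :=
  block_of_check (k := 8) rfl (by decide +kernel)

theorem b2097 : Block F al 536832 537088 44 :=
  block_of_check (k := 8) rfl (by decide +kernel)

theorem b2098 : Block F al 537088 537344 78 :=
  block_of_check (k := 8) rfl (by decide +kernel)

theorem b2099 : Block F al 537344 537600 58 :=
  block_of_check (k := 8) rfl (by decide +kernel)

theorem b2100 : Block F al 537600 537856 40 :=
  block_of_check (k := 8) rfl (by decide +kernel)

theorem b2101 : Block F al 537856 538112 55 :=
  block_of_check (k := 8) rfl (by decide +kernel)

theorem b2102 : Block F al 538112 538368 29 :=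
  block_of_check (k := 8) rfl (by decide +kernel)

theorem b2103 : Block F al 538368 538624 38 :=
  block_of_check (k := 8) rfl (by decide +kernel)

theorem b2104 : Block F al 538624 538880 34 :=
  block_of_check (k := 8) rfl (by decide +kernel)

theorem b2105 : Block F al 538880 539136 52 :=
  block_of_check (k := 8) rfl (by decide +kernel)

theorem b2106 : Block F al 539136 539392 40 :=
  block_of_check (k := 8) rfl (by decide +kernel)

theorem b2107 : Block F al 539392 539648 40 :=
  block_of_check (k := 8) rfl (by decide +kernel)

theorem b2108 : Block F al 539648 539904 30 :=
  block_of_check (k := 8) rfl (by decide +kernel)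

theorem b2109 : Block F al 539904 540160 46 :=
  block_of_check (k := 8) rfl (by decide +kernel)

theorem b2110 : Block F al 540160 540416 44 :=
  block_of_check (k := 8) rfl (by decide +kernel)

theorem b2111 : Block F al 540416 540672 30 :=
  block_of_check (k := 8) rfl (by decide +kernel)

theorem b2112 : Block F al 540672 540928 6 :=
  block_of_check (k := 8) rfl (by decide +kernel)

theorem b2113 : Block F al 540928 541184 40 :=
  block_of_check (k := 8) rfl (by decide +kernel)

theorem b2114 : Block F al 541184 541440 62 :=
  block_of_check (k := 8) rfl (by decide +kernel)

theorem b2115 : Block F al 541440 541696 24 :=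
  block_of_check (k := 8) rfl (by decide +kernel)

theorem b2116 : Block F al 541696 541952 84 :=
  block_of_check (k := 8) rfl (by decide +kernel)

theorem b2117 : Block F al 541952 542208 55 :=
  block_of_check (k := 8) rfl (by decide +kernel)

theorem b2118 : Block F al 542208 542464 93 :=
  block_of_check (k := 8) rfl (by decide +kernel)

theorem b2119 : Block F al 542464 542720 68 :=
  block_of_check (k := 8) rfl (by decide +kernel)

theorem b2120 : Block F al 542720 542976 106 :=
  block_of_check (k := 8) rfl (by decide +kernel)

theorem b2121 : Block F al 542976 543232 40 :=
  block_of_check (k := 8) rfl (by decide +kernel)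

theorem b2122 : Block F al 543232 543488 60 :=
  block_of_check (k := 8) rfl (by decide +kernel)

theorem b2123 : Block F al 543488 543744 44 :=
  block_of_check (k := 8) rfl (by decide +kernel)

theorem b2124 : Block F al 543744 544000 76 :=
  block_of_check (k := 8) rfl (by decide +kernel)

theorem b2125 : Block F al 544000 544256 69 :=
  block_of_check (k := 8) rfl (by decide +kernel)

theorem b2126 : Block F al 544256 544512 47 :=
  block_of_check (k := 8) rfl (by decide +kernel)

theorem b2127 : Block F al 544512 544768 40 :=
  block_of_check (k := 8) rfl (by decide +kernel)

theorem b2128 : Block F al 544768 545024 40 :=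
  block_of_check (k := 8) rfl (by decide +kernel)

theorem b2129 : Block F al 545024 545280 52 :=
  block_of_check (k := 8) rfl (by decide +kernel)

theorem b2130 : Block F al 545280 545536 28 :=
  block_of_check (k := 8) rfl (by decide +kernel)

theorem b2131 : Block F al 545536 545792 52 :=
  block_of_check (k := 8) rfl (by decide +kernel)

theorem b2132 : Block F al 545792 546048 67 :=
  block_of_check (k := 8) rfl (by decide +kernel)

theorem b2133 : Block F al 546048 546304 75 :=
  block_of_check (k := 8) rfl (by decide +kernel)

theorem b2134 : Block F al 546304 546560 54 :=
  block_of_check (k := 8) rfl (by decide +kernel)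

theorem b2135 : Block F al 546560 546816 52 :=
  block_of_check (k := 8) rfl (by decide +kernel)

theorem b2136 : Block F al 546816 547072 48 :=
  block_of_check (k := 8) rfl (by decide +kernel)

end Cfsg.Agent.TcData.HNK.R0
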