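import Mathlib
import Cfsg.Agent.TcData.HNK.R0.Tab

set_option autoImplicit false
set_option Elab.async false
set_option maxRecDepth 100000
set_option linter.all false

namespace Cfsg.Agent.TcData.HNK.R0

open Cfsg.Spor Cfsg.Agent.Lib.TcFacts Cfsg.Agent.Lib.TcBits Cfsg.Agent.Lib.TcPres Cfsg.Spor.HN Cfsg.Agent.TcData.HNK

theorem b2137 : Block F al 547072 547328 54 :=
  block_of_check (k := 8) rfl (by decide +kernel)

theorem b2138 : Block F al 547328 547584 42 :=
  block_of_check (k := 8) rfl (by decide +kernel)

theorem b2139 : Block F al 547584 547840 52 :=
  block_of_check (k := 8) rfl (by decide +kernel)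

theorem b2140 : Block F al 547840 548096 73 :=
  block_of_check (k := 8) rfl (by decide +kernel)

theorem b2141 : Block F al 548096 548352 67 :=
  block_of_check (k := 8) rfl (by decide +kernel)

theorem b2142 : Block F al 548352 548608 42 :=
  block_of_check (k := 8) rfl (by decide +kernel)

theorem b2143 : Block F al 548608 548864 70 :=
  block_of_check (k := 8) rfl (by decide +kernel)

theorem b2144 : Block F al 548864 549120 74 :=
  block_of_check (k := 8) rfl (by decide +kernel)

theorem b2145 : Block F al 549120 549376 80 :=
  block_of_check (k := 8) rfl (by decide +kernel)

theorem b2146 : Block F al 549376 549632 72 :=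
  block_of_check (k := 8) rfl (by decide +kernel)

theorem b2147 : Block F al 549632 549888 70 :=
  block_of_check (k := 8) rfl (by decide +kernel)

theorem b2148 : Block F al 549888 550144 94 :=
  block_of_check (k := 8) rfl (by decide +kernel)

theorem b2149 : Block F al 550144 550400 68 :=
  block_of_check (k := 8) rfl (by decide +kernel)

theorem b2150 : Block F al 550400 550656 61 :=
  block_of_check (k := 8) rfl (by decide +kernel)

theorem b2151 : Block F al 550656 550912 63 :=
  block_of_check (k := 8) rfl (by decide +kernel)

theorem b2152 : Block F al 550912 551168 94 :=
  block_of_check (k := 8) rfl (by decide +kernel)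

theorem b2153 : Block F al 551168 551424 79 :=
  block_of_check (k := 8) rfl (by decide +kernel)

theorem b2154 : Block F al 551424 551680 85 :=
  block_of_check (k := 8) rfl (by decide +kernel)

theorem b2155 : Block F al 551680 551936 42 :=
  block_of_check (k := 8) rfl (by decide +kernel)

theorem b2156 : Block F al 551936 552192 50 :=
  block_of_check (k := 8) rfl (by decide +kernel)

theorem b2157 : Block F al 552192 552448 58 :=
  block_of_check (k := 8) rfl (by decide +kernel)

theorem b2158 : Block F al 552448 552704 57 :=
  block_of_check (k := 8) rfl (by decide +kernel)

theorem b2159 : Block F al 552704 552960 93 :=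
  block_of_check (k := 8) rfl (by decide +kernel)

theorem b2160 : Block F al 552960 553216 40 :=
  block_of_check (k := 8) rfl (by decide +kernel)

theorem b2161 : Block F al 553216 553472 44 :=
  block_of_check (k := 8) rfl (by decide +kernel)

theorem b2162 : Block F al 553472 553728 70 :=
  block_of_check (k := 8) rfl (by decide +kernel)

theorem b2163 : Block F al 553728 553984 34 :=
  block_of_check (k := 8) rfl (by decide +kernel)

theorem b2164 : Block F al 553984 554240 74 :=
  block_of_check (k := 8) rfl (by decide +kernel)

theorem b2165 : Block F al 554240 554496 24 :=
  block_of_check (k := 8) rfl (by decide +kernel)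

theorem b2166 : Block F al 554496 554752 18 :=
  block_of_check (k := 8) rfl (by decide +kernel)

theorem b2167 : Block F al 554752 555008 32 :=
  block_of_check (k := 8) rfl (by decide +kernel)

theorem b2168 : Block F al 555008 555264 47 :=
  block_of_check (k := 8) rfl (by decide +kernel)

theorem b2169 : Block F al 555264 555520 41 :=
  block_of_check (k := 8) rfl (by decide +kernel)

theorem b2170 : Block F al 555520 555776 90 :=
  block_of_check (k := 8) rfl (by decide +kernel)

theorem b2171 : Block F al 555776 556032 32 :=
  block_of_check (k := 8) rfl (by decide +kernel)

theorem b2172 : Block F al 556032 556288 62 :=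
  block_of_check (k := 8) rfl (by decide +kernel)

theorem b2173 : Block F al 556288 556544 73 :=
  block_of_check (k := 8) rfl (by decide +kernel)

theorem b2174 : Block F al 556544 556800 77 :=
  block_of_check (k := 8) rfl (by decide +kernel)

theorem b2175 : Block F al 556800 557056 76 :=
  block_of_check (k := 8) rfl (by decide +kernel)

theorem b2176 : Block F al 557056 557312 102 :=
  block_of_check (k := 8) rfl (by decide +kernel)

theorem b2177 : Block F al 557312 557568 56 :=
  block_of_check (k := 8) rfl (by decide +kernel)

theorem b2178 : Block F al 557568 557824 78 :=
  block_of_check (k := 8) rfl (by decide +kernel)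

theorem b2179 : Block F al 557824 558080 73 :=
  block_of_check (k := 8) rfl (by decide +kernel)

theorem b2180 : Block F al 558080 558336 91 :=
  block_of_check (k := 8) rfl (by decide +kernel)

theorem b2181 : Block F al 558336 558592 80 :=
  block_of_check (k := 8) rfl (by decide +kernel)

theorem b2182 : Block F al 558592 558848 62 :=
  block_of_check (k := 8) rfl (by decide +kernel)

theorem b2183 : Block F al 558848 559104 29 :=
  block_of_check (k := 8) rfl (by decide +kernel)

theorem b2184 : Block F al 559104 559360 57 :=
  block_of_check (k := 8) rfl (by decide +kernel)

theorem b2185 : Block F al 559360 559616 38 :=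
  block_of_check (k := 8) rfl (by decide +kernel)

theorem b2186 : Block F al 559616 559872 30 :=
  block_of_check (k := 8) rfl (by decide +kernel)

theorem b2187 : Block F al 559872 560128 74 :=
  block_of_check (k := 8) rfl (by decide +kernel)

theorem b2188 : Block F al 560128 560384 60 :=
  block_of_check (k := 8) rfl (by decide +kernel)

theorem b2189 : Block F al 560384 560640 78 :=
  block_of_check (k := 8) rfl (by decide +kernel)

theorem b2190 : Block F al 560640 560896 47 :=
  block_of_check (k := 8) rfl (by decide +kernel)

theorem b2191 : Block F al 560896 561152 53 :=
  block_of_check (k := 8) rfl (by decide +kernel)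

theorem b2192 : Block F al 561152 561408 45 :=
  block_of_check (k := 8) rfl (by decide +kernel)

theorem b2193 : Block F al 561408 561664 62 :=
  block_of_check (k := 8) rfl (by decide +kernel)

theorem b2194 : Block F al 561664 561920 67 :=
  block_of_check (k := 8) rfl (by decide +kernel)

theorem b2195 : Block F al 561920 562176 64 :=
  block_of_check (k := 8) rfl (by decide +kernel)

theorem b2196 : Block F al 562176 562432 44 :=
  block_of_check (k := 8) rfl (by decide +kernel)

theorem b2197 : Block F al 562432 562688 40 :=
  block_of_check (k := 8) rfl (by decide +kernel)

theorem b2198 : Block F al 562688 562944 62 :=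
  block_of_check (k := 8) rfl (by decide +kernel)

theorem b2199 : Block F al 562944 563200 68 :=
  block_of_check (k := 8) rfl (by decide +kernel)

theorem b2200 : Block F al 563200 563456 60 :=
  block_of_check (k := 8) rfl (by decide +kernel)

theorem b2201 : Block F al 563456 563712 58 :=
  block_of_check (k := 8) rfl (by decide +kernel)

theorem b2202 : Block F al 563712 563968 82 :=
  block_of_check (k := 8) rfl (by decide +kernel)

theorem b2203 : Block F al 563968 564224 54 :=
  block_of_check (k := 8) rfl (by decide +kernel)

theorem b2204 : Block F al 564224 564480 78 :=
  block_of_check (k := 8) rfl (by decide +kernel)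

theorem b2205 : Block F al 564480 564736 68 :=
  block_of_check (k := 8) rfl (by decide +kernel)

theorem b2206 : Block F al 564736 564992 38 :=
  block_of_check (k := 8) rfl (by decide +kernel)

theorem b2207 : Block F al 564992 565248 50 :=
  block_of_check (k := 8) rfl (by decide +kernel)

theorem b2208 : Block F al 565248 565504 32 :=
  block_of_check (k := 8) rfl (by decide +kernel)

theorem b2209 : Block F al 565504 565760 39 :=
  block_of_check (k := 8) rfl (by decide +kernel)

end Cfsg.Agent.TcData.HNK.R0
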