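import Mathlib
import Cfsg.Agent.TcData.HNK.R0.Tab

set_option autoImplicit false
set_option Elab.async false
set_option maxRecDepth 100000
set_option linter.all false

namespace Cfsg.Agent.TcData.HNK.R0

open Cfsg.Spor Cfsg.Agent.Lib.TcFacts Cfsg.Agent.Lib.TcBits Cfsg.Agent.Lib.TcPres Cfsg.Spor.HN Cfsg.Agent.TcData.HNK

theorem b2210 : Block F al 565760 566016 45 :=
  block_of_check (k := 8) rfl (by decide +kernel)

theorem b2211 : Block F al 566016 566272 61 :=
  block_of_check (k := 8) rfl (by decide +kernel)

theorem b2212 : Block F al 566272 566528 27 :=
  block_of_check (k := 8) rfl (by decide +kernel)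

theorem b2213 : Block F al 566528 566784 36 :=
  block_of_check (k := 8) rfl (by decide +kernel)

theorem b2214 : Block F al 566784 567040 66 :=
  block_of_check (k := 8) rfl (by decide +kernel)

theorem b2215 : Block F al 567040 567296 70 :=
  block_of_check (k := 8) rfl (by decide +kernel)

theorem b2216 : Block F al 567296 567552 94 :=
  block_of_check (k := 8) rfl (by decide +kernel)

theorem b2217 : Block F al 567552 567808 76 :=
  block_of_check (k := 8) rfl (by decide +kernel)

theorem b2218 : Block F al 567808 568064 59 :=
  block_of_check (k := 8) rfl (by decide +kernel)

theorem b2219 : Block F al 568064 568320 69 :=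
  block_of_check (k := 8) rfl (by decide +kernel)

theorem b2220 : Block F al 568320 568576 70 :=
  block_of_check (k := 8) rfl (by decide +kernel)

theorem b2221 : Block F al 568576 568832 52 :=
  block_of_check (k := 8) rfl (by decide +kernel)

theorem b2222 : Block F al 568832 569088 84 :=
  block_of_check (k := 8) rfl (by decide +kernel)

theorem b2223 : Block F al 569088 569344 98 :=
  block_of_check (k := 8) rfl (by decide +kernel)

theorem b2224 : Block F al 569344 569600 54 :=
  block_of_check (k := 8) rfl (by decide +kernel)

theorem b2225 : Block F al 569600 569856 30 :=
  block_of_check (k := 8) rfl (by decide +kernel)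

theorem b2226 : Block F al 569856 570112 16 :=
  block_of_check (k := 8) rfl (by decide +kernel)

theorem b2227 : Block F al 570112 570368 46 :=
  block_of_check (k := 8) rfl (by decide +kernel)

theorem b2228 : Block F al 570368 570624 30 :=
  block_of_check (k := 8) rfl (by decide +kernel)

theorem b2229 : Block F al 570624 570880 32 :=
  block_of_check (k := 8) rfl (by decide +kernel)

theorem b2230 : Block F al 570880 571136 60 :=
  block_of_check (k := 8) rfl (by decide +kernel)

theorem b2231 : Block F al 571136 571392 74 :=
  block_of_check (k := 8) rfl (by decide +kernel)

theorem b2232 : Block F al 571392 571648 88 :=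
  block_of_check (k := 8) rfl (by decide +kernel)

theorem b2233 : Block F al 571648 571904 82 :=
  block_of_check (k := 8) rfl (by decide +kernel)

theorem b2234 : Block F al 571904 572160 95 :=
  block_of_check (k := 8) rfl (by decide +kernel)

theorem b2235 : Block F al 572160 572416 65 :=
  block_of_check (k := 8) rfl (by decide +kernel)

theorem b2236 : Block F al 572416 572672 32 :=
  block_of_check (k := 8) rfl (by decide +kernel)

theorem b2237 : Block F al 572672 572928 60 :=
  block_of_check (k := 8) rfl (by decide +kernel)

theorem b2238 : Block F al 572928 573184 70 :=
  block_of_check (k := 8) rfl (by decide +kernel)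

theorem b2239 : Block F al 573184 573440 56 :=
  block_of_check (k := 8) rfl (by decide +kernel)

theorem b2240 : Block F al 573440 573696 34 :=
  block_of_check (k := 8) rfl (by decide +kernel)

theorem b2241 : Block F al 573696 573952 60 :=
  block_of_check (k := 8) rfl (by decide +kernel)

theorem b2242 : Block F al 573952 574208 55 :=
  block_of_check (k := 8) rfl (by decide +kernel)

theorem b2243 : Block F al 574208 574464 35 :=
  block_of_check (k := 8) rfl (by decide +kernel)

theorem b2244 : Block F al 574464 574720 56 :=
  block_of_check (k := 8) rfl (by decide +kernel)

theorem b2245 : Block F al 574720 574976 60 :=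
  block_of_check (k := 8) rfl (by decide +kernel)

theorem b2246 : Block F al 574976 575232 42 :=
  block_of_check (k := 8) rfl (by decide +kernel)

theorem b2247 : Block F al 575232 575488 34 :=
  block_of_check (k := 8) rfl (by decide +kernel)

theorem b2248 : Block F al 575488 575744 20 :=
  block_of_check (k := 8) rfl (by decide +kernel)

theorem b2249 : Block F al 575744 576000 66 :=
  block_of_check (k := 8) rfl (by decide +kernel)

theorem b2250 : Block F al 576000 576256 44 :=
  block_of_check (k := 8) rfl (by decide +kernel)

theorem b2251 : Block F al 576256 576512 40 :=
  block_of_check (k := 8) rfl (by decide +kernel)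

theorem b2252 : Block F al 576512 576768 52 :=
  block_of_check (k := 8) rfl (by decide +kernel)

theorem b2253 : Block F al 576768 577024 63 :=
  block_of_check (k := 8) rfl (by decide +kernel)

theorem b2254 : Block F al 577024 577280 55 :=
  block_of_check (k := 8) rfl (by decide +kernel)

theorem b2255 : Block F al 577280 577536 70 :=
  block_of_check (k := 8) rfl (by decide +kernel)

theorem b2256 : Block F al 577536 577792 46 :=
  block_of_check (k := 8) rfl (by decide +kernel)

theorem b2257 : Block F al 577792 578048 54 :=
  block_of_check (k := 8) rfl (by decide +kernel)

theorem b2258 : Block F al 578048 578304 20 :=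
  block_of_check (k := 8) rfl (by decide +kernel)

theorem b2259 : Block F al 578304 578560 51 :=
  block_of_check (k := 8) rfl (by decide +kernel)

theorem b2260 : Block F al 578560 578816 87 :=
  block_of_check (k := 8) rfl (by decide +kernel)

theorem b2261 : Block F al 578816 579072 60 :=
  block_of_check (k := 8) rfl (by decide +kernel)

theorem b2262 : Block F al 579072 579328 46 :=
  block_of_check (k := 8) rfl (by decide +kernel)

theorem b2263 : Block F al 579328 579584 54 :=
  block_of_check (k := 8) rfl (by decide +kernel)

theorem b2264 : Block F al 579584 579840 58 :=
  block_of_check (k := 8) rfl (by decide +kernel)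

theorem b2265 : Block F al 579840 580096 46 :=
  block_of_check (k := 8) rfl (by decide +kernel)

theorem b2266 : Block F al 580096 580352 24 :=
  block_of_check (k := 8) rfl (by decide +kernel)

theorem b2267 : Block F al 580352 580608 36 :=
  block_of_check (k := 8) rfl (by decide +kernel)

theorem b2268 : Block F al 580608 580864 71 :=
  block_of_check (k := 8) rfl (by decide +kernel)

theorem b2269 : Block F al 580864 581120 73 :=
  block_of_check (k := 8) rfl (by decide +kernel)

theorem b2270 : Block F al 581120 581376 70 :=
  block_of_check (k := 8) rfl (by decide +kernel)

theorem b2271 : Block F al 581376 581632 38 :=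
  block_of_check (k := 8) rfl (by decide +kernel)

theorem b2272 : Block F al 581632 581888 85 :=
  block_of_check (k := 8) rfl (by decide +kernel)

theorem b2273 : Block F al 581888 582144 61 :=
  block_of_check (k := 8) rfl (by decide +kernel)

theorem b2274 : Block F al 582144 582400 54 :=
  block_of_check (k := 8) rfl (by decide +kernel)

theorem b2275 : Block F al 582400 582656 54 :=
  block_of_check (k := 8) rfl (by decide +kernel)

theorem b2276 : Block F al 582656 582912 51 :=
  block_of_check (k := 8) rfl (by decide +kernel)

theorem b2277 : Block F al 582912 583168 52 :=
  block_of_check (k := 8) rfl (by decide +kernel)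

theorem b2278 : Block F al 583168 583424 43 :=
  block_of_check (k := 8) rfl (by decide +kernel)

theorem b2279 : Block F al 583424 583680 34 :=
  block_of_check (k := 8) rfl (by decide +kernel)

theorem b2280 : Block F al 583680 583936 65 :=
  block_of_check (k := 8) rfl (by decide +kernel)

theorem b2281 : Block F al 583936 584192 71 :=
  block_of_check (k := 8) rfl (by decide +kernel)

end Cfsg.Agent.TcData.HNK.R0
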