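import Mathlib
import Cfsg.Agent.TcData.HNK.R0.Tab

set_option autoImplicit false
set_option Elab.async false
set_option maxRecDepth 100000
set_option linter.all false

namespace Cfsg.Agent.TcData.HNK.R0

open Cfsg.Spor Cfsg.Agent.Lib.TcFacts Cfsg.Agent.Lib.TcBits Cfsg.Agent.Lib.TcPres Cfsg.Spor.HN Cfsg.Agent.TcData.HNK

theorem b2354 : Block F al 602624 602880 48 :=
  block_of_check (k := 8) rfl (by decide +kernel)

theorem b2355 : Block F al 602880 603136 42 :=
  block_of_check (k := 8) rfl (by decide +kernel)

theorem b2356 : Block F al 603136 603392 54 :=
  block_of_check (k := 8) rfl (by decide +kernel)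

theorem b2357 : Block F al 603392 603648 50 :=
  block_of_check (k := 8) rfl (by decide +kernel)

theorem b2358 : Block F al 603648 603904 46 :=
  block_of_check (k := 8) rfl (by decide +kernel)

theorem b2359 : Block F al 603904 604160 36 :=
  block_of_check (k := 8) rfl (by decide +kernel)

theorem b2360 : Block F al 604160 604416 30 :=
  block_of_check (k := 8) rfl (by decide +kernel)

theorem b2361 : Block F al 604416 604672 56 :=
  block_of_check (k := 8) rfl (by decide +kernel)

theorem b2362 : Block F al 604672 604928 52 :=
  block_of_check (k := 8) rfl (by decide +kernel)

theorem b2363 : Block F al 604928 605184 38 :=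
  block_of_check (k := 8) rfl (by decide +kernel)

theorem b2364 : Block F al 605184 605440 32 :=
  block_of_check (k := 8) rfl (by decide +kernel)

theorem b2365 : Block F al 605440 605696 28 :=
  block_of_check (k := 8) rfl (by decide +kernel)

theorem b2366 : Block F al 605696 605952 30 :=
  block_of_check (k := 8) rfl (by decide +kernel)

theorem b2367 : Block F al 605952 606208 41 :=
  block_of_check (k := 8) rfl (by decide +kernel)

theorem b2368 : Block F al 606208 606464 49 :=
  block_of_check (k := 8) rfl (by decide +kernel)

theorem b2369 : Block F al 606464 606720 60 :=
  block_of_check (k := 8) rfl (by decide +kernel)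

theorem b2370 : Block F al 606720 606976 39 :=
  block_of_check (k := 8) rfl (by decide +kernel)

theorem b2371 : Block F al 606976 607232 67 :=
  block_of_check (k := 8) rfl (by decide +kernel)

theorem b2372 : Block F al 607232 607488 54 :=
  block_of_check (k := 8) rfl (by decide +kernel)

theorem b2373 : Block F al 607488 607744 62 :=
  block_of_check (k := 8) rfl (by decide +kernel)

theorem b2374 : Block F al 607744 608000 45 :=
  block_of_check (k := 8) rfl (by decide +kernel)

theorem b2375 : Block F al 608000 608256 69 :=
  block_of_check (k := 8) rfl (by decide +kernel)

theorem b2376 : Block F al 608256 608512 33 :=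
  block_of_check (k := 8) rfl (by decide +kernel)

theorem b2377 : Block F al 608512 608768 47 :=
  block_of_check (k := 8) rfl (by decide +kernel)

theorem b2378 : Block F al 608768 609024 24 :=
  block_of_check (k := 8) rfl (by decide +kernel)

theorem b2379 : Block F al 609024 609280 26 :=
  block_of_check (k := 8) rfl (by decide +kernel)

theorem b2380 : Block F al 609280 609536 24 :=
  block_of_check (k := 8) rfl (by decide +kernel)

theorem b2381 : Block F al 609536 609792 58 :=
  block_of_check (k := 8) rfl (by decide +kernel)

theorem b2382 : Block F al 609792 610048 28 :=
  block_of_check (k := 8) rfl (by decide +kernel)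

theorem b2383 : Block F al 610048 610304 16 :=
  block_of_check (k := 8) rfl (by decide +kernel)

theorem b2384 : Block F al 610304 610560 30 :=
  block_of_check (k := 8) rfl (by decide +kernel)

theorem b2385 : Block F al 610560 610816 50 :=
  block_of_check (k := 8) rfl (by decide +kernel)

theorem b2386 : Block F al 610816 611072 56 :=
  block_of_check (k := 8) rfl (by decide +kernel)

theorem b2387 : Block F al 611072 611328 46 :=
  block_of_check (k := 8) rfl (by decide +kernel)

theorem b2388 : Block F al 611328 611584 44 :=
  block_of_check (k := 8) rfl (by decide +kernel)

theorem b2389 : Block F al 611584 611840 30 :=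
  block_of_check (k := 8) rfl (by decide +kernel)

theorem b2390 : Block F al 611840 612096 18 :=
  block_of_check (k := 8) rfl (by decide +kernel)

theorem b2391 : Block F al 612096 612352 48 :=
  block_of_check (k := 8) rfl (by decide +kernel)

theorem b2392 : Block F al 612352 612608 30 :=
  block_of_check (k := 8) rfl (by decide +kernel)

theorem b2393 : Block F al 612608 612864 43 :=
  block_of_check (k := 8) rfl (by decide +kernel)

theorem b2394 : Block F al 612864 613120 33 :=
  block_of_check (k := 8) rfl (by decide +kernel)

theorem b2395 : Block F al 613120 613376 27 :=
  block_of_check (k := 8) rfl (by decide +kernel)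

theorem b2396 : Block F al 613376 613632 61 :=
  block_of_check (k := 8) rfl (by decide +kernel)

theorem b2397 : Block F al 613632 613888 18 :=
  block_of_check (k := 8) rfl (by decide +kernel)

theorem b2398 : Block F al 613888 614144 54 :=
  block_of_check (k := 8) rfl (by decide +kernel)

theorem b2399 : Block F al 614144 614400 38 :=
  block_of_check (k := 8) rfl (by decide +kernel)

theorem b2400 : Block F al 614400 614656 33 :=
  block_of_check (k := 8) rfl (by decide +kernel)

theorem b2401 : Block F al 614656 614912 59 :=
  block_of_check (k := 8) rfl (by decide +kernel)

theorem b2402 : Block F al 614912 615168 32 :=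
  block_of_check (k := 8) rfl (by decide +kernel)

theorem b2403 : Block F al 615168 615424 40 :=
  block_of_check (k := 8) rfl (by decide +kernel)

theorem b2404 : Block F al 615424 615680 47 :=
  block_of_check (k := 8) rfl (by decide +kernel)

theorem b2405 : Block F al 615680 615936 49 :=
  block_of_check (k := 8) rfl (by decide +kernel)

theorem b2406 : Block F al 615936 616192 36 :=
  block_of_check (k := 8) rfl (by decide +kernel)

theorem b2407 : Block F al 616192 616448 50 :=
  block_of_check (k := 8) rfl (by decide +kernel)

theorem b2408 : Block F al 616448 616704 62 :=
  block_of_check (k := 8) rfl (by decide +kernel)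

theorem b2409 : Block F al 616704 616960 30 :=
  block_of_check (k := 8) rfl (by decide +kernel)

theorem b2410 : Block F al 616960 617216 67 :=
  block_of_check (k := 8) rfl (by decide +kernel)

theorem b2411 : Block F al 617216 617472 53 :=
  block_of_check (k := 8) rfl (by decide +kernel)

theorem b2412 : Block F al 617472 617728 50 :=
  block_of_check (k := 8) rfl (by decide +kernel)

theorem b2413 : Block F al 617728 617984 27 :=
  block_of_check (k := 8) rfl (by decide +kernel)

theorem b2414 : Block F al 617984 618240 59 :=
  block_of_check (k := 8) rfl (by decide +kernel)

theorem b2415 : Block F al 618240 618496 71 :=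
  block_of_check (k := 8) rfl (by decide +kernel)

theorem b2416 : Block F al 618496 618752 61 :=
  block_of_check (k := 8) rfl (by decide +kernel)

theorem b2417 : Block F al 618752 619008 34 :=
  block_of_check (k := 8) rfl (by decide +kernel)

theorem b2418 : Block F al 619008 619264 57 :=
  block_of_check (k := 8) rfl (by decide +kernel)

theorem b2419 : Block F al 619264 619520 79 :=
  block_of_check (k := 8) rfl (by decide +kernel)

theorem b2420 : Block F al 619520 619776 48 :=
  block_of_check (k := 8) rfl (by decide +kernel)

theorem b2421 : Block F al 619776 620032 24 :=
  block_of_check (k := 8) rfl (by decide +kernel)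

theorem b2422 : Block F al 620032 620288 38 :=
  block_of_check (k := 8) rfl (by decide +kernel)

theorem b2423 : Block F al 620288 620544 62 :=
  block_of_check (k := 8) rfl (by decide +kernel)

end Cfsg.Agent.TcData.HNK.R0
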