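import Mathlib
import Cfsg.Agent.TcData.HNK.R0.Tab

set_option autoImplicit false
set_option Elab.async false
set_option maxRecDepth 100000
set_option linter.all false

namespace Cfsg.Agent.TcData.HNK.R0

open Cfsg.Spor Cfsg.Agent.Lib.TcFacts Cfsg.Agent.Lib.TcBits Cfsg.Agent.Lib.TcPres Cfsg.Spor.HN Cfsg.Agent.TcData.HNK

theorem b2424 : Block F al 620544 620800 26 :=
  block_of_check (k := 8) rfl (by decide +kernel)

theorem b2425 : Block F al 620800 621056 36 :=
  block_of_check (k := 8) rfl (by decide +kernel)

theorem b2426 : Block F al 621056 621312 42 :=
  block_of_check (k := 8) rfl (by decide +kernel)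

theorem b2427 : Block F al 621312 621568 58 :=
  block_of_check (k := 8) rfl (by decide +kernel)

theorem b2428 : Block F al 621568 621824 48 :=
  block_of_check (k := 8) rfl (by decide +kernel)

theorem b2429 : Block F al 621824 622080 45 :=
  block_of_check (k := 8) rfl (by decide +kernel)

theorem b2430 : Block F al 622080 622336 33 :=
  block_of_check (k := 8) rfl (by decide +kernel)

theorem b2431 : Block F al 622336 622592 24 :=
  block_of_check (k := 8) rfl (by decide +kernel)

theorem b2432 : Block F al 622592 622848 38 :=
  block_of_check (k := 8) rfl (by decide +kernel)

theorem b2433 : Block F al 622848 623104 24 :=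
  block_of_check (k := 8) rfl (by decide +kernel)

theorem b2434 : Block F al 623104 623360 61 :=
  block_of_check (k := 8) rfl (by decide +kernel)

theorem b2435 : Block F al 623360 623616 67 :=
  block_of_check (k := 8) rfl (by decide +kernel)

theorem b2436 : Block F al 623616 623872 42 :=
  block_of_check (k := 8) rfl (by decide +kernel)

theorem b2437 : Block F al 623872 624128 32 :=
  block_of_check (k := 8) rfl (by decide +kernel)

theorem b2438 : Block F al 624128 624384 66 :=
  block_of_check (k := 8) rfl (by decide +kernel)

theorem b2439 : Block F al 624384 624640 66 :=
  block_of_check (k := 8) rfl (by decide +kernel)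

theorem b2440 : Block F al 624640 624896 10 :=
  block_of_check (k := 8) rfl (by decide +kernel)

theorem b2441 : Block F al 624896 625152 42 :=
  block_of_check (k := 8) rfl (by decide +kernel)

theorem b2442 : Block F al 625152 625408 24 :=
  block_of_check (k := 8) rfl (by decide +kernel)

theorem b2443 : Block F al 625408 625664 36 :=
  block_of_check (k := 8) rfl (by decide +kernel)

theorem b2444 : Block F al 625664 625920 58 :=
  block_of_check (k := 8) rfl (by decide +kernel)

theorem b2445 : Block F al 625920 626176 64 :=
  block_of_check (k := 8) rfl (by decide +kernel)

theorem b2446 : Block F al 626176 626432 40 :=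
  block_of_check (k := 8) rfl (by decide +kernel)

theorem b2447 : Block F al 626432 626688 32 :=
  block_of_check (k := 8) rfl (by decide +kernel)

theorem b2448 : Block F al 626688 626944 34 :=
  block_of_check (k := 8) rfl (by decide +kernel)

theorem b2449 : Block F al 626944 627200 46 :=
  block_of_check (k := 8) rfl (by decide +kernel)

theorem b2450 : Block F al 627200 627456 51 :=
  block_of_check (k := 8) rfl (by decide +kernel)

theorem b2451 : Block F al 627456 627712 46 :=
  block_of_check (k := 8) rfl (by decide +kernel)

theorem b2452 : Block F al 627712 627968 23 :=
  block_of_check (k := 8) rfl (by decide +kernel)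

theorem b2453 : Block F al 627968 628224 8 :=
  block_of_check (k := 8) rfl (by decide +kernel)

theorem b2454 : Block F al 628224 628480 56 :=
  block_of_check (k := 8) rfl (by decide +kernel)

theorem b2455 : Block F al 628480 628736 65 :=
  block_of_check (k := 8) rfl (by decide +kernel)

theorem b2456 : Block F al 628736 628992 72 :=
  block_of_check (k := 8) rfl (by decide +kernel)

theorem b2457 : Block F al 628992 629248 65 :=
  block_of_check (k := 8) rfl (by decide +kernel)

theorem b2458 : Block F al 629248 629504 14 :=
  block_of_check (k := 8) rfl (by decide +kernel)

theorem b2459 : Block F al 629504 629760 32 :=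
  block_of_check (k := 8) rfl (by decide +kernel)

theorem b2460 : Block F al 629760 630016 38 :=
  block_of_check (k := 8) rfl (by decide +kernel)

theorem b2461 : Block F al 630016 630272 74 :=
  block_of_check (k := 8) rfl (by decide +kernel)

theorem b2462 : Block F al 630272 630528 32 :=
  block_of_check (k := 8) rfl (by decide +kernel)

theorem b2463 : Block F al 630528 630784 20 :=
  block_of_check (k := 8) rfl (by decide +kernel)

theorem b2464 : Block F al 630784 631040 20 :=
  block_of_check (k := 8) rfl (by decide +kernel)

theorem b2465 : Block F al 631040 631296 22 :=
  block_of_check (k := 8) rfl (by decide +kernel)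

theorem b2466 : Block F al 631296 631552 38 :=
  block_of_check (k := 8) rfl (by decide +kernel)

theorem b2467 : Block F al 631552 631808 52 :=
  block_of_check (k := 8) rfl (by decide +kernel)

theorem b2468 : Block F al 631808 632064 52 :=
  block_of_check (k := 8) rfl (by decide +kernel)

theorem b2469 : Block F al 632064 632320 26 :=
  block_of_check (k := 8) rfl (by decide +kernel)

theorem b2470 : Block F al 632320 632576 18 :=
  block_of_check (k := 8) rfl (by decide +kernel)

theorem b2471 : Block F al 632576 632832 40 :=
  block_of_check (k := 8) rfl (by decide +kernel)

theorem b2472 : Block F al 632832 633088 31 :=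
  block_of_check (k := 8) rfl (by decide +kernel)

theorem b2473 : Block F al 633088 633344 43 :=
  block_of_check (k := 8) rfl (by decide +kernel)

theorem b2474 : Block F al 633344 633600 42 :=
  block_of_check (k := 8) rfl (by decide +kernel)

theorem b2475 : Block F al 633600 633856 32 :=
  block_of_check (k := 8) rfl (by decide +kernel)

theorem b2476 : Block F al 633856 634112 16 :=
  block_of_check (k := 8) rfl (by decide +kernel)

theorem b2477 : Block F al 634112 634368 34 :=
  block_of_check (k := 8) rfl (by decide +kernel)

theorem b2478 : Block F al 634368 634624 46 :=
  block_of_check (k := 8) rfl (by decide +kernel)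

theorem b2479 : Block F al 634624 634880 45 :=
  block_of_check (k := 8) rfl (by decide +kernel)

theorem b2480 : Block F al 634880 635136 38 :=
  block_of_check (k := 8) rfl (by decide +kernel)

theorem b2481 : Block F al 635136 635392 34 :=
  block_of_check (k := 8) rfl (by decide +kernel)

theorem b2482 : Block F al 635392 635648 54 :=
  block_of_check (k := 8) rfl (by decide +kernel)

theorem b2483 : Block F al 635648 635904 29 :=
  block_of_check (k := 8) rfl (by decide +kernel)

theorem b2484 : Block F al 635904 636160 38 :=
  block_of_check (k := 8) rfl (by decide +kernel)

theorem b2485 : Block F al 636160 636416 60 :=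
  block_of_check (k := 8) rfl (by decide +kernel)

theorem b2486 : Block F al 636416 636672 28 :=
  block_of_check (k := 8) rfl (by decide +kernel)

theorem b2487 : Block F al 636672 636928 32 :=
  block_of_check (k := 8) rfl (by decide +kernel)

theorem b2488 : Block F al 636928 637184 40 :=
  block_of_check (k := 8) rfl (by decide +kernel)

theorem b2489 : Block F al 637184 637440 54 :=
  block_of_check (k := 8) rfl (by decide +kernel)

theorem b2490 : Block F al 637440 637696 50 :=
  block_of_check (k := 8) rfl (by decide +kernel)

theorem b2491 : Block F al 637696 637952 28 :=
  block_of_check (k := 8) rfl (by decide +kernel)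

theorem b2492 : Block F al 637952 638208 22 :=
  block_of_check (k := 8) rfl (by decide +kernel)

theorem b2493 : Block F al 638208 638464 56 :=
  block_of_check (k := 8) rfl (by decide +kernel)

end Cfsg.Agent.TcData.HNK.R0
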