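import Mathlib
import Cfsg.Agent.TcData.HNK.R0.Tab

set_option autoImplicit false
set_option Elab.async false
set_option maxRecDepth 100000
set_option linter.all false

namespace Cfsg.Agent.TcData.HNK.R0

open Cfsg.Spor Cfsg.Agent.Lib.TcFacts Cfsg.Agent.Lib.TcBits Cfsg.Agent.Lib.TcPres Cfsg.Spor.HN Cfsg.Agent.TcData.HNK

theorem b272 : Block F al 69632 69888 159 :=
  block_of_check (k := 8) rfl (by decide +kernel)

theorem b273 : Block F al 69888 70144 164 :=
  block_of_check (k := 8) rfl (by decide +kernel)

theorem b274 : Block F al 70144 70400 205 :=
  block_of_check (k := 8) rfl (by decide +kernel)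

theorem b275 : Block F al 70400 70656 144 :=
  block_of_check (k := 8) rfl (by decide +kernel)

theorem b276 : Block F al 70656 70912 170 :=
  block_of_check (k := 8) rfl (by decide +kernel)

theorem b277 : Block F al 70912 71168 136 :=
  block_of_check (k := 8) rfl (by decide +kernel)

theorem b278 : Block F al 71168 71424 154 :=
  block_of_check (k := 8) rfl (by decide +kernel)

theorem b279 : Block F al 71424 71680 174 :=
  block_of_check (k := 8) rfl (by decide +kernel)

theorem b280 : Block F al 71680 71936 170 :=
  block_of_check (k := 8) rfl (by decide +kernel)

theorem b281 : Block F al 71936 72192 150 :=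
  block_of_check (k := 8) rfl (by decide +kernel)

theorem b282 : Block F al 72192 72448 188 :=
  block_of_check (k := 8) rfl (by decide +kernel)

theorem b283 : Block F al 72448 72704 190 :=
  block_of_check (k := 8) rfl (by decide +kernel)

theorem b284 : Block F al 72704 72960 166 :=
  block_of_check (k := 8) rfl (by decide +kernel)

theorem b285 : Block F al 72960 73216 164 :=
  block_of_check (k := 8) rfl (by decide +kernel)

theorem b286 : Block F al 73216 73472 96 :=
  block_of_check (k := 8) rfl (by decide +kernel)

theorem b287 : Block F al 73472 73728 165 :=
  block_of_check (k := 8) rfl (by decide +kernel)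

theorem b288 : Block F al 73728 73984 165 :=
  block_of_check (k := 8) rfl (by decide +kernel)

theorem b289 : Block F al 73984 74240 120 :=
  block_of_check (k := 8) rfl (by decide +kernel)

theorem b290 : Block F al 74240 74496 148 :=
  block_of_check (k := 8) rfl (by decide +kernel)

theorem b291 : Block F al 74496 74752 172 :=
  block_of_check (k := 8) rfl (by decide +kernel)

theorem b292 : Block F al 74752 75008 106 :=
  block_of_check (k := 8) rfl (by decide +kernel)

theorem b293 : Block F al 75008 75264 136 :=
  block_of_check (k := 8) rfl (by decide +kernel)

theorem b294 : Block F al 75264 75520 128 :=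
  block_of_check (k := 8) rfl (by decide +kernel)

theorem b295 : Block F al 75520 75776 125 :=
  block_of_check (k := 8) rfl (by decide +kernel)

theorem b296 : Block F al 75776 76032 167 :=
  block_of_check (k := 8) rfl (by decide +kernel)

theorem b297 : Block F al 76032 76288 206 :=
  block_of_check (k := 8) rfl (by decide +kernel)

theorem b298 : Block F al 76288 76544 170 :=
  block_of_check (k := 8) rfl (by decide +kernel)

theorem b299 : Block F al 76544 76800 158 :=
  block_of_check (k := 8) rfl (by decide +kernel)

theorem b300 : Block F al 76800 77056 164 :=
  block_of_check (k := 8) rfl (by decide +kernel)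

theorem b301 : Block F al 77056 77312 196 :=
  block_of_check (k := 8) rfl (by decide +kernel)

theorem b302 : Block F al 77312 77568 184 :=
  block_of_check (k := 8) rfl (by decide +kernel)

theorem b303 : Block F al 77568 77824 184 :=
  block_of_check (k := 8) rfl (by decide +kernel)

theorem b304 : Block F al 77824 78080 174 :=
  block_of_check (k := 8) rfl (by decide +kernel)

theorem b305 : Block F al 78080 78336 121 :=
  block_of_check (k := 8) rfl (by decide +kernel)

theorem b306 : Block F al 78336 78592 178 :=
  block_of_check (k := 8) rfl (by decide +kernel)

theorem b307 : Block F al 78592 78848 163 :=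
  block_of_check (k := 8) rfl (by decide +kernel)

theorem b308 : Block F al 78848 79104 165 :=
  block_of_check (k := 8) rfl (by decide +kernel)

theorem b309 : Block F al 79104 79360 136 :=
  block_of_check (k := 8) rfl (by decide +kernel)

theorem b310 : Block F al 79360 79616 81 :=
  block_of_check (k := 8) rfl (by decide +kernel)

theorem b311 : Block F al 79616 79872 148 :=
  block_of_check (k := 8) rfl (by decide +kernel)

theorem b312 : Block F al 79872 80128 146 :=
  block_of_check (k := 8) rfl (by decide +kernel)

theorem b313 : Block F al 80128 80384 208 :=
  block_of_check (k := 8) rfl (by decide +kernel)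

theorem b314 : Block F al 80384 80640 154 :=
  block_of_check (k := 8) rfl (by decide +kernel)

theorem b315 : Block F al 80640 80896 157 :=
  block_of_check (k := 8) rfl (by decide +kernel)

theorem b316 : Block F al 80896 81152 163 :=
  block_of_check (k := 8) rfl (by decide +kernel)

theorem b317 : Block F al 81152 81408 153 :=
  block_of_check (k := 8) rfl (by decide +kernel)

theorem b318 : Block F al 81408 81664 129 :=
  block_of_check (k := 8) rfl (by decide +kernel)

theorem b319 : Block F al 81664 81920 193 :=
  block_of_check (k := 8) rfl (by decide +kernel)

theorem b320 : Block F al 81920 82176 207 :=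
  block_of_check (k := 8) rfl (by decide +kernel)

theorem b321 : Block F al 82176 82432 165 :=
  block_of_check (k := 8) rfl (by decide +kernel)

theorem b322 : Block F al 82432 82688 183 :=
  block_of_check (k := 8) rfl (by decide +kernel)

theorem b323 : Block F al 82688 82944 171 :=
  block_of_check (k := 8) rfl (by decide +kernel)

theorem b324 : Block F al 82944 83200 138 :=
  block_of_check (k := 8) rfl (by decide +kernel)

theorem b325 : Block F al 83200 83456 139 :=
  block_of_check (k := 8) rfl (by decide +kernel)

theorem b326 : Block F al 83456 83712 139 :=
  block_of_check (k := 8) rfl (by decide +kernel)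

theorem b327 : Block F al 83712 83968 150 :=
  block_of_check (k := 8) rfl (by decide +kernel)

theorem b328 : Block F al 83968 84224 203 :=
  block_of_check (k := 8) rfl (by decide +kernel)

theorem b329 : Block F al 84224 84480 186 :=
  block_of_check (k := 8) rfl (by decide +kernel)

theorem b330 : Block F al 84480 84736 159 :=
  block_of_check (k := 8) rfl (by decide +kernel)

theorem b331 : Block F al 84736 84992 189 :=
  block_of_check (k := 8) rfl (by decide +kernel)

theorem b332 : Block F al 84992 85248 161 :=
  block_of_check (k := 8) rfl (by decide +kernel)

theorem b333 : Block F al 85248 85504 153 :=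
  block_of_check (k := 8) rfl (by decide +kernel)

theorem b334 : Block F al 85504 85760 211 :=
  block_of_check (k := 8) rfl (by decide +kernel)

theorem b335 : Block F al 85760 86016 186 :=
  block_of_check (k := 8) rfl (by decide +kernel)

theorem b336 : Block F al 86016 86272 145 :=
  block_of_check (k := 8) rfl (by decide +kernel)

theorem b337 : Block F al 86272 86528 137 :=
  block_of_check (k := 8) rfl (by decide +kernel)

theorem b338 : Block F al 86528 86784 145 :=
  block_of_check (k := 8) rfl (by decide +kernel)

theorem b339 : Block F al 86784 87040 212 :=
  block_of_check (k := 8) rfl (by decide +kernel)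

theorem b340 : Block F al 87040 87296 154 :=
  block_of_check (k := 8) rfl (by decide +kernel)

theorem b341 : Block F al 87296 87552 176 :=
  block_of_check (k := 8) rfl (by decide +kernel)

theorem b342 : Block F al 87552 87808 120 :=
  block_of_check (k := 8) rfl (by decide +kernel)

theorem b343 : Block F al 87808 88064 184 :=
  block_of_check (k := 8) rfl (by decide +kernel)

theorem b344 : Block F al 88064 88320 202 :=
  block_of_check (k := 8) rfl (by decide +kernel)

theorem b345 : Block F al 88320 88576 176 :=
  block_of_check (k := 8) rfl (by decide +kernel)

theorem b346 : Block F al 88576 88832 120 :=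
  block_of_check (k := 8) rfl (by decide +kernel)

theorem b347 : Block F al 88832 89088 178 :=
  block_of_check (k := 8) rfl (by decide +kernel)

theorem b348 : Block F al 89088 89344 120 :=
  block_of_check (k := 8) rfl (by decide +kernel)

theorem b349 : Block F al 89344 89600 150 :=
  block_of_check (k := 8) rfl (by decide +kernel)

theorem b350 : Block F al 89600 89856 172 :=
  block_of_check (k := 8) rfl (by decide +kernel)

theorem b351 : Block F al 89856 90112 142 :=
  block_of_check (k := 8) rfl (by decide +kernel)

theorem b352 : Block F al 90112 90368 105 :=
  block_of_check (k := 8) rfl (by decide +kernel)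

theorem b353 : Block F al 90368 90624 105 :=
  block_of_check (k := 8) rfl (by decide +kernel)

theorem b354 : Block F al 90624 90880 192 :=
  block_of_check (k := 8) rfl (by decide +kernel)

theorem b355 : Block F al 90880 91136 175 :=
  block_of_check (k := 8) rfl (by decide +kernel)

theorem b356 : Block F al 91136 91392 169 :=
  block_of_check (k := 8) rfl (by decide +kernel)

theorem b357 : Block F al 91392 91648 166 :=
  block_of_check (k := 8) rfl (by decide +kernel)

theorem b358 : Block F al 91648 91904 110 :=
  block_of_check (k := 8) rfl (by decide +kernel)

end Cfsg.Agent.TcData.HNK.R0
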