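import Mathlib
import Cfsg.Agent.TcData.HNK.R0.Tab

set_option autoImplicit false
set_option Elab.async false
set_option maxRecDepth 100000
set_option linter.all false

namespace Cfsg.Agent.TcData.HNK.R0

open Cfsg.Spor Cfsg.Agent.Lib.TcFacts Cfsg.Agent.Lib.TcBits Cfsg.Agent.Lib.TcPres Cfsg.Spor.HN Cfsg.Agent.TcData.HNK

theorem b2494 : Block F al 638464 638720 36 :=
  block_of_check (k := 8) rfl (by decide +kernel)

theorem b2495 : Block F al 638720 638976 52 :=
  block_of_check (k := 8) rfl (by decide +kernel)

theorem b2496 : Block F al 638976 639232 38 :=
  block_of_check (k := 8) rfl (by decide +kernel)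

theorem b2497 : Block F al 639232 639488 16 :=
  block_of_check (k := 8) rfl (by decide +kernel)

theorem b2498 : Block F al 639488 639744 34 :=
  block_of_check (k := 8) rfl (by decide +kernel)

theorem b2499 : Block F al 639744 640000 12 :=
  block_of_check (k := 8) rfl (by decide +kernel)

theorem b2500 : Block F al 640000 640256 16 :=
  block_of_check (k := 8) rfl (by decide +kernel)

theorem b2501 : Block F al 640256 640512 16 :=
  block_of_check (k := 8) rfl (by decide +kernel)

theorem b2502 : Block F al 640512 640768 10 :=
  block_of_check (k := 8) rfl (by decide +kernel)

theorem b2503 : Block F al 640768 641024 10 :=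
  block_of_check (k := 8) rfl (by decide +kernel)

theorem b2504 : Block F al 641024 641280 25 :=
  block_of_check (k := 8) rfl (by decide +kernel)

theorem b2505 : Block F al 641280 641536 19 :=
  block_of_check (k := 8) rfl (by decide +kernel)

theorem b2506 : Block F al 641536 641792 38 :=
  block_of_check (k := 8) rfl (by decide +kernel)

theorem b2507 : Block F al 641792 642048 43 :=
  block_of_check (k := 8) rfl (by decide +kernel)

theorem b2508 : Block F al 642048 642304 33 :=
  block_of_check (k := 8) rfl (by decide +kernel)

theorem b2509 : Block F al 642304 642560 54 :=
  block_of_check (k := 8) rfl (by decide +kernel)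

theorem b2510 : Block F al 642560 642816 26 :=
  block_of_check (k := 8) rfl (by decide +kernel)

theorem b2511 : Block F al 642816 643072 6 :=
  block_of_check (k := 8) rfl (by decide +kernel)

theorem b2512 : Block F al 643072 643328 30 :=
  block_of_check (k := 8) rfl (by decide +kernel)

theorem b2513 : Block F al 643328 643584 58 :=
  block_of_check (k := 8) rfl (by decide +kernel)

theorem b2514 : Block F al 643584 643840 38 :=
  block_of_check (k := 8) rfl (by decide +kernel)

theorem b2515 : Block F al 643840 644096 70 :=
  block_of_check (k := 8) rfl (by decide +kernel)

theorem b2516 : Block F al 644096 644352 32 :=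
  block_of_check (k := 8) rfl (by decide +kernel)

theorem b2517 : Block F al 644352 644608 36 :=
  block_of_check (k := 8) rfl (by decide +kernel)

theorem b2518 : Block F al 644608 644864 6 :=
  block_of_check (k := 8) rfl (by decide +kernel)

theorem b2519 : Block F al 644864 645120 16 :=
  block_of_check (k := 8) rfl (by decide +kernel)

theorem b2520 : Block F al 645120 645376 32 :=
  block_of_check (k := 8) rfl (by decide +kernel)

theorem b2521 : Block F al 645376 645632 20 :=
  block_of_check (k := 8) rfl (by decide +kernel)

theorem b2522 : Block F al 645632 645888 52 :=
  block_of_check (k := 8) rfl (by decide +kernel)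

theorem b2523 : Block F al 645888 646144 49 :=
  block_of_check (k := 8) rfl (by decide +kernel)

theorem b2524 : Block F al 646144 646400 51 :=
  block_of_check (k := 8) rfl (by decide +kernel)

theorem b2525 : Block F al 646400 646656 52 :=
  block_of_check (k := 8) rfl (by decide +kernel)

theorem b2526 : Block F al 646656 646912 30 :=
  block_of_check (k := 8) rfl (by decide +kernel)

theorem b2527 : Block F al 646912 647168 42 :=
  block_of_check (k := 8) rfl (by decide +kernel)

theorem b2528 : Block F al 647168 647424 42 :=
  block_of_check (k := 8) rfl (by decide +kernel)

theorem b2529 : Block F al 647424 647680 42 :=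
  block_of_check (k := 8) rfl (by decide +kernel)

theorem b2530 : Block F al 647680 647936 40 :=
  block_of_check (k := 8) rfl (by decide +kernel)

theorem b2531 : Block F al 647936 648192 40 :=
  block_of_check (k := 8) rfl (by decide +kernel)

theorem b2532 : Block F al 648192 648448 48 :=
  block_of_check (k := 8) rfl (by decide +kernel)

theorem b2533 : Block F al 648448 648704 42 :=
  block_of_check (k := 8) rfl (by decide +kernel)

theorem b2534 : Block F al 648704 648960 36 :=
  block_of_check (k := 8) rfl (by decide +kernel)

theorem b2535 : Block F al 648960 649216 42 :=
  block_of_check (k := 8) rfl (by decide +kernel)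

theorem b2536 : Block F al 649216 649472 58 :=
  block_of_check (k := 8) rfl (by decide +kernel)

theorem b2537 : Block F al 649472 649728 52 :=
  block_of_check (k := 8) rfl (by decide +kernel)

theorem b2538 : Block F al 649728 649984 56 :=
  block_of_check (k := 8) rfl (by decide +kernel)

theorem b2539 : Block F al 649984 650240 58 :=
  block_of_check (k := 8) rfl (by decide +kernel)

theorem b2540 : Block F al 650240 650496 54 :=
  block_of_check (k := 8) rfl (by decide +kernel)

theorem b2541 : Block F al 650496 650752 16 :=
  block_of_check (k := 8) rfl (by decide +kernel)

theorem b2542 : Block F al 650752 651008 30 :=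
  block_of_check (k := 8) rfl (by decide +kernel)

theorem b2543 : Block F al 651008 651264 28 :=
  block_of_check (k := 8) rfl (by decide +kernel)

theorem b2544 : Block F al 651264 651520 16 :=
  block_of_check (k := 8) rfl (by decide +kernel)

theorem b2545 : Block F al 651520 651776 48 :=
  block_of_check (k := 8) rfl (by decide +kernel)

theorem b2546 : Block F al 651776 652032 28 :=
  block_of_check (k := 8) rfl (by decide +kernel)

theorem b2547 : Block F al 652032 652288 50 :=
  block_of_check (k := 8) rfl (by decide +kernel)

theorem b2548 : Block F al 652288 652544 40 :=
  block_of_check (k := 8) rfl (by decide +kernel)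

theorem b2549 : Block F al 652544 652800 19 :=
  block_of_check (k := 8) rfl (by decide +kernel)

theorem b2550 : Block F al 652800 653056 19 :=
  block_of_check (k := 8) rfl (by decide +kernel)

theorem b2551 : Block F al 653056 653312 26 :=
  block_of_check (k := 8) rfl (by decide +kernel)

theorem b2552 : Block F al 653312 653568 46 :=
  block_of_check (k := 8) rfl (by decide +kernel)

theorem b2553 : Block F al 653568 653824 34 :=
  block_of_check (k := 8) rfl (by decide +kernel)

theorem b2554 : Block F al 653824 654080 30 :=
  block_of_check (k := 8) rfl (by decide +kernel)

theorem b2555 : Block F al 654080 654336 43 :=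
  block_of_check (k := 8) rfl (by decide +kernel)

theorem b2556 : Block F al 654336 654592 23 :=
  block_of_check (k := 8) rfl (by decide +kernel)

theorem b2557 : Block F al 654592 654848 26 :=
  block_of_check (k := 8) rfl (by decide +kernel)

theorem b2558 : Block F al 654848 655104 38 :=
  block_of_check (k := 8) rfl (by decide +kernel)

theorem b2559 : Block F al 655104 655360 52 :=
  block_of_check (k := 8) rfl (by decide +kernel)

theorem b2560 : Block F al 655360 655616 48 :=
  block_of_check (k := 8) rfl (by decide +kernel)

theorem b2561 : Block F al 655616 655872 30 :=
  block_of_check (k := 8) rfl (by decide +kernel)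

theorem b2562 : Block F al 655872 656128 62 :=
  block_of_check (k := 8) rfl (by decide +kernel)

end Cfsg.Agent.TcData.HNK.R0
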