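import Mathlib
import Cfsg.Agent.TcData.HNK.R0.Tab

set_option autoImplicit false
set_option Elab.async false
set_option maxRecDepth 100000
set_option linter.all false

namespace Cfsg.Agent.TcData.HNK.R0

open Cfsg.Spor Cfsg.Agent.Lib.TcFacts Cfsg.Agent.Lib.TcBits Cfsg.Agent.Lib.TcPres Cfsg.Spor.HN Cfsg.Agent.TcData.HNK

theorem b2563 : Block F al 656128 656384 74 :=
  block_of_check (k := 8) rfl (by decide +kernel)

theorem b2564 : Block F al 656384 656640 52 :=
  block_of_check (k := 8) rfl (by decide +kernel)

theorem b2565 : Block F al 656640 656896 33 :=
  block_of_check (k := 8) rfl (by decide +kernel)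

theorem b2566 : Block F al 656896 657152 23 :=
  block_of_check (k := 8) rfl (by decide +kernel)

theorem b2567 : Block F al 657152 657408 32 :=
  block_of_check (k := 8) rfl (by decide +kernel)

theorem b2568 : Block F al 657408 657664 48 :=
  block_of_check (k := 8) rfl (by decide +kernel)

theorem b2569 : Block F al 657664 657920 36 :=
  block_of_check (k := 8) rfl (by decide +kernel)

theorem b2570 : Block F al 657920 658176 20 :=
  block_of_check (k := 8) rfl (by decide +kernel)

theorem b2571 : Block F al 658176 658432 12 :=
  block_of_check (k := 8) rfl (by decide +kernel)

theorem b2572 : Block F al 658432 658688 35 :=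
  block_of_check (k := 8) rfl (by decide +kernel)

theorem b2573 : Block F al 658688 658944 57 :=
  block_of_check (k := 8) rfl (by decide +kernel)

theorem b2574 : Block F al 658944 659200 32 :=
  block_of_check (k := 8) rfl (by decide +kernel)

theorem b2575 : Block F al 659200 659456 30 :=
  block_of_check (k := 8) rfl (by decide +kernel)

theorem b2576 : Block F al 659456 659712 44 :=
  block_of_check (k := 8) rfl (by decide +kernel)

theorem b2577 : Block F al 659712 659968 24 :=
  block_of_check (k := 8) rfl (by decide +kernel)

theorem b2578 : Block F al 659968 660224 20 :=
  block_of_check (k := 8) rfl (by decide +kernel)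

theorem b2579 : Block F al 660224 660480 34 :=
  block_of_check (k := 8) rfl (by decide +kernel)

theorem b2580 : Block F al 660480 660736 16 :=
  block_of_check (k := 8) rfl (by decide +kernel)

theorem b2581 : Block F al 660736 660992 20 :=
  block_of_check (k := 8) rfl (by decide +kernel)

theorem b2582 : Block F al 660992 661248 29 :=
  block_of_check (k := 8) rfl (by decide +kernel)

theorem b2583 : Block F al 661248 661504 47 :=
  block_of_check (k := 8) rfl (by decide +kernel)

theorem b2584 : Block F al 661504 661760 32 :=
  block_of_check (k := 8) rfl (by decide +kernel)

theorem b2585 : Block F al 661760 662016 38 :=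
  block_of_check (k := 8) rfl (by decide +kernel)

theorem b2586 : Block F al 662016 662272 36 :=
  block_of_check (k := 8) rfl (by decide +kernel)

theorem b2587 : Block F al 662272 662528 28 :=
  block_of_check (k := 8) rfl (by decide +kernel)

theorem b2588 : Block F al 662528 662784 12 :=
  block_of_check (k := 8) rfl (by decide +kernel)

theorem b2589 : Block F al 662784 663040 34 :=
  block_of_check (k := 8) rfl (by decide +kernel)

theorem b2590 : Block F al 663040 663296 42 :=
  block_of_check (k := 8) rfl (by decide +kernel)

theorem b2591 : Block F al 663296 663552 30 :=
  block_of_check (k := 8) rfl (by decide +kernel)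

theorem b2592 : Block F al 663552 663808 50 :=
  block_of_check (k := 8) rfl (by decide +kernel)

theorem b2593 : Block F al 663808 664064 34 :=
  block_of_check (k := 8) rfl (by decide +kernel)

theorem b2594 : Block F al 664064 664320 44 :=
  block_of_check (k := 8) rfl (by decide +kernel)

theorem b2595 : Block F al 664320 664576 40 :=
  block_of_check (k := 8) rfl (by decide +kernel)

theorem b2596 : Block F al 664576 664832 26 :=
  block_of_check (k := 8) rfl (by decide +kernel)

theorem b2597 : Block F al 664832 665088 40 :=
  block_of_check (k := 8) rfl (by decide +kernel)

theorem b2598 : Block F al 665088 665344 46 :=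
  block_of_check (k := 8) rfl (by decide +kernel)

theorem b2599 : Block F al 665344 665600 30 :=
  block_of_check (k := 8) rfl (by decide +kernel)

theorem b2600 : Block F al 665600 665856 34 :=
  block_of_check (k := 8) rfl (by decide +kernel)

theorem b2601 : Block F al 665856 666112 40 :=
  block_of_check (k := 8) rfl (by decide +kernel)

theorem b2602 : Block F al 666112 666368 28 :=
  block_of_check (k := 8) rfl (by decide +kernel)

theorem b2603 : Block F al 666368 666624 25 :=
  block_of_check (k := 8) rfl (by decide +kernel)

theorem b2604 : Block F al 666624 666880 35 :=
  block_of_check (k := 8) rfl (by decide +kernel)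

theorem b2605 : Block F al 666880 667136 48 :=
  block_of_check (k := 8) rfl (by decide +kernel)

theorem b2606 : Block F al 667136 667392 26 :=
  block_of_check (k := 8) rfl (by decide +kernel)

theorem b2607 : Block F al 667392 667648 24 :=
  block_of_check (k := 8) rfl (by decide +kernel)

theorem b2608 : Block F al 667648 667904 18 :=
  block_of_check (k := 8) rfl (by decide +kernel)

theorem b2609 : Block F al 667904 668160 26 :=
  block_of_check (k := 8) rfl (by decide +kernel)

theorem b2610 : Block F al 668160 668416 26 :=
  block_of_check (k := 8) rfl (by decide +kernel)

theorem b2611 : Block F al 668416 668672 26 :=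
  block_of_check (k := 8) rfl (by decide +kernel)

theorem b2612 : Block F al 668672 668928 46 :=
  block_of_check (k := 8) rfl (by decide +kernel)

theorem b2613 : Block F al 668928 669184 34 :=
  block_of_check (k := 8) rfl (by decide +kernel)

theorem b2614 : Block F al 669184 669440 19 :=
  block_of_check (k := 8) rfl (by decide +kernel)

theorem b2615 : Block F al 669440 669696 44 :=
  block_of_check (k := 8) rfl (by decide +kernel)

theorem b2616 : Block F al 669696 669952 21 :=
  block_of_check (k := 8) rfl (by decide +kernel)

theorem b2617 : Block F al 669952 670208 45 :=
  block_of_check (k := 8) rfl (by decide +kernel)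

theorem b2618 : Block F al 670208 670464 41 :=
  block_of_check (k := 8) rfl (by decide +kernel)

theorem b2619 : Block F al 670464 670720 14 :=
  block_of_check (k := 8) rfl (by decide +kernel)

theorem b2620 : Block F al 670720 670976 48 :=
  block_of_check (k := 8) rfl (by decide +kernel)

theorem b2621 : Block F al 670976 671232 34 :=
  block_of_check (k := 8) rfl (by decide +kernel)

theorem b2622 : Block F al 671232 671488 12 :=
  block_of_check (k := 8) rfl (by decide +kernel)

theorem b2623 : Block F al 671488 671744 36 :=
  block_of_check (k := 8) rfl (by decide +kernel)

theorem b2624 : Block F al 671744 672000 26 :=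
  block_of_check (k := 8) rfl (by decide +kernel)

theorem b2625 : Block F al 672000 672256 36 :=
  block_of_check (k := 8) rfl (by decide +kernel)

theorem b2626 : Block F al 672256 672512 24 :=
  block_of_check (k := 8) rfl (by decide +kernel)

theorem b2627 : Block F al 672512 672768 30 :=
  block_of_check (k := 8) rfl (by decide +kernel)

theorem b2628 : Block F al 672768 673024 12 :=
  block_of_check (k := 8) rfl (by decide +kernel)

theorem b2629 : Block F al 673024 673280 53 :=
  block_of_check (k := 8) rfl (by decide +kernel)

theorem b2630 : Block F al 673280 673536 37 :=
  block_of_check (k := 8) rfl (by decide +kernel)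

theorem b2631 : Block F al 673536 673792 62 :=
  block_of_check (k := 8) rfl (by decide +kernel)

theorem b2632 : Block F al 673792 674048 24 :=
  block_of_check (k := 8) rfl (by decide +kernel)

end Cfsg.Agent.TcData.HNK.R0
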