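import Mathlib
import Cfsg.Agent.TcData.HNK.R0.Tab

set_option autoImplicit false
set_option Elab.async false
set_option maxRecDepth 100000
set_option linter.all false

namespace Cfsg.Agent.TcData.HNK.R0

open Cfsg.Spor Cfsg.Agent.Lib.TcFacts Cfsg.Agent.Lib.TcBits Cfsg.Agent.Lib.TcPres Cfsg.Spor.HN Cfsg.Agent.TcData.HNK

theorem b2633 : Block F al 674048 674304 26 :=
  block_of_check (k := 8) rfl (by decide +kernel)

theorem b2634 : Block F al 674304 674560 28 :=
  block_of_check (k := 8) rfl (by decide +kernel)

theorem b2635 : Block F al 674560 674816 14 :=
  block_of_check (k := 8) rfl (by decide +kernel)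

theorem b2636 : Block F al 674816 675072 31 :=
  block_of_check (k := 8) rfl (by decide +kernel)

theorem b2637 : Block F al 675072 675328 63 :=
  block_of_check (k := 8) rfl (by decide +kernel)

theorem b2638 : Block F al 675328 675584 11 :=
  block_of_check (k := 8) rfl (by decide +kernel)

theorem b2639 : Block F al 675584 675840 27 :=
  block_of_check (k := 8) rfl (by decide +kernel)

theorem b2640 : Block F al 675840 676096 18 :=
  block_of_check (k := 8) rfl (by decide +kernel)

theorem b2641 : Block F al 676096 676352 42 :=
  block_of_check (k := 8) rfl (by decide +kernel)

theorem b2642 : Block F al 676352 676608 10 :=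
  block_of_check (k := 8) rfl (by decide +kernel)

theorem b2643 : Block F al 676608 676864 32 :=
  block_of_check (k := 8) rfl (by decide +kernel)

theorem b2644 : Block F al 676864 677120 28 :=
  block_of_check (k := 8) rfl (by decide +kernel)

theorem b2645 : Block F al 677120 677376 36 :=
  block_of_check (k := 8) rfl (by decide +kernel)

theorem b2646 : Block F al 677376 677632 33 :=
  block_of_check (k := 8) rfl (by decide +kernel)

theorem b2647 : Block F al 677632 677888 17 :=
  block_of_check (k := 8) rfl (by decide +kernel)

theorem b2648 : Block F al 677888 678144 28 :=
  block_of_check (k := 8) rfl (by decide +kernel)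

theorem b2649 : Block F al 678144 678400 24 :=
  block_of_check (k := 8) rfl (by decide +kernel)

theorem b2650 : Block F al 678400 678656 42 :=
  block_of_check (k := 8) rfl (by decide +kernel)

theorem b2651 : Block F al 678656 678912 26 :=
  block_of_check (k := 8) rfl (by decide +kernel)

theorem b2652 : Block F al 678912 679168 38 :=
  block_of_check (k := 8) rfl (by decide +kernel)

theorem b2653 : Block F al 679168 679424 50 :=
  block_of_check (k := 8) rfl (by decide +kernel)

theorem b2654 : Block F al 679424 679680 50 :=
  block_of_check (k := 8) rfl (by decide +kernel)

theorem b2655 : Block F al 679680 679936 59 :=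
  block_of_check (k := 8) rfl (by decide +kernel)

theorem b2656 : Block F al 679936 680192 56 :=
  block_of_check (k := 8) rfl (by decide +kernel)

theorem b2657 : Block F al 680192 680448 33 :=
  block_of_check (k := 8) rfl (by decide +kernel)

theorem b2658 : Block F al 680448 680704 36 :=
  block_of_check (k := 8) rfl (by decide +kernel)

theorem b2659 : Block F al 680704 680960 28 :=
  block_of_check (k := 8) rfl (by decide +kernel)

theorem b2660 : Block F al 680960 681216 51 :=
  block_of_check (k := 8) rfl (by decide +kernel)

theorem b2661 : Block F al 681216 681472 27 :=
  block_of_check (k := 8) rfl (by decide +kernel)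

theorem b2662 : Block F al 681472 681728 10 :=
  block_of_check (k := 8) rfl (by decide +kernel)

theorem b2663 : Block F al 681728 681984 12 :=
  block_of_check (k := 8) rfl (by decide +kernel)

theorem b2664 : Block F al 681984 682240 48 :=
  block_of_check (k := 8) rfl (by decide +kernel)

theorem b2665 : Block F al 682240 682496 54 :=
  block_of_check (k := 8) rfl (by decide +kernel)

theorem b2666 : Block F al 682496 682752 20 :=
  block_of_check (k := 8) rfl (by decide +kernel)

theorem b2667 : Block F al 682752 683008 16 :=
  block_of_check (k := 8) rfl (by decide +kernel)

theorem b2668 : Block F al 683008 683264 26 :=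
  block_of_check (k := 8) rfl (by decide +kernel)

theorem b2669 : Block F al 683264 683520 55 :=
  block_of_check (k := 8) rfl (by decide +kernel)

theorem b2670 : Block F al 683520 683776 39 :=
  block_of_check (k := 8) rfl (by decide +kernel)

theorem b2671 : Block F al 683776 684032 27 :=
  block_of_check (k := 8) rfl (by decide +kernel)

theorem b2672 : Block F al 684032 684288 25 :=
  block_of_check (k := 8) rfl (by decide +kernel)

theorem b2673 : Block F al 684288 684544 30 :=
  block_of_check (k := 8) rfl (by decide +kernel)

theorem b2674 : Block F al 684544 684800 16 :=
  block_of_check (k := 8) rfl (by decide +kernel)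

theorem b2675 : Block F al 684800 685056 30 :=
  block_of_check (k := 8) rfl (by decide +kernel)

theorem b2676 : Block F al 685056 685312 62 :=
  block_of_check (k := 8) rfl (by decide +kernel)

theorem b2677 : Block F al 685312 685568 46 :=
  block_of_check (k := 8) rfl (by decide +kernel)

theorem b2678 : Block F al 685568 685824 44 :=
  block_of_check (k := 8) rfl (by decide +kernel)

theorem b2679 : Block F al 685824 686080 62 :=
  block_of_check (k := 8) rfl (by decide +kernel)

theorem b2680 : Block F al 686080 686336 14 :=
  block_of_check (k := 8) rfl (by decide +kernel)

theorem b2681 : Block F al 686336 686592 30 :=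
  block_of_check (k := 8) rfl (by decide +kernel)

theorem b2682 : Block F al 686592 686848 40 :=
  block_of_check (k := 8) rfl (by decide +kernel)

theorem b2683 : Block F al 686848 687104 22 :=
  block_of_check (k := 8) rfl (by decide +kernel)

theorem b2684 : Block F al 687104 687360 36 :=
  block_of_check (k := 8) rfl (by decide +kernel)

theorem b2685 : Block F al 687360 687616 26 :=
  block_of_check (k := 8) rfl (by decide +kernel)

theorem b2686 : Block F al 687616 687872 28 :=
  block_of_check (k := 8) rfl (by decide +kernel)

theorem b2687 : Block F al 687872 688128 49 :=
  block_of_check (k := 8) rfl (by decide +kernel)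

theorem b2688 : Block F al 688128 688384 53 :=
  block_of_check (k := 8) rfl (by decide +kernel)

theorem b2689 : Block F al 688384 688640 47 :=
  block_of_check (k := 8) rfl (by decide +kernel)

theorem b2690 : Block F al 688640 688896 49 :=
  block_of_check (k := 8) rfl (by decide +kernel)

theorem b2691 : Block F al 688896 689152 24 :=
  block_of_check (k := 8) rfl (by decide +kernel)

theorem b2692 : Block F al 689152 689408 10 :=
  block_of_check (k := 8) rfl (by decide +kernel)

theorem b2693 : Block F al 689408 689664 22 :=
  block_of_check (k := 8) rfl (by decide +kernel)

theorem b2694 : Block F al 689664 689920 26 :=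
  block_of_check (k := 8) rfl (by decide +kernel)

theorem b2695 : Block F al 689920 690176 48 :=
  block_of_check (k := 8) rfl (by decide +kernel)

theorem b2696 : Block F al 690176 690432 30 :=
  block_of_check (k := 8) rfl (by decide +kernel)

theorem b2697 : Block F al 690432 690688 36 :=
  block_of_check (k := 8) rfl (by decide +kernel)

theorem b2698 : Block F al 690688 690944 18 :=
  block_of_check (k := 8) rfl (by decide +kernel)

theorem b2699 : Block F al 690944 691200 46 :=
  block_of_check (k := 8) rfl (by decide +kernel)

theorem b2700 : Block F al 691200 691456 62 :=
  block_of_check (k := 8) rfl (by decide +kernel)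

end Cfsg.Agent.TcData.HNK.R0
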