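import Mathlib
import Cfsg.Agent.TcData.HNK.R0.Tab

set_option autoImplicit false
set_option Elab.async false
set_option maxRecDepth 100000
set_option linter.all false

namespace Cfsg.Agent.TcData.HNK.R0

open Cfsg.Spor Cfsg.Agent.Lib.TcFacts Cfsg.Agent.Lib.TcBits Cfsg.Agent.Lib.TcPres Cfsg.Spor.HN Cfsg.Agent.TcData.HNK

theorem b2701 : Block F al 691456 691712 24 :=
  block_of_check (k := 8) rfl (by decide +kernel)

theorem b2702 : Block F al 691712 691968 26 :=
  block_of_check (k := 8) rfl (by decide +kernel)

theorem b2703 : Block F al 691968 692224 28 :=
  block_of_check (k := 8) rfl (by decide +kernel)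

theorem b2704 : Block F al 692224 692480 36 :=
  block_of_check (k := 8) rfl (by decide +kernel)

theorem b2705 : Block F al 692480 692736 32 :=
  block_of_check (k := 8) rfl (by decide +kernel)

theorem b2706 : Block F al 692736 692992 38 :=
  block_of_check (k := 8) rfl (by decide +kernel)

theorem b2707 : Block F al 692992 693248 18 :=
  block_of_check (k := 8) rfl (by decide +kernel)

theorem b2708 : Block F al 693248 693504 38 :=
  block_of_check (k := 8) rfl (by decide +kernel)

theorem b2709 : Block F al 693504 693760 26 :=
  block_of_check (k := 8) rfl (by decide +kernel)

theorem b2710 : Block F al 693760 694016 18 :=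
  block_of_check (k := 8) rfl (by decide +kernel)

theorem b2711 : Block F al 694016 694272 52 :=
  block_of_check (k := 8) rfl (by decide +kernel)

theorem b2712 : Block F al 694272 694528 42 :=
  block_of_check (k := 8) rfl (by decide +kernel)

theorem b2713 : Block F al 694528 694784 64 :=
  block_of_check (k := 8) rfl (by decide +kernel)

theorem b2714 : Block F al 694784 695040 70 :=
  block_of_check (k := 8) rfl (by decide +kernel)

theorem b2715 : Block F al 695040 695296 68 :=
  block_of_check (k := 8) rfl (by decide +kernel)

theorem b2716 : Block F al 695296 695552 60 :=
  block_of_check (k := 8) rfl (by decide +kernel)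

theorem b2717 : Block F al 695552 695808 42 :=
  block_of_check (k := 8) rfl (by decide +kernel)

theorem b2718 : Block F al 695808 696064 40 :=
  block_of_check (k := 8) rfl (by decide +kernel)

theorem b2719 : Block F al 696064 696320 36 :=
  block_of_check (k := 8) rfl (by decide +kernel)

theorem b2720 : Block F al 696320 696576 43 :=
  block_of_check (k := 8) rfl (by decide +kernel)

theorem b2721 : Block F al 696576 696832 37 :=
  block_of_check (k := 8) rfl (by decide +kernel)

theorem b2722 : Block F al 696832 697088 38 :=
  block_of_check (k := 8) rfl (by decide +kernel)

theorem b2723 : Block F al 697088 697344 23 :=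
  block_of_check (k := 8) rfl (by decide +kernel)

theorem b2724 : Block F al 697344 697600 43 :=
  block_of_check (k := 8) rfl (by decide +kernel)

theorem b2725 : Block F al 697600 697856 30 :=
  block_of_check (k := 8) rfl (by decide +kernel)

theorem b2726 : Block F al 697856 698112 134 :=
  block_of_check (k := 8) rfl (by decide +kernel)

theorem b2727 : Block F al 698112 698368 176 :=
  block_of_check (k := 8) rfl (by decide +kernel)

theorem b2728 : Block F al 698368 698624 178 :=
  block_of_check (k := 8) rfl (by decide +kernel)

theorem b2729 : Block F al 698624 698880 196 :=
  block_of_check (k := 8) rfl (by decide +kernel)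

theorem b2730 : Block F al 698880 699136 196 :=
  block_of_check (k := 8) rfl (by decide +kernel)

theorem b2731 : Block F al 699136 699392 185 :=
  block_of_check (k := 8) rfl (by decide +kernel)

theorem b2732 : Block F al 699392 699648 213 :=
  block_of_check (k := 8) rfl (by decide +kernel)

theorem b2733 : Block F al 699648 699904 190 :=
  block_of_check (k := 8) rfl (by decide +kernel)

theorem b2734 : Block F al 699904 700160 209 :=
  block_of_check (k := 8) rfl (by decide +kernel)

theorem b2735 : Block F al 700160 700416 209 :=
  block_of_check (k := 8) rfl (by decide +kernel)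

theorem b2736 : Block F al 700416 700672 222 :=
  block_of_check (k := 8) rfl (by decide +kernel)

theorem b2737 : Block F al 700672 700928 206 :=
  block_of_check (k := 8) rfl (by decide +kernel)

theorem b2738 : Block F al 700928 701184 223 :=
  block_of_check (k := 8) rfl (by decide +kernel)

theorem b2739 : Block F al 701184 701440 238 :=
  block_of_check (k := 8) rfl (by decide +kernel)

theorem b2740 : Block F al 701440 701696 226 :=
  block_of_check (k := 8) rfl (by decide +kernel)

theorem b2741 : Block F al 701696 701952 225 :=
  block_of_check (k := 8) rfl (by decide +kernel)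

theorem b2742 : Block F al 701952 702208 232 :=
  block_of_check (k := 8) rfl (by decide +kernel)

theorem b2743 : Block F al 702208 702464 218 :=
  block_of_check (k := 8) rfl (by decide +kernel)

theorem b2744 : Block F al 702464 702720 230 :=
  block_of_check (k := 8) rfl (by decide +kernel)

theorem b2745 : Block F al 702720 702976 239 :=
  block_of_check (k := 8) rfl (by decide +kernel)

theorem b2746 : Block F al 702976 703232 239 :=
  block_of_check (k := 8) rfl (by decide +kernel)

theorem b2747 : Block F al 703232 703488 238 :=
  block_of_check (k := 8) rfl (by decide +kernel)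

theorem b2748 : Block F al 703488 703744 240 :=
  block_of_check (k := 8) rfl (by decide +kernel)

theorem b2749 : Block F al 703744 704000 242 :=
  block_of_check (k := 8) rfl (by decide +kernel)

theorem b2750 : Block F al 704000 704256 228 :=
  block_of_check (k := 8) rfl (by decide +kernel)

theorem b2751 : Block F al 704256 704512 235 :=
  block_of_check (k := 8) rfl (by decide +kernel)

theorem b2752 : Block F al 704512 704768 236 :=
  block_of_check (k := 8) rfl (by decide +kernel)

end Cfsg.Agent.TcData.HNK.R0
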