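import Mathlib
import Cfsg.Agent.TcData.HNK.R0.Tab

set_option autoImplicit false
set_option Elab.async false
set_option maxRecDepth 100000
set_option linter.all false

namespace Cfsg.Agent.TcData.HNK.R0

open Cfsg.Spor Cfsg.Agent.Lib.TcFacts Cfsg.Agent.Lib.TcBits Cfsg.Agent.Lib.TcPres Cfsg.Spor.HN Cfsg.Agent.TcData.HNK

theorem b2792 : Block F al 714752 715008 256 :=
  block_of_check (k := 8) rfl (by decide +kernel)

theorem b2793 : Block F al 715008 715264 256 :=
  block_of_check (k := 8) rfl (by decide +kernel)

theorem b2794 : Block F al 715264 715520 256 :=
  block_of_check (k := 8) rfl (by decide +kernel)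

theorem b2795 : Block F al 715520 715776 254 :=
  block_of_check (k := 8) rfl (by decide +kernel)

theorem b2796 : Block F al 715776 716032 256 :=
  block_of_check (k := 8) rfl (by decide +kernel)

theorem b2797 : Block F al 716032 716288 256 :=
  block_of_check (k := 8) rfl (by decide +kernel)

theorem b2798 : Block F al 716288 716544 256 :=
  block_of_check (k := 8) rfl (by decide +kernel)

theorem b2799 : Block F al 716544 716800 256 :=
  block_of_check (k := 8) rfl (by decide +kernel)

theorem b2800 : Block F al 716800 717056 256 :=
  block_of_check (k := 8) rfl (by decide +kernel)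

theorem b2801 : Block F al 717056 717312 254 :=
  block_of_check (k := 8) rfl (by decide +kernel)

theorem b2802 : Block F al 717312 717568 256 :=
  block_of_check (k := 8) rfl (by decide +kernel)

theorem b2803 : Block F al 717568 717824 254 :=
  block_of_check (k := 8) rfl (by decide +kernel)

theorem b2804 : Block F al 717824 718080 256 :=
  block_of_check (k := 8) rfl (by decide +kernel)

theorem b2805 : Block F al 718080 718336 256 :=
  block_of_check (k := 8) rfl (by decide +kernel)

theorem b2806 : Block F al 718336 718592 256 :=
  block_of_check (k := 8) rfl (by decide +kernel)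

theorem b2807 : Block F al 718592 718848 256 :=
  block_of_check (k := 8) rfl (by decide +kernel)

theorem b2808 : Block F al 718848 719104 256 :=
  block_of_check (k := 8) rfl (by decide +kernel)

theorem b2809 : Block F al 719104 719360 256 :=
  block_of_check (k := 8) rfl (by decide +kernel)

theorem b2810 : Block F al 719360 719616 96 :=
  block_of_check (k := 8) rfl (by decide +kernel)

end Cfsg.Agent.TcData.HNK.R0
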