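import Mathlib
import Cfsg.Agent.TcData.HNK.R0.Tab

set_option autoImplicit false
set_option Elab.async false
set_option maxRecDepth 100000
set_option linter.all false

namespace Cfsg.Agent.TcData.HNK.R0

open Cfsg.Spor Cfsg.Agent.Lib.TcFacts Cfsg.Agent.Lib.TcBits Cfsg.Agent.Lib.TcPres Cfsg.Spor.HN Cfsg.Agent.TcData.HNK

theorem b359 : Block F al 91904 92160 176 :=
  block_of_check (k := 8) rfl (by decide +kernel)

theorem b360 : Block F al 92160 92416 197 :=
  block_of_check (k := 8) rfl (by decide +kernel)

theorem b361 : Block F al 92416 92672 107 :=
  block_of_check (k := 8) rfl (by decide +kernel)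

theorem b362 : Block F al 92672 92928 138 :=
  block_of_check (k := 8) rfl (by decide +kernel)

theorem b363 : Block F al 92928 93184 163 :=
  block_of_check (k := 8) rfl (by decide +kernel)

theorem b364 : Block F al 93184 93440 127 :=
  block_of_check (k := 8) rfl (by decide +kernel)

theorem b365 : Block F al 93440 93696 128 :=
  block_of_check (k := 8) rfl (by decide +kernel)

theorem b366 : Block F al 93696 93952 178 :=
  block_of_check (k := 8) rfl (by decide +kernel)

theorem b367 : Block F al 93952 94208 154 :=
  block_of_check (k := 8) rfl (by decide +kernel)

theorem b368 : Block F al 94208 94464 137 :=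
  block_of_check (k := 8) rfl (by decide +kernel)

theorem b369 : Block F al 94464 94720 118 :=
  block_of_check (k := 8) rfl (by decide +kernel)

theorem b370 : Block F al 94720 94976 117 :=
  block_of_check (k := 8) rfl (by decide +kernel)

theorem b371 : Block F al 94976 95232 149 :=
  block_of_check (k := 8) rfl (by decide +kernel)

theorem b372 : Block F al 95232 95488 166 :=
  block_of_check (k := 8) rfl (by decide +kernel)

theorem b373 : Block F al 95488 95744 158 :=
  block_of_check (k := 8) rfl (by decide +kernel)

theorem b374 : Block F al 95744 96000 127 :=
  block_of_check (k := 8) rfl (by decide +kernel)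

theorem b375 : Block F al 96000 96256 94 :=
  block_of_check (k := 8) rfl (by decide +kernel)

theorem b376 : Block F al 96256 96512 134 :=
  block_of_check (k := 8) rfl (by decide +kernel)

theorem b377 : Block F al 96512 96768 206 :=
  block_of_check (k := 8) rfl (by decide +kernel)

theorem b378 : Block F al 96768 97024 164 :=
  block_of_check (k := 8) rfl (by decide +kernel)

theorem b379 : Block F al 97024 97280 136 :=
  block_of_check (k := 8) rfl (by decide +kernel)

theorem b380 : Block F al 97280 97536 148 :=
  block_of_check (k := 8) rfl (by decide +kernel)

theorem b381 : Block F al 97536 97792 170 :=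
  block_of_check (k := 8) rfl (by decide +kernel)

theorem b382 : Block F al 97792 98048 162 :=
  block_of_check (k := 8) rfl (by decide +kernel)

theorem b383 : Block F al 98048 98304 194 :=
  block_of_check (k := 8) rfl (by decide +kernel)

theorem b384 : Block F al 98304 98560 162 :=
  block_of_check (k := 8) rfl (by decide +kernel)

theorem b385 : Block F al 98560 98816 121 :=
  block_of_check (k := 8) rfl (by decide +kernel)

theorem b386 : Block F al 98816 99072 142 :=
  block_of_check (k := 8) rfl (by decide +kernel)

theorem b387 : Block F al 99072 99328 118 :=
  block_of_check (k := 8) rfl (by decide +kernel)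

theorem b388 : Block F al 99328 99584 153 :=
  block_of_check (k := 8) rfl (by decide +kernel)

theorem b389 : Block F al 99584 99840 183 :=
  block_of_check (k := 8) rfl (by decide +kernel)

theorem b390 : Block F al 99840 100096 143 :=
  block_of_check (k := 8) rfl (by decide +kernel)

theorem b391 : Block F al 100096 100352 144 :=
  block_of_check (k := 8) rfl (by decide +kernel)

theorem b392 : Block F al 100352 100608 128 :=
  block_of_check (k := 8) rfl (by decide +kernel)

theorem b393 : Block F al 100608 100864 145 :=
  block_of_check (k := 8) rfl (by decide +kernel)

theorem b394 : Block F al 100864 101120 153 :=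
  block_of_check (k := 8) rfl (by decide +kernel)

theorem b395 : Block F al 101120 101376 123 :=
  block_of_check (k := 8) rfl (by decide +kernel)

theorem b396 : Block F al 101376 101632 143 :=
  block_of_check (k := 8) rfl (by decide +kernel)

theorem b397 : Block F al 101632 101888 104 :=
  block_of_check (k := 8) rfl (by decide +kernel)

theorem b398 : Block F al 101888 102144 148 :=
  block_of_check (k := 8) rfl (by decide +kernel)

theorem b399 : Block F al 102144 102400 112 :=
  block_of_check (k := 8) rfl (by decide +kernel)

theorem b400 : Block F al 102400 102656 112 :=
  block_of_check (k := 8) rfl (by decide +kernel)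

theorem b401 : Block F al 102656 102912 150 :=
  block_of_check (k := 8) rfl (by decide +kernel)

theorem b402 : Block F al 102912 103168 118 :=
  block_of_check (k := 8) rfl (by decide +kernel)

theorem b403 : Block F al 103168 103424 166 :=
  block_of_check (k := 8) rfl (by decide +kernel)

theorem b404 : Block F al 103424 103680 164 :=
  block_of_check (k := 8) rfl (by decide +kernel)

theorem b405 : Block F al 103680 103936 152 :=
  block_of_check (k := 8) rfl (by decide +kernel)

theorem b406 : Block F al 103936 104192 166 :=
  block_of_check (k := 8) rfl (by decide +kernel)

theorem b407 : Block F al 104192 104448 152 :=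
  block_of_check (k := 8) rfl (by decide +kernel)

theorem b408 : Block F al 104448 104704 151 :=
  block_of_check (k := 8) rfl (by decide +kernel)

theorem b409 : Block F al 104704 104960 129 :=
  block_of_check (k := 8) rfl (by decide +kernel)

theorem b410 : Block F al 104960 105216 183 :=
  block_of_check (k := 8) rfl (by decide +kernel)

theorem b411 : Block F al 105216 105472 160 :=
  block_of_check (k := 8) rfl (by decide +kernel)

theorem b412 : Block F al 105472 105728 149 :=
  block_of_check (k := 8) rfl (by decide +kernel)

theorem b413 : Block F al 105728 105984 165 :=
  block_of_check (k := 8) rfl (by decide +kernel)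

theorem b414 : Block F al 105984 106240 100 :=
  block_of_check (k := 8) rfl (by decide +kernel)

theorem b415 : Block F al 106240 106496 158 :=
  block_of_check (k := 8) rfl (by decide +kernel)

theorem b416 : Block F al 106496 106752 168 :=
  block_of_check (k := 8) rfl (by decide +kernel)

theorem b417 : Block F al 106752 107008 105 :=
  block_of_check (k := 8) rfl (by decide +kernel)

theorem b418 : Block F al 107008 107264 155 :=
  block_of_check (k := 8) rfl (by decide +kernel)

theorem b419 : Block F al 107264 107520 82 :=
  block_of_check (k := 8) rfl (by decide +kernel)

theorem b420 : Block F al 107520 107776 159 :=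
  block_of_check (k := 8) rfl (by decide +kernel)

theorem b421 : Block F al 107776 108032 124 :=
  block_of_check (k := 8) rfl (by decide +kernel)

theorem b422 : Block F al 108032 108288 184 :=
  block_of_check (k := 8) rfl (by decide +kernel)

theorem b423 : Block F al 108288 108544 109 :=
  block_of_check (k := 8) rfl (by decide +kernel)

theorem b424 : Block F al 108544 108800 144 :=
  block_of_check (k := 8) rfl (by decide +kernel)

theorem b425 : Block F al 108800 109056 96 :=
  block_of_check (k := 8) rfl (by decide +kernel)

theorem b426 : Block F al 109056 109312 107 :=
  block_of_check (k := 8) rfl (by decide +kernel)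

theorem b427 : Block F al 109312 109568 115 :=
  block_of_check (k := 8) rfl (by decide +kernel)

theorem b428 : Block F al 109568 109824 142 :=
  block_of_check (k := 8) rfl (by decide +kernel)

theorem b429 : Block F al 109824 110080 134 :=
  block_of_check (k := 8) rfl (by decide +kernel)

theorem b430 : Block F al 110080 110336 154 :=
  block_of_check (k := 8) rfl (by decide +kernel)

theorem b431 : Block F al 110336 110592 163 :=
  block_of_check (k := 8) rfl (by decide +kernel)

theorem b432 : Block F al 110592 110848 172 :=
  block_of_check (k := 8) rfl (by decide +kernel)

theorem b433 : Block F al 110848 111104 134 :=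
  block_of_check (k := 8) rfl (by decide +kernel)

theorem b434 : Block F al 111104 111360 151 :=
  block_of_check (k := 8) rfl (by decide +kernel)

theorem b435 : Block F al 111360 111616 135 :=
  block_of_check (k := 8) rfl (by decide +kernel)

theorem b436 : Block F al 111616 111872 76 :=
  block_of_check (k := 8) rfl (by decide +kernel)

theorem b437 : Block F al 111872 112128 111 :=
  block_of_check (k := 8) rfl (by decide +kernel)

theorem b438 : Block F al 112128 112384 99 :=
  block_of_check (k := 8) rfl (by decide +kernel)

theorem b439 : Block F al 112384 112640 103 :=
  block_of_check (k := 8) rfl (by decide +kernel)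

theorem b440 : Block F al 112640 112896 164 :=
  block_of_check (k := 8) rfl (by decide +kernel)

theorem b441 : Block F al 112896 113152 75 :=
  block_of_check (k := 8) rfl (by decide +kernel)

theorem b442 : Block F al 113152 113408 177 :=
  block_of_check (k := 8) rfl (by decide +kernel)

theorem b443 : Block F al 113408 113664 182 :=
  block_of_check (k := 8) rfl (by decide +kernel)

end Cfsg.Agent.TcData.HNK.R0
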