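import Mathlib
import Cfsg.Agent.TcData.HNK.R0.Tab

set_option autoImplicit false
set_option Elab.async false
set_option maxRecDepth 100000
set_option linter.all false

namespace Cfsg.Agent.TcData.HNK.R0

open Cfsg.Spor Cfsg.Agent.Lib.TcFacts Cfsg.Agent.Lib.TcBits Cfsg.Agent.Lib.TcPres Cfsg.Spor.HN Cfsg.Agent.TcData.HNK

theorem b444 : Block F al 113664 113920 53 :=
  block_of_check (k := 8) rfl (by decide +kernel)

theorem b445 : Block F al 113920 114176 104 :=
  block_of_check (k := 8) rfl (by decide +kernel)

theorem b446 : Block F al 114176 114432 137 :=
  block_of_check (k := 8) rfl (by decide +kernel)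

theorem b447 : Block F al 114432 114688 123 :=
  block_of_check (k := 8) rfl (by decide +kernel)

theorem b448 : Block F al 114688 114944 143 :=
  block_of_check (k := 8) rfl (by decide +kernel)

theorem b449 : Block F al 114944 115200 143 :=
  block_of_check (k := 8) rfl (by decide +kernel)

theorem b450 : Block F al 115200 115456 182 :=
  block_of_check (k := 8) rfl (by decide +kernel)

theorem b451 : Block F al 115456 115712 156 :=
  block_of_check (k := 8) rfl (by decide +kernel)

theorem b452 : Block F al 115712 115968 124 :=
  block_of_check (k := 8) rfl (by decide +kernel)

theorem b453 : Block F al 115968 116224 93 :=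
  block_of_check (k := 8) rfl (by decide +kernel)

theorem b454 : Block F al 116224 116480 91 :=
  block_of_check (k := 8) rfl (by decide +kernel)

theorem b455 : Block F al 116480 116736 79 :=
  block_of_check (k := 8) rfl (by decide +kernel)

theorem b456 : Block F al 116736 116992 93 :=
  block_of_check (k := 8) rfl (by decide +kernel)

theorem b457 : Block F al 116992 117248 80 :=
  block_of_check (k := 8) rfl (by decide +kernel)

theorem b458 : Block F al 117248 117504 137 :=
  block_of_check (k := 8) rfl (by decide +kernel)

theorem b459 : Block F al 117504 117760 111 :=
  block_of_check (k := 8) rfl (by decide +kernel)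

theorem b460 : Block F al 117760 118016 125 :=
  block_of_check (k := 8) rfl (by decide +kernel)

theorem b461 : Block F al 118016 118272 137 :=
  block_of_check (k := 8) rfl (by decide +kernel)

theorem b462 : Block F al 118272 118528 187 :=
  block_of_check (k := 8) rfl (by decide +kernel)

theorem b463 : Block F al 118528 118784 149 :=
  block_of_check (k := 8) rfl (by decide +kernel)

theorem b464 : Block F al 118784 119040 120 :=
  block_of_check (k := 8) rfl (by decide +kernel)

theorem b465 : Block F al 119040 119296 103 :=
  block_of_check (k := 8) rfl (by decide +kernel)

theorem b466 : Block F al 119296 119552 132 :=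
  block_of_check (k := 8) rfl (by decide +kernel)

theorem b467 : Block F al 119552 119808 133 :=
  block_of_check (k := 8) rfl (by decide +kernel)

theorem b468 : Block F al 119808 120064 99 :=
  block_of_check (k := 8) rfl (by decide +kernel)

theorem b469 : Block F al 120064 120320 113 :=
  block_of_check (k := 8) rfl (by decide +kernel)

theorem b470 : Block F al 120320 120576 118 :=
  block_of_check (k := 8) rfl (by decide +kernel)

theorem b471 : Block F al 120576 120832 144 :=
  block_of_check (k := 8) rfl (by decide +kernel)

theorem b472 : Block F al 120832 121088 134 :=
  block_of_check (k := 8) rfl (by decide +kernel)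

theorem b473 : Block F al 121088 121344 127 :=
  block_of_check (k := 8) rfl (by decide +kernel)

theorem b474 : Block F al 121344 121600 109 :=
  block_of_check (k := 8) rfl (by decide +kernel)

theorem b475 : Block F al 121600 121856 170 :=
  block_of_check (k := 8) rfl (by decide +kernel)

theorem b476 : Block F al 121856 122112 139 :=
  block_of_check (k := 8) rfl (by decide +kernel)

theorem b477 : Block F al 122112 122368 141 :=
  block_of_check (k := 8) rfl (by decide +kernel)

theorem b478 : Block F al 122368 122624 142 :=
  block_of_check (k := 8) rfl (by decide +kernel)

theorem b479 : Block F al 122624 122880 116 :=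
  block_of_check (k := 8) rfl (by decide +kernel)

theorem b480 : Block F al 122880 123136 136 :=
  block_of_check (k := 8) rfl (by decide +kernel)

theorem b481 : Block F al 123136 123392 104 :=
  block_of_check (k := 8) rfl (by decide +kernel)

theorem b482 : Block F al 123392 123648 82 :=
  block_of_check (k := 8) rfl (by decide +kernel)

theorem b483 : Block F al 123648 123904 76 :=
  block_of_check (k := 8) rfl (by decide +kernel)

theorem b484 : Block F al 123904 124160 148 :=
  block_of_check (k := 8) rfl (by decide +kernel)

theorem b485 : Block F al 124160 124416 90 :=
  block_of_check (k := 8) rfl (by decide +kernel)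

theorem b486 : Block F al 124416 124672 136 :=
  block_of_check (k := 8) rfl (by decide +kernel)

theorem b487 : Block F al 124672 124928 142 :=
  block_of_check (k := 8) rfl (by decide +kernel)

theorem b488 : Block F al 124928 125184 68 :=
  block_of_check (k := 8) rfl (by decide +kernel)

theorem b489 : Block F al 125184 125440 82 :=
  block_of_check (k := 8) rfl (by decide +kernel)

theorem b490 : Block F al 125440 125696 163 :=
  block_of_check (k := 8) rfl (by decide +kernel)

theorem b491 : Block F al 125696 125952 155 :=
  block_of_check (k := 8) rfl (by decide +kernel)

theorem b492 : Block F al 125952 126208 84 :=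
  block_of_check (k := 8) rfl (by decide +kernel)

theorem b493 : Block F al 126208 126464 62 :=
  block_of_check (k := 8) rfl (by decide +kernel)

theorem b494 : Block F al 126464 126720 96 :=
  block_of_check (k := 8) rfl (by decide +kernel)

theorem b495 : Block F al 126720 126976 98 :=
  block_of_check (k := 8) rfl (by decide +kernel)

theorem b496 : Block F al 126976 127232 93 :=
  block_of_check (k := 8) rfl (by decide +kernel)

theorem b497 : Block F al 127232 127488 130 :=
  block_of_check (k := 8) rfl (by decide +kernel)

theorem b498 : Block F al 127488 127744 74 :=
  block_of_check (k := 8) rfl (by decide +kernel)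

theorem b499 : Block F al 127744 128000 143 :=
  block_of_check (k := 8) rfl (by decide +kernel)

theorem b500 : Block F al 128000 128256 125 :=
  block_of_check (k := 8) rfl (by decide +kernel)

theorem b501 : Block F al 128256 128512 196 :=
  block_of_check (k := 8) rfl (by decide +kernel)

theorem b502 : Block F al 128512 128768 136 :=
  block_of_check (k := 8) rfl (by decide +kernel)

theorem b503 : Block F al 128768 129024 131 :=
  block_of_check (k := 8) rfl (by decide +kernel)

theorem b504 : Block F al 129024 129280 82 :=
  block_of_check (k := 8) rfl (by decide +kernel)

theorem b505 : Block F al 129280 129536 158 :=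
  block_of_check (k := 8) rfl (by decide +kernel)

theorem b506 : Block F al 129536 129792 118 :=
  block_of_check (k := 8) rfl (by decide +kernel)

theorem b507 : Block F al 129792 130048 160 :=
  block_of_check (k := 8) rfl (by decide +kernel)

theorem b508 : Block F al 130048 130304 170 :=
  block_of_check (k := 8) rfl (by decide +kernel)

theorem b509 : Block F al 130304 130560 151 :=
  block_of_check (k := 8) rfl (by decide +kernel)

theorem b510 : Block F al 130560 130816 154 :=
  block_of_check (k := 8) rfl (by decide +kernel)

theorem b511 : Block F al 130816 131072 159 :=
  block_of_check (k := 8) rfl (by decide +kernel)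

theorem b512 : Block F al 131072 131328 116 :=
  block_of_check (k := 8) rfl (by decide +kernel)

theorem b513 : Block F al 131328 131584 150 :=
  block_of_check (k := 8) rfl (by decide +kernel)

theorem b514 : Block F al 131584 131840 136 :=
  block_of_check (k := 8) rfl (by decide +kernel)

theorem b515 : Block F al 131840 132096 82 :=
  block_of_check (k := 8) rfl (by decide +kernel)

theorem b516 : Block F al 132096 132352 144 :=
  block_of_check (k := 8) rfl (by decide +kernel)

theorem b517 : Block F al 132352 132608 88 :=
  block_of_check (k := 8) rfl (by decide +kernel)

theorem b518 : Block F al 132608 132864 122 :=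
  block_of_check (k := 8) rfl (by decide +kernel)

theorem b519 : Block F al 132864 133120 188 :=
  block_of_check (k := 8) rfl (by decide +kernel)

theorem b520 : Block F al 133120 133376 108 :=
  block_of_check (k := 8) rfl (by decide +kernel)

theorem b521 : Block F al 133376 133632 124 :=
  block_of_check (k := 8) rfl (by decide +kernel)

theorem b522 : Block F al 133632 133888 90 :=
  block_of_check (k := 8) rfl (by decide +kernel)

theorem b523 : Block F al 133888 134144 70 :=
  block_of_check (k := 8) rfl (by decide +kernel)

theorem b524 : Block F al 134144 134400 76 :=
  block_of_check (k := 8) rfl (by decide +kernel)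

theorem b525 : Block F al 134400 134656 138 :=
  block_of_check (k := 8) rfl (by decide +kernel)

theorem b526 : Block F al 134656 134912 124 :=
  block_of_check (k := 8) rfl (by decide +kernel)

theorem b527 : Block F al 134912 135168 148 :=
  block_of_check (k := 8) rfl (by decide +kernel)

end Cfsg.Agent.TcData.HNK.R0
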