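import Mathlib
import Cfsg.Agent.TcData.HNK.R0.Tab

set_option autoImplicit false
set_option Elab.async false
set_option maxRecDepth 100000
set_option linter.all false

namespace Cfsg.Agent.TcData.HNK.R0

open Cfsg.Spor Cfsg.Agent.Lib.TcFacts Cfsg.Agent.Lib.TcBits Cfsg.Agent.Lib.TcPres Cfsg.Spor.HN Cfsg.Agent.TcData.HNK

theorem b528 : Block F al 135168 135424 164 :=
  block_of_check (k := 8) rfl (by decide +kernel)

theorem b529 : Block F al 135424 135680 107 :=
  block_of_check (k := 8) rfl (by decide +kernel)

theorem b530 : Block F al 135680 135936 123 :=
  block_of_check (k := 8) rfl (by decide +kernel)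

theorem b531 : Block F al 135936 136192 117 :=
  block_of_check (k := 8) rfl (by decide +kernel)

theorem b532 : Block F al 136192 136448 117 :=
  block_of_check (k := 8) rfl (by decide +kernel)

theorem b533 : Block F al 136448 136704 152 :=
  block_of_check (k := 8) rfl (by decide +kernel)

theorem b534 : Block F al 136704 136960 82 :=
  block_of_check (k := 8) rfl (by decide +kernel)

theorem b535 : Block F al 136960 137216 131 :=
  block_of_check (k := 8) rfl (by decide +kernel)

theorem b536 : Block F al 137216 137472 87 :=
  block_of_check (k := 8) rfl (by decide +kernel)

theorem b537 : Block F al 137472 137728 134 :=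
  block_of_check (k := 8) rfl (by decide +kernel)

theorem b538 : Block F al 137728 137984 156 :=
  block_of_check (k := 8) rfl (by decide +kernel)

theorem b539 : Block F al 137984 138240 168 :=
  block_of_check (k := 8) rfl (by decide +kernel)

theorem b540 : Block F al 138240 138496 178 :=
  block_of_check (k := 8) rfl (by decide +kernel)

theorem b541 : Block F al 138496 138752 146 :=
  block_of_check (k := 8) rfl (by decide +kernel)

theorem b542 : Block F al 138752 139008 104 :=
  block_of_check (k := 8) rfl (by decide +kernel)

theorem b543 : Block F al 139008 139264 130 :=
  block_of_check (k := 8) rfl (by decide +kernel)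

theorem b544 : Block F al 139264 139520 127 :=
  block_of_check (k := 8) rfl (by decide +kernel)

theorem b545 : Block F al 139520 139776 137 :=
  block_of_check (k := 8) rfl (by decide +kernel)

theorem b546 : Block F al 139776 140032 105 :=
  block_of_check (k := 8) rfl (by decide +kernel)

theorem b547 : Block F al 140032 140288 88 :=
  block_of_check (k := 8) rfl (by decide +kernel)

theorem b548 : Block F al 140288 140544 113 :=
  block_of_check (k := 8) rfl (by decide +kernel)

theorem b549 : Block F al 140544 140800 62 :=
  block_of_check (k := 8) rfl (by decide +kernel)

theorem b550 : Block F al 140800 141056 104 :=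
  block_of_check (k := 8) rfl (by decide +kernel)

theorem b551 : Block F al 141056 141312 137 :=
  block_of_check (k := 8) rfl (by decide +kernel)

theorem b552 : Block F al 141312 141568 171 :=
  block_of_check (k := 8) rfl (by decide +kernel)

theorem b553 : Block F al 141568 141824 169 :=
  block_of_check (k := 8) rfl (by decide +kernel)

theorem b554 : Block F al 141824 142080 154 :=
  block_of_check (k := 8) rfl (by decide +kernel)

theorem b555 : Block F al 142080 142336 121 :=
  block_of_check (k := 8) rfl (by decide +kernel)

theorem b556 : Block F al 142336 142592 108 :=
  block_of_check (k := 8) rfl (by decide +kernel)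

theorem b557 : Block F al 142592 142848 153 :=
  block_of_check (k := 8) rfl (by decide +kernel)

theorem b558 : Block F al 142848 143104 187 :=
  block_of_check (k := 8) rfl (by decide +kernel)

theorem b559 : Block F al 143104 143360 114 :=
  block_of_check (k := 8) rfl (by decide +kernel)

theorem b560 : Block F al 143360 143616 126 :=
  block_of_check (k := 8) rfl (by decide +kernel)

theorem b561 : Block F al 143616 143872 144 :=
  block_of_check (k := 8) rfl (by decide +kernel)

theorem b562 : Block F al 143872 144128 111 :=
  block_of_check (k := 8) rfl (by decide +kernel)

theorem b563 : Block F al 144128 144384 166 :=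
  block_of_check (k := 8) rfl (by decide +kernel)

theorem b564 : Block F al 144384 144640 139 :=
  block_of_check (k := 8) rfl (by decide +kernel)

theorem b565 : Block F al 144640 144896 138 :=
  block_of_check (k := 8) rfl (by decide +kernel)

theorem b566 : Block F al 144896 145152 136 :=
  block_of_check (k := 8) rfl (by decide +kernel)

theorem b567 : Block F al 145152 145408 86 :=
  block_of_check (k := 8) rfl (by decide +kernel)

theorem b568 : Block F al 145408 145664 102 :=
  block_of_check (k := 8) rfl (by decide +kernel)

theorem b569 : Block F al 145664 145920 118 :=
  block_of_check (k := 8) rfl (by decide +kernel)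

theorem b570 : Block F al 145920 146176 106 :=
  block_of_check (k := 8) rfl (by decide +kernel)

theorem b571 : Block F al 146176 146432 174 :=
  block_of_check (k := 8) rfl (by decide +kernel)

theorem b572 : Block F al 146432 146688 149 :=
  block_of_check (k := 8) rfl (by decide +kernel)

theorem b573 : Block F al 146688 146944 114 :=
  block_of_check (k := 8) rfl (by decide +kernel)

theorem b574 : Block F al 146944 147200 146 :=
  block_of_check (k := 8) rfl (by decide +kernel)

theorem b575 : Block F al 147200 147456 121 :=
  block_of_check (k := 8) rfl (by decide +kernel)

theorem b576 : Block F al 147456 147712 65 :=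
  block_of_check (k := 8) rfl (by decide +kernel)

theorem b577 : Block F al 147712 147968 113 :=
  block_of_check (k := 8) rfl (by decide +kernel)

theorem b578 : Block F al 147968 148224 155 :=
  block_of_check (k := 8) rfl (by decide +kernel)

theorem b579 : Block F al 148224 148480 152 :=
  block_of_check (k := 8) rfl (by decide +kernel)

theorem b580 : Block F al 148480 148736 150 :=
  block_of_check (k := 8) rfl (by decide +kernel)

theorem b581 : Block F al 148736 148992 108 :=
  block_of_check (k := 8) rfl (by decide +kernel)

theorem b582 : Block F al 148992 149248 131 :=
  block_of_check (k := 8) rfl (by decide +kernel)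

theorem b583 : Block F al 149248 149504 80 :=
  block_of_check (k := 8) rfl (by decide +kernel)

theorem b584 : Block F al 149504 149760 163 :=
  block_of_check (k := 8) rfl (by decide +kernel)

theorem b585 : Block F al 149760 150016 125 :=
  block_of_check (k := 8) rfl (by decide +kernel)

theorem b586 : Block F al 150016 150272 80 :=
  block_of_check (k := 8) rfl (by decide +kernel)

theorem b587 : Block F al 150272 150528 97 :=
  block_of_check (k := 8) rfl (by decide +kernel)

theorem b588 : Block F al 150528 150784 135 :=
  block_of_check (k := 8) rfl (by decide +kernel)

theorem b589 : Block F al 150784 151040 126 :=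
  block_of_check (k := 8) rfl (by decide +kernel)

theorem b590 : Block F al 151040 151296 142 :=
  block_of_check (k := 8) rfl (by decide +kernel)

theorem b591 : Block F al 151296 151552 115 :=
  block_of_check (k := 8) rfl (by decide +kernel)

theorem b592 : Block F al 151552 151808 45 :=
  block_of_check (k := 8) rfl (by decide +kernel)

theorem b593 : Block F al 151808 152064 110 :=
  block_of_check (k := 8) rfl (by decide +kernel)

theorem b594 : Block F al 152064 152320 71 :=
  block_of_check (k := 8) rfl (by decide +kernel)

theorem b595 : Block F al 152320 152576 97 :=
  block_of_check (k := 8) rfl (by decide +kernel)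

theorem b596 : Block F al 152576 152832 145 :=
  block_of_check (k := 8) rfl (by decide +kernel)

theorem b597 : Block F al 152832 153088 109 :=
  block_of_check (k := 8) rfl (by decide +kernel)

theorem b598 : Block F al 153088 153344 144 :=
  block_of_check (k := 8) rfl (by decide +kernel)

theorem b599 : Block F al 153344 153600 106 :=
  block_of_check (k := 8) rfl (by decide +kernel)

theorem b600 : Block F al 153600 153856 167 :=
  block_of_check (k := 8) rfl (by decide +kernel)

theorem b601 : Block F al 153856 154112 109 :=
  block_of_check (k := 8) rfl (by decide +kernel)

theorem b602 : Block F al 154112 154368 150 :=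
  block_of_check (k := 8) rfl (by decide +kernel)

theorem b603 : Block F al 154368 154624 52 :=
  block_of_check (k := 8) rfl (by decide +kernel)

theorem b604 : Block F al 154624 154880 158 :=
  block_of_check (k := 8) rfl (by decide +kernel)

theorem b605 : Block F al 154880 155136 122 :=
  block_of_check (k := 8) rfl (by decide +kernel)

theorem b606 : Block F al 155136 155392 152 :=
  block_of_check (k := 8) rfl (by decide +kernel)

theorem b607 : Block F al 155392 155648 116 :=
  block_of_check (k := 8) rfl (by decide +kernel)

theorem b608 : Block F al 155648 155904 68 :=
  block_of_check (k := 8) rfl (by decide +kernel)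

theorem b609 : Block F al 155904 156160 96 :=
  block_of_check (k := 8) rfl (by decide +kernel)

theorem b610 : Block F al 156160 156416 118 :=
  block_of_check (k := 8) rfl (by decide +kernel)

theorem b611 : Block F al 156416 156672 131 :=
  block_of_check (k := 8) rfl (by decide +kernel)

theorem b612 : Block F al 156672 156928 93 :=
  block_of_check (k := 8) rfl (by decide +kernel)

end Cfsg.Agent.TcData.HNK.R0
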