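import Mathlib
import Cfsg.Agent.TcData.HNK.R0.Tab

set_option autoImplicit false
set_option Elab.async false
set_option maxRecDepth 100000
set_option linter.all false

namespace Cfsg.Agent.TcData.HNK.R0

open Cfsg.Spor Cfsg.Agent.Lib.TcFacts Cfsg.Agent.Lib.TcBits Cfsg.Agent.Lib.TcPres Cfsg.Spor.HN Cfsg.Agent.TcData.HNK

theorem b613 : Block F al 156928 157184 86 :=
  block_of_check (k := 8) rfl (by decide +kernel)

theorem b614 : Block F al 157184 157440 90 :=
  block_of_check (k := 8) rfl (by decide +kernel)

theorem b615 : Block F al 157440 157696 120 :=
  block_of_check (k := 8) rfl (by decide +kernel)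

theorem b616 : Block F al 157696 157952 151 :=
  block_of_check (k := 8) rfl (by decide +kernel)

theorem b617 : Block F al 157952 158208 125 :=
  block_of_check (k := 8) rfl (by decide +kernel)

theorem b618 : Block F al 158208 158464 96 :=
  block_of_check (k := 8) rfl (by decide +kernel)

theorem b619 : Block F al 158464 158720 134 :=
  block_of_check (k := 8) rfl (by decide +kernel)

theorem b620 : Block F al 158720 158976 90 :=
  block_of_check (k := 8) rfl (by decide +kernel)

theorem b621 : Block F al 158976 159232 79 :=
  block_of_check (k := 8) rfl (by decide +kernel)

theorem b622 : Block F al 159232 159488 85 :=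
  block_of_check (k := 8) rfl (by decide +kernel)

theorem b623 : Block F al 159488 159744 88 :=
  block_of_check (k := 8) rfl (by decide +kernel)

theorem b624 : Block F al 159744 160000 124 :=
  block_of_check (k := 8) rfl (by decide +kernel)

theorem b625 : Block F al 160000 160256 135 :=
  block_of_check (k := 8) rfl (by decide +kernel)

theorem b626 : Block F al 160256 160512 135 :=
  block_of_check (k := 8) rfl (by decide +kernel)

theorem b627 : Block F al 160512 160768 86 :=
  block_of_check (k := 8) rfl (by decide +kernel)

theorem b628 : Block F al 160768 161024 96 :=
  block_of_check (k := 8) rfl (by decide +kernel)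

theorem b629 : Block F al 161024 161280 78 :=
  block_of_check (k := 8) rfl (by decide +kernel)

theorem b630 : Block F al 161280 161536 108 :=
  block_of_check (k := 8) rfl (by decide +kernel)

theorem b631 : Block F al 161536 161792 51 :=
  block_of_check (k := 8) rfl (by decide +kernel)

theorem b632 : Block F al 161792 162048 109 :=
  block_of_check (k := 8) rfl (by decide +kernel)

theorem b633 : Block F al 162048 162304 144 :=
  block_of_check (k := 8) rfl (by decide +kernel)

theorem b634 : Block F al 162304 162560 178 :=
  block_of_check (k := 8) rfl (by decide +kernel)

theorem b635 : Block F al 162560 162816 150 :=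
  block_of_check (k := 8) rfl (by decide +kernel)

theorem b636 : Block F al 162816 163072 120 :=
  block_of_check (k := 8) rfl (by decide +kernel)

theorem b637 : Block F al 163072 163328 98 :=
  block_of_check (k := 8) rfl (by decide +kernel)

theorem b638 : Block F al 163328 163584 104 :=
  block_of_check (k := 8) rfl (by decide +kernel)

theorem b639 : Block F al 163584 163840 92 :=
  block_of_check (k := 8) rfl (by decide +kernel)

theorem b640 : Block F al 163840 164096 156 :=
  block_of_check (k := 8) rfl (by decide +kernel)

theorem b641 : Block F al 164096 164352 95 :=
  block_of_check (k := 8) rfl (by decide +kernel)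

theorem b642 : Block F al 164352 164608 141 :=
  block_of_check (k := 8) rfl (by decide +kernel)

theorem b643 : Block F al 164608 164864 129 :=
  block_of_check (k := 8) rfl (by decide +kernel)

theorem b644 : Block F al 164864 165120 133 :=
  block_of_check (k := 8) rfl (by decide +kernel)

theorem b645 : Block F al 165120 165376 112 :=
  block_of_check (k := 8) rfl (by decide +kernel)

theorem b646 : Block F al 165376 165632 104 :=
  block_of_check (k := 8) rfl (by decide +kernel)

theorem b647 : Block F al 165632 165888 88 :=
  block_of_check (k := 8) rfl (by decide +kernel)

theorem b648 : Block F al 165888 166144 72 :=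
  block_of_check (k := 8) rfl (by decide +kernel)

theorem b649 : Block F al 166144 166400 132 :=
  block_of_check (k := 8) rfl (by decide +kernel)

theorem b650 : Block F al 166400 166656 85 :=
  block_of_check (k := 8) rfl (by decide +kernel)

theorem b651 : Block F al 166656 166912 70 :=
  block_of_check (k := 8) rfl (by decide +kernel)

theorem b652 : Block F al 166912 167168 107 :=
  block_of_check (k := 8) rfl (by decide +kernel)

theorem b653 : Block F al 167168 167424 115 :=
  block_of_check (k := 8) rfl (by decide +kernel)

theorem b654 : Block F al 167424 167680 153 :=
  block_of_check (k := 8) rfl (by decide +kernel)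

theorem b655 : Block F al 167680 167936 104 :=
  block_of_check (k := 8) rfl (by decide +kernel)

theorem b656 : Block F al 167936 168192 121 :=
  block_of_check (k := 8) rfl (by decide +kernel)

theorem b657 : Block F al 168192 168448 81 :=
  block_of_check (k := 8) rfl (by decide +kernel)

theorem b658 : Block F al 168448 168704 98 :=
  block_of_check (k := 8) rfl (by decide +kernel)

theorem b659 : Block F al 168704 168960 74 :=
  block_of_check (k := 8) rfl (by decide +kernel)

theorem b660 : Block F al 168960 169216 107 :=
  block_of_check (k := 8) rfl (by decide +kernel)

theorem b661 : Block F al 169216 169472 101 :=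
  block_of_check (k := 8) rfl (by decide +kernel)

theorem b662 : Block F al 169472 169728 75 :=
  block_of_check (k := 8) rfl (by decide +kernel)

theorem b663 : Block F al 169728 169984 113 :=
  block_of_check (k := 8) rfl (by decide +kernel)

theorem b664 : Block F al 169984 170240 98 :=
  block_of_check (k := 8) rfl (by decide +kernel)

theorem b665 : Block F al 170240 170496 96 :=
  block_of_check (k := 8) rfl (by decide +kernel)

theorem b666 : Block F al 170496 170752 56 :=
  block_of_check (k := 8) rfl (by decide +kernel)

theorem b667 : Block F al 170752 171008 82 :=
  block_of_check (k := 8) rfl (by decide +kernel)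

theorem b668 : Block F al 171008 171264 96 :=
  block_of_check (k := 8) rfl (by decide +kernel)

theorem b669 : Block F al 171264 171520 76 :=
  block_of_check (k := 8) rfl (by decide +kernel)

theorem b670 : Block F al 171520 171776 76 :=
  block_of_check (k := 8) rfl (by decide +kernel)

theorem b671 : Block F al 171776 172032 70 :=
  block_of_check (k := 8) rfl (by decide +kernel)

theorem b672 : Block F al 172032 172288 97 :=
  block_of_check (k := 8) rfl (by decide +kernel)

theorem b673 : Block F al 172288 172544 110 :=
  block_of_check (k := 8) rfl (by decide +kernel)

theorem b674 : Block F al 172544 172800 137 :=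
  block_of_check (k := 8) rfl (by decide +kernel)

theorem b675 : Block F al 172800 173056 102 :=
  block_of_check (k := 8) rfl (by decide +kernel)

theorem b676 : Block F al 173056 173312 74 :=
  block_of_check (k := 8) rfl (by decide +kernel)

theorem b677 : Block F al 173312 173568 152 :=
  block_of_check (k := 8) rfl (by decide +kernel)

theorem b678 : Block F al 173568 173824 120 :=
  block_of_check (k := 8) rfl (by decide +kernel)

theorem b679 : Block F al 173824 174080 145 :=
  block_of_check (k := 8) rfl (by decide +kernel)

theorem b680 : Block F al 174080 174336 119 :=
  block_of_check (k := 8) rfl (by decide +kernel)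

theorem b681 : Block F al 174336 174592 146 :=
  block_of_check (k := 8) rfl (by decide +kernel)

theorem b682 : Block F al 174592 174848 110 :=
  block_of_check (k := 8) rfl (by decide +kernel)

theorem b683 : Block F al 174848 175104 136 :=
  block_of_check (k := 8) rfl (by decide +kernel)

theorem b684 : Block F al 175104 175360 88 :=
  block_of_check (k := 8) rfl (by decide +kernel)

theorem b685 : Block F al 175360 175616 105 :=
  block_of_check (k := 8) rfl (by decide +kernel)

theorem b686 : Block F al 175616 175872 119 :=
  block_of_check (k := 8) rfl (by decide +kernel)

theorem b687 : Block F al 175872 176128 78 :=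
  block_of_check (k := 8) rfl (by decide +kernel)

theorem b688 : Block F al 176128 176384 122 :=
  block_of_check (k := 8) rfl (by decide +kernel)

theorem b689 : Block F al 176384 176640 156 :=
  block_of_check (k := 8) rfl (by decide +kernel)

theorem b690 : Block F al 176640 176896 94 :=
  block_of_check (k := 8) rfl (by decide +kernel)

theorem b691 : Block F al 176896 177152 94 :=
  block_of_check (k := 8) rfl (by decide +kernel)

theorem b692 : Block F al 177152 177408 116 :=
  block_of_check (k := 8) rfl (by decide +kernel)

theorem b693 : Block F al 177408 177664 124 :=
  block_of_check (k := 8) rfl (by decide +kernel)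

theorem b694 : Block F al 177664 177920 135 :=
  block_of_check (k := 8) rfl (by decide +kernel)

theorem b695 : Block F al 177920 178176 49 :=
  block_of_check (k := 8) rfl (by decide +kernel)

end Cfsg.Agent.TcData.HNK.R0
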