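import Mathlib
import Cfsg.Agent.TcData.HNK.R0.Tab

set_option autoImplicit false
set_option Elab.async false
set_option maxRecDepth 100000
set_option linter.all false

namespace Cfsg.Agent.TcData.HNK.R0

open Cfsg.Spor Cfsg.Agent.Lib.TcFacts Cfsg.Agent.Lib.TcBits Cfsg.Agent.Lib.TcPres Cfsg.Spor.HN Cfsg.Agent.TcData.HNK

theorem b696 : Block F al 178176 178432 107 :=
  block_of_check (k := 8) rfl (by decide +kernel)

theorem b697 : Block F al 178432 178688 121 :=
  block_of_check (k := 8) rfl (by decide +kernel)

theorem b698 : Block F al 178688 178944 116 :=
  block_of_check (k := 8) rfl (by decide +kernel)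

theorem b699 : Block F al 178944 179200 117 :=
  block_of_check (k := 8) rfl (by decide +kernel)

theorem b700 : Block F al 179200 179456 69 :=
  block_of_check (k := 8) rfl (by decide +kernel)

theorem b701 : Block F al 179456 179712 142 :=
  block_of_check (k := 8) rfl (by decide +kernel)

theorem b702 : Block F al 179712 179968 80 :=
  block_of_check (k := 8) rfl (by decide +kernel)

theorem b703 : Block F al 179968 180224 44 :=
  block_of_check (k := 8) rfl (by decide +kernel)

theorem b704 : Block F al 180224 180480 150 :=
  block_of_check (k := 8) rfl (by decide +kernel)

theorem b705 : Block F al 180480 180736 93 :=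
  block_of_check (k := 8) rfl (by decide +kernel)

theorem b706 : Block F al 180736 180992 91 :=
  block_of_check (k := 8) rfl (by decide +kernel)

theorem b707 : Block F al 180992 181248 129 :=
  block_of_check (k := 8) rfl (by decide +kernel)

theorem b708 : Block F al 181248 181504 115 :=
  block_of_check (k := 8) rfl (by decide +kernel)

theorem b709 : Block F al 181504 181760 90 :=
  block_of_check (k := 8) rfl (by decide +kernel)

theorem b710 : Block F al 181760 182016 48 :=
  block_of_check (k := 8) rfl (by decide +kernel)

theorem b711 : Block F al 182016 182272 94 :=
  block_of_check (k := 8) rfl (by decide +kernel)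

theorem b712 : Block F al 182272 182528 72 :=
  block_of_check (k := 8) rfl (by decide +kernel)

theorem b713 : Block F al 182528 182784 62 :=
  block_of_check (k := 8) rfl (by decide +kernel)

theorem b714 : Block F al 182784 183040 58 :=
  block_of_check (k := 8) rfl (by decide +kernel)

theorem b715 : Block F al 183040 183296 70 :=
  block_of_check (k := 8) rfl (by decide +kernel)

theorem b716 : Block F al 183296 183552 114 :=
  block_of_check (k := 8) rfl (by decide +kernel)

theorem b717 : Block F al 183552 183808 71 :=
  block_of_check (k := 8) rfl (by decide +kernel)

theorem b718 : Block F al 183808 184064 112 :=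
  block_of_check (k := 8) rfl (by decide +kernel)

theorem b719 : Block F al 184064 184320 105 :=
  block_of_check (k := 8) rfl (by decide +kernel)

theorem b720 : Block F al 184320 184576 135 :=
  block_of_check (k := 8) rfl (by decide +kernel)

theorem b721 : Block F al 184576 184832 112 :=
  block_of_check (k := 8) rfl (by decide +kernel)

theorem b722 : Block F al 184832 185088 107 :=
  block_of_check (k := 8) rfl (by decide +kernel)

theorem b723 : Block F al 185088 185344 134 :=
  block_of_check (k := 8) rfl (by decide +kernel)

theorem b724 : Block F al 185344 185600 146 :=
  block_of_check (k := 8) rfl (by decide +kernel)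

theorem b725 : Block F al 185600 185856 142 :=
  block_of_check (k := 8) rfl (by decide +kernel)

theorem b726 : Block F al 185856 186112 89 :=
  block_of_check (k := 8) rfl (by decide +kernel)

theorem b727 : Block F al 186112 186368 107 :=
  block_of_check (k := 8) rfl (by decide +kernel)

theorem b728 : Block F al 186368 186624 114 :=
  block_of_check (k := 8) rfl (by decide +kernel)

theorem b729 : Block F al 186624 186880 97 :=
  block_of_check (k := 8) rfl (by decide +kernel)

theorem b730 : Block F al 186880 187136 77 :=
  block_of_check (k := 8) rfl (by decide +kernel)

theorem b731 : Block F al 187136 187392 62 :=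
  block_of_check (k := 8) rfl (by decide +kernel)

theorem b732 : Block F al 187392 187648 78 :=
  block_of_check (k := 8) rfl (by decide +kernel)

theorem b733 : Block F al 187648 187904 68 :=
  block_of_check (k := 8) rfl (by decide +kernel)

theorem b734 : Block F al 187904 188160 67 :=
  block_of_check (k := 8) rfl (by decide +kernel)

theorem b735 : Block F al 188160 188416 43 :=
  block_of_check (k := 8) rfl (by decide +kernel)

theorem b736 : Block F al 188416 188672 112 :=
  block_of_check (k := 8) rfl (by decide +kernel)

theorem b737 : Block F al 188672 188928 99 :=
  block_of_check (k := 8) rfl (by decide +kernel)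

theorem b738 : Block F al 188928 189184 105 :=
  block_of_check (k := 8) rfl (by decide +kernel)

theorem b739 : Block F al 189184 189440 36 :=
  block_of_check (k := 8) rfl (by decide +kernel)

theorem b740 : Block F al 189440 189696 86 :=
  block_of_check (k := 8) rfl (by decide +kernel)

theorem b741 : Block F al 189696 189952 145 :=
  block_of_check (k := 8) rfl (by decide +kernel)

theorem b742 : Block F al 189952 190208 145 :=
  block_of_check (k := 8) rfl (by decide +kernel)

theorem b743 : Block F al 190208 190464 94 :=
  block_of_check (k := 8) rfl (by decide +kernel)

theorem b744 : Block F al 190464 190720 29 :=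
  block_of_check (k := 8) rfl (by decide +kernel)

theorem b745 : Block F al 190720 190976 63 :=
  block_of_check (k := 8) rfl (by decide +kernel)

theorem b746 : Block F al 190976 191232 70 :=
  block_of_check (k := 8) rfl (by decide +kernel)

theorem b747 : Block F al 191232 191488 76 :=
  block_of_check (k := 8) rfl (by decide +kernel)

theorem b748 : Block F al 191488 191744 141 :=
  block_of_check (k := 8) rfl (by decide +kernel)

theorem b749 : Block F al 191744 192000 77 :=
  block_of_check (k := 8) rfl (by decide +kernel)

theorem b750 : Block F al 192000 192256 96 :=
  block_of_check (k := 8) rfl (by decide +kernel)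

theorem b751 : Block F al 192256 192512 110 :=
  block_of_check (k := 8) rfl (by decide +kernel)

theorem b752 : Block F al 192512 192768 84 :=
  block_of_check (k := 8) rfl (by decide +kernel)

theorem b753 : Block F al 192768 193024 156 :=
  block_of_check (k := 8) rfl (by decide +kernel)

theorem b754 : Block F al 193024 193280 124 :=
  block_of_check (k := 8) rfl (by decide +kernel)

theorem b755 : Block F al 193280 193536 118 :=
  block_of_check (k := 8) rfl (by decide +kernel)

theorem b756 : Block F al 193536 193792 138 :=
  block_of_check (k := 8) rfl (by decide +kernel)

theorem b757 : Block F al 193792 194048 100 :=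
  block_of_check (k := 8) rfl (by decide +kernel)

theorem b758 : Block F al 194048 194304 76 :=
  block_of_check (k := 8) rfl (by decide +kernel)

theorem b759 : Block F al 194304 194560 65 :=
  block_of_check (k := 8) rfl (by decide +kernel)

theorem b760 : Block F al 194560 194816 35 :=
  block_of_check (k := 8) rfl (by decide +kernel)

theorem b761 : Block F al 194816 195072 86 :=
  block_of_check (k := 8) rfl (by decide +kernel)

theorem b762 : Block F al 195072 195328 66 :=
  block_of_check (k := 8) rfl (by decide +kernel)

theorem b763 : Block F al 195328 195584 74 :=
  block_of_check (k := 8) rfl (by decide +kernel)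

theorem b764 : Block F al 195584 195840 62 :=
  block_of_check (k := 8) rfl (by decide +kernel)

theorem b765 : Block F al 195840 196096 46 :=
  block_of_check (k := 8) rfl (by decide +kernel)

theorem b766 : Block F al 196096 196352 99 :=
  block_of_check (k := 8) rfl (by decide +kernel)

theorem b767 : Block F al 196352 196608 97 :=
  block_of_check (k := 8) rfl (by decide +kernel)

theorem b768 : Block F al 196608 196864 90 :=
  block_of_check (k := 8) rfl (by decide +kernel)

theorem b769 : Block F al 196864 197120 52 :=
  block_of_check (k := 8) rfl (by decide +kernel)

theorem b770 : Block F al 197120 197376 86 :=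
  block_of_check (k := 8) rfl (by decide +kernel)

theorem b771 : Block F al 197376 197632 136 :=
  block_of_check (k := 8) rfl (by decide +kernel)

theorem b772 : Block F al 197632 197888 106 :=
  block_of_check (k := 8) rfl (by decide +kernel)

theorem b773 : Block F al 197888 198144 180 :=
  block_of_check (k := 8) rfl (by decide +kernel)

theorem b774 : Block F al 198144 198400 98 :=
  block_of_check (k := 8) rfl (by decide +kernel)

theorem b775 : Block F al 198400 198656 118 :=
  block_of_check (k := 8) rfl (by decide +kernel)

theorem b776 : Block F al 198656 198912 62 :=
  block_of_check (k := 8) rfl (by decide +kernel)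

theorem b777 : Block F al 198912 199168 90 :=
  block_of_check (k := 8) rfl (by decide +kernel)

theorem b778 : Block F al 199168 199424 66 :=
  block_of_check (k := 8) rfl (by decide +kernel)

end Cfsg.Agent.TcData.HNK.R0
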