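import Mathlib
import Cfsg.Agent.TcData.HNK.R0.Tab

set_option autoImplicit false
set_option Elab.async false
set_option maxRecDepth 100000
set_option linter.all false

namespace Cfsg.Agent.TcData.HNK.R0

open Cfsg.Spor Cfsg.Agent.Lib.TcFacts Cfsg.Agent.Lib.TcBits Cfsg.Agent.Lib.TcPres Cfsg.Spor.HN Cfsg.Agent.TcData.HNK

theorem b779 : Block F al 199424 199680 104 :=
  block_of_check (k := 8) rfl (by decide +kernel)

theorem b780 : Block F al 199680 199936 95 :=
  block_of_check (k := 8) rfl (by decide +kernel)

theorem b781 : Block F al 199936 200192 125 :=
  block_of_check (k := 8) rfl (by decide +kernel)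

theorem b782 : Block F al 200192 200448 44 :=
  block_of_check (k := 8) rfl (by decide +kernel)

theorem b783 : Block F al 200448 200704 78 :=
  block_of_check (k := 8) rfl (by decide +kernel)

theorem b784 : Block F al 200704 200960 85 :=
  block_of_check (k := 8) rfl (by decide +kernel)

theorem b785 : Block F al 200960 201216 45 :=
  block_of_check (k := 8) rfl (by decide +kernel)

theorem b786 : Block F al 201216 201472 89 :=
  block_of_check (k := 8) rfl (by decide +kernel)

theorem b787 : Block F al 201472 201728 95 :=
  block_of_check (k := 8) rfl (by decide +kernel)

theorem b788 : Block F al 201728 201984 127 :=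
  block_of_check (k := 8) rfl (by decide +kernel)

theorem b789 : Block F al 201984 202240 89 :=
  block_of_check (k := 8) rfl (by decide +kernel)

theorem b790 : Block F al 202240 202496 72 :=
  block_of_check (k := 8) rfl (by decide +kernel)

theorem b791 : Block F al 202496 202752 114 :=
  block_of_check (k := 8) rfl (by decide +kernel)

theorem b792 : Block F al 202752 203008 116 :=
  block_of_check (k := 8) rfl (by decide +kernel)

theorem b793 : Block F al 203008 203264 59 :=
  block_of_check (k := 8) rfl (by decide +kernel)

theorem b794 : Block F al 203264 203520 132 :=
  block_of_check (k := 8) rfl (by decide +kernel)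

theorem b795 : Block F al 203520 203776 115 :=
  block_of_check (k := 8) rfl (by decide +kernel)

theorem b796 : Block F al 203776 204032 94 :=
  block_of_check (k := 8) rfl (by decide +kernel)

theorem b797 : Block F al 204032 204288 105 :=
  block_of_check (k := 8) rfl (by decide +kernel)

theorem b798 : Block F al 204288 204544 63 :=
  block_of_check (k := 8) rfl (by decide +kernel)

theorem b799 : Block F al 204544 204800 88 :=
  block_of_check (k := 8) rfl (by decide +kernel)

theorem b800 : Block F al 204800 205056 132 :=
  block_of_check (k := 8) rfl (by decide +kernel)

theorem b801 : Block F al 205056 205312 68 :=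
  block_of_check (k := 8) rfl (by decide +kernel)

theorem b802 : Block F al 205312 205568 56 :=
  block_of_check (k := 8) rfl (by decide +kernel)

theorem b803 : Block F al 205568 205824 98 :=
  block_of_check (k := 8) rfl (by decide +kernel)

theorem b804 : Block F al 205824 206080 62 :=
  block_of_check (k := 8) rfl (by decide +kernel)

theorem b805 : Block F al 206080 206336 117 :=
  block_of_check (k := 8) rfl (by decide +kernel)

theorem b806 : Block F al 206336 206592 17 :=
  block_of_check (k := 8) rfl (by decide +kernel)

theorem b807 : Block F al 206592 206848 41 :=
  block_of_check (k := 8) rfl (by decide +kernel)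

theorem b808 : Block F al 206848 207104 77 :=
  block_of_check (k := 8) rfl (by decide +kernel)

theorem b809 : Block F al 207104 207360 148 :=
  block_of_check (k := 8) rfl (by decide +kernel)

theorem b810 : Block F al 207360 207616 40 :=
  block_of_check (k := 8) rfl (by decide +kernel)

theorem b811 : Block F al 207616 207872 62 :=
  block_of_check (k := 8) rfl (by decide +kernel)

theorem b812 : Block F al 207872 208128 88 :=
  block_of_check (k := 8) rfl (by decide +kernel)

theorem b813 : Block F al 208128 208384 100 :=
  block_of_check (k := 8) rfl (by decide +kernel)

theorem b814 : Block F al 208384 208640 116 :=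
  block_of_check (k := 8) rfl (by decide +kernel)

theorem b815 : Block F al 208640 208896 28 :=
  block_of_check (k := 8) rfl (by decide +kernel)

theorem b816 : Block F al 208896 209152 68 :=
  block_of_check (k := 8) rfl (by decide +kernel)

theorem b817 : Block F al 209152 209408 68 :=
  block_of_check (k := 8) rfl (by decide +kernel)

theorem b818 : Block F al 209408 209664 98 :=
  block_of_check (k := 8) rfl (by decide +kernel)

theorem b819 : Block F al 209664 209920 134 :=
  block_of_check (k := 8) rfl (by decide +kernel)

theorem b820 : Block F al 209920 210176 114 :=
  block_of_check (k := 8) rfl (by decide +kernel)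

theorem b821 : Block F al 210176 210432 66 :=
  block_of_check (k := 8) rfl (by decide +kernel)

theorem b822 : Block F al 210432 210688 78 :=
  block_of_check (k := 8) rfl (by decide +kernel)

theorem b823 : Block F al 210688 210944 60 :=
  block_of_check (k := 8) rfl (by decide +kernel)

theorem b824 : Block F al 210944 211200 29 :=
  block_of_check (k := 8) rfl (by decide +kernel)

theorem b825 : Block F al 211200 211456 65 :=
  block_of_check (k := 8) rfl (by decide +kernel)

theorem b826 : Block F al 211456 211712 91 :=
  block_of_check (k := 8) rfl (by decide +kernel)

theorem b827 : Block F al 211712 211968 31 :=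
  block_of_check (k := 8) rfl (by decide +kernel)

theorem b828 : Block F al 211968 212224 61 :=
  block_of_check (k := 8) rfl (by decide +kernel)

theorem b829 : Block F al 212224 212480 113 :=
  block_of_check (k := 8) rfl (by decide +kernel)

theorem b830 : Block F al 212480 212736 102 :=
  block_of_check (k := 8) rfl (by decide +kernel)

theorem b831 : Block F al 212736 212992 62 :=
  block_of_check (k := 8) rfl (by decide +kernel)

theorem b832 : Block F al 212992 213248 64 :=
  block_of_check (k := 8) rfl (by decide +kernel)

theorem b833 : Block F al 213248 213504 93 :=
  block_of_check (k := 8) rfl (by decide +kernel)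

theorem b834 : Block F al 213504 213760 69 :=
  block_of_check (k := 8) rfl (by decide +kernel)

theorem b835 : Block F al 213760 214016 132 :=
  block_of_check (k := 8) rfl (by decide +kernel)

theorem b836 : Block F al 214016 214272 152 :=
  block_of_check (k := 8) rfl (by decide +kernel)

theorem b837 : Block F al 214272 214528 124 :=
  block_of_check (k := 8) rfl (by decide +kernel)

theorem b838 : Block F al 214528 214784 97 :=
  block_of_check (k := 8) rfl (by decide +kernel)

theorem b839 : Block F al 214784 215040 114 :=
  block_of_check (k := 8) rfl (by decide +kernel)

theorem b840 : Block F al 215040 215296 61 :=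
  block_of_check (k := 8) rfl (by decide +kernel)

theorem b841 : Block F al 215296 215552 56 :=
  block_of_check (k := 8) rfl (by decide +kernel)

theorem b842 : Block F al 215552 215808 77 :=
  block_of_check (k := 8) rfl (by decide +kernel)

theorem b843 : Block F al 215808 216064 123 :=
  block_of_check (k := 8) rfl (by decide +kernel)

theorem b844 : Block F al 216064 216320 88 :=
  block_of_check (k := 8) rfl (by decide +kernel)

theorem b845 : Block F al 216320 216576 115 :=
  block_of_check (k := 8) rfl (by decide +kernel)

theorem b846 : Block F al 216576 216832 135 :=
  block_of_check (k := 8) rfl (by decide +kernel)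

theorem b847 : Block F al 216832 217088 136 :=
  block_of_check (k := 8) rfl (by decide +kernel)

theorem b848 : Block F al 217088 217344 116 :=
  block_of_check (k := 8) rfl (by decide +kernel)

theorem b849 : Block F al 217344 217600 131 :=
  block_of_check (k := 8) rfl (by decide +kernel)

theorem b850 : Block F al 217600 217856 158 :=
  block_of_check (k := 8) rfl (by decide +kernel)

theorem b851 : Block F al 217856 218112 84 :=
  block_of_check (k := 8) rfl (by decide +kernel)

theorem b852 : Block F al 218112 218368 133 :=
  block_of_check (k := 8) rfl (by decide +kernel)

theorem b853 : Block F al 218368 218624 48 :=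
  block_of_check (k := 8) rfl (by decide +kernel)

theorem b854 : Block F al 218624 218880 99 :=
  block_of_check (k := 8) rfl (by decide +kernel)

theorem b855 : Block F al 218880 219136 135 :=
  block_of_check (k := 8) rfl (by decide +kernel)

theorem b856 : Block F al 219136 219392 88 :=
  block_of_check (k := 8) rfl (by decide +kernel)

theorem b857 : Block F al 219392 219648 120 :=
  block_of_check (k := 8) rfl (by decide +kernel)

theorem b858 : Block F al 219648 219904 76 :=
  block_of_check (k := 8) rfl (by decide +kernel)

theorem b859 : Block F al 219904 220160 50 :=
  block_of_check (k := 8) rfl (by decide +kernel)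

theorem b860 : Block F al 220160 220416 105 :=
  block_of_check (k := 8) rfl (by decide +kernel)

theorem b861 : Block F al 220416 220672 111 :=
  block_of_check (k := 8) rfl (by decide +kernel)

end Cfsg.Agent.TcData.HNK.R0
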