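import Mathlib
import Cfsg.Agent.TcData.HNK.R0.Chk0
import Cfsg.Agent.TcData.HNK.R0.Chk1
import Cfsg.Agent.TcData.HNK.R0.Chk2
import Cfsg.Agent.TcData.HNK.R0.Chk3
import Cfsg.Agent.TcData.HNK.R0.Chk4
import Cfsg.Agent.TcData.HNK.R0.Chk5
import Cfsg.Agent.TcData.HNK.R0.Chk6
import Cfsg.Agent.TcData.HNK.R0.Chk7
import Cfsg.Agent.TcData.HNK.R0.Chk8
import Cfsg.Agent.TcData.HNK.R0.Chk9
import Cfsg.Agent.TcData.HNK.R0.Chk10
import Cfsg.Agent.TcData.HNK.R0.Chk11
import Cfsg.Agent.TcData.HNK.R0.Chk12
import Cfsg.Agent.TcData.HNK.R0.Chk13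
import Cfsg.Agent.TcData.HNK.R0.Chk14
import Cfsg.Agent.TcData.HNK.R0.Chk15
import Cfsg.Agent.TcData.HNK.R0.Chk16
import Cfsg.Agent.TcData.HNK.R0.Chk17
import Cfsg.Agent.TcData.HNK.R0.Chk18
import Cfsg.Agent.TcData.HNK.R0.Chk19
import Cfsg.Agent.TcData.HNK.R0.Chk20
import Cfsg.Agent.TcData.HNK.R0.Chk21
import Cfsg.Agent.TcData.HNK.R0.Chk22
import Cfsg.Agent.TcData.HNK.R0.Chk23
import Cfsg.Agent.TcData.HNK.R0.Chk24
import Cfsg.Agent.TcData.HNK.R0.Chk25
import Cfsg.Agent.TcData.HNK.R0.Chk26
import Cfsg.Agent.TcData.HNK.R0.Chk27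
import Cfsg.Agent.TcData.HNK.R0.Chk28
import Cfsg.Agent.TcData.HNK.R0.Chk29
import Cfsg.Agent.TcData.HNK.R0.Chk30
import Cfsg.Agent.TcData.HNK.R0.Chk31
import Cfsg.Agent.TcData.HNK.R0.Chk32
import Cfsg.Agent.TcData.HNK.R0.Chk33
import Cfsg.Agent.TcData.HNK.R0.Chk34
import Cfsg.Agent.TcData.HNK.R0.Chk35

set_option autoImplicit false
set_option Elab.async false
set_option maxRecDepth 100000
set_option linter.all false

namespace Cfsg.Agent.TcData.HNK.R0

open Cfsg.Spor Cfsg.Agent.Lib.TcFacts Cfsg.Agent.Lib.TcBits Cfsg.Agent.Lib.TcPres Cfsg.Spor.HN Cfsg.Agent.TcData.HNK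

theorem c0 : Block F al 0 256 122 := b0

theorem c1 : Block F al 0 512 231 :=
  block_comb c0 b1 (Nat.zero_le _) (Nat.le_of_ble_eq_true rfl) rfl

theorem c2 : Block F al 0 768 318 :=
  block_comb c1 b2 (Nat.zero_le _) (Nat.le_of_ble_eq_true rfl) rfl

theorem c3 : Block F al 0 1024 446 :=
  block_comb c2 b3 (Nat.zero_le _) (Nat.le_of_ble_eq_true rfl) rfl

theorem c4 : Block F al 0 1280 562 :=
  block_comb c3 b4 (Nat.zero_le _) (Nat.le_of_ble_eq_true rfl) rfl

theorem c5 : Block F al 0 1536 658 :=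
  block_comb c4 b5 (Nat.zero_le _) (Nat.le_of_ble_eq_true rfl) rfl

theorem c6 : Block F al 0 1792 848 :=
  block_comb c5 b6 (Nat.zero_le _) (Nat.le_of_ble_eq_true rfl) rfl

theorem c7 : Block F al 0 2048 1104 :=
  block_comb c6 b7 (Nat.zero_le _) (Nat.le_of_ble_eq_true rfl) rfl

theorem c8 : Block F al 0 2304 1360 :=
  block_comb c7 b8 (Nat.zero_le _) (Nat.le_of_ble_eq_true rfl) rfl

theorem c9 : Block F al 0 2560 1616 :=
  block_comb c8 b9 (Nat.zero_le _) (Nat.le_of_ble_eq_true rfl) rfl

theorem c10 : Block F al 0 2816 1870 :=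
  block_comb c9 b10 (Nat.zero_le _) (Nat.le_of_ble_eq_true rfl) rfl

theorem c11 : Block F al 0 3072 2126 :=
  block_comb c10 b11 (Nat.zero_le _) (Nat.le_of_ble_eq_true rfl) rfl

theorem c12 : Block F al 0 3328 2382 :=
  block_comb c11 b12 (Nat.zero_le _) (Nat.le_of_ble_eq_true rfl) rfl

theorem c13 : Block F al 0 3584 2638 :=
  block_comb c12 b13 (Nat.zero_le _) (Nat.le_of_ble_eq_true rfl) rfl

theorem c14 : Block F al 0 3840 2892 :=
  block_comb c13 b14 (Nat.zero_le _) (Nat.le_of_ble_eq_true rfl) rfl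

theorem c15 : Block F al 0 4096 3141 :=
  block_comb c14 b15 (Nat.zero_le _) (Nat.le_of_ble_eq_true rfl) rfl

theorem c16 : Block F al 0 4352 3396 :=
  block_comb c15 b16 (Nat.zero_le _) (Nat.le_of_ble_eq_true rfl) rfl

theorem c17 : Block F al 0 4608 3650 :=
  block_comb c16 b17 (Nat.zero_le _) (Nat.le_of_ble_eq_true rfl) rfl

theorem c18 : Block F al 0 4864 3902 :=
  block_comb c17 b18 (Nat.zero_le _) (Nat.le_of_ble_eq_true rfl) rfl

theorem c19 : Block F al 0 5120 4158 :=
  block_comb c18 b19 (Nat.zero_le _) (Nat.le_of_ble_eq_true rfl) rfl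

theorem c20 : Block F al 0 5376 4412 :=
  block_comb c19 b20 (Nat.zero_le _) (Nat.le_of_ble_eq_true rfl) rfl

theorem c21 : Block F al 0 5632 4660 :=
  block_comb c20 b21 (Nat.zero_le _) (Nat.le_of_ble_eq_true rfl) rfl

theorem c22 : Block F al 0 5888 4910 :=
  block_comb c21 b22 (Nat.zero_le _) (Nat.le_of_ble_eq_true rfl) rfl

theorem c23 : Block F al 0 6144 5150 :=
  block_comb c22 b23 (Nat.zero_le _) (Nat.le_of_ble_eq_true rfl) rfl

theorem c24 : Block F al 0 6400 5394 :=
  block_comb c23 b24 (Nat.zero_le _) (Nat.le_of_ble_eq_true rfl) rfl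

theorem c25 : Block F al 0 6656 5648 :=
  block_comb c24 b25 (Nat.zero_le _) (Nat.le_of_ble_eq_true rfl) rfl

theorem c26 : Block F al 0 6912 5902 :=
  block_comb c25 b26 (Nat.zero_le _) (Nat.le_of_ble_eq_true rfl) rfl

theorem c27 : Block F al 0 7168 6150 :=
  block_comb c26 b27 (Nat.zero_le _) (Nat.le_of_ble_eq_true rfl) rfl

theorem c28 : Block F al 0 7424 6396 :=
  block_comb c27 b28 (Nat.zero_le _) (Nat.le_of_ble_eq_true rfl) rfl

theorem c29 : Block F al 0 7680 6646 :=
  block_comb c28 b29 (Nat.zero_le _) (Nat.le_of_ble_eq_true rfl) rfl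

theorem c30 : Block F al 0 7936 6900 :=
  block_comb c29 b30 (Nat.zero_le _) (Nat.le_of_ble_eq_true rfl) rfl

theorem c31 : Block F al 0 8192 7152 :=
  block_comb c30 b31 (Nat.zero_le _) (Nat.le_of_ble_eq_true rfl) rfl

theorem c32 : Block F al 0 8448 7398 :=
  block_comb c31 b32 (Nat.zero_le _) (Nat.le_of_ble_eq_true rfl) rfl

theorem c33 : Block F al 0 8704 7646 :=
  block_comb c32 b33 (Nat.zero_le _) (Nat.le_of_ble_eq_true rfl) rfl

theorem c34 : Block F al 0 8960 7892 :=
  block_comb c33 b34 (Nat.zero_le _) (Nat.le_of_ble_eq_true rfl) rfl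

theorem c35 : Block F al 0 9216 8126 :=
  block_comb c34 b35 (Nat.zero_le _) (Nat.le_of_ble_eq_true rfl) rfl

theorem c36 : Block F al 0 9472 8374 :=
  block_comb c35 b36 (Nat.zero_le _) (Nat.le_of_ble_eq_true rfl) rfl

theorem c37 : Block F al 0 9728 8596 :=
  block_comb c36 b37 (Nat.zero_le _) (Nat.le_of_ble_eq_true rfl) rfl

theorem c38 : Block F al 0 9984 8842 :=
  block_comb c37 b38 (Nat.zero_le _) (Nat.le_of_ble_eq_true rfl) rfl

theorem c39 : Block F al 0 10240 9082 :=
  block_comb c38 b39 (Nat.zero_le _) (Nat.le_of_ble_eq_true rfl) rfl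

theorem c40 : Block F al 0 10496 9304 :=
  block_comb c39 b40 (Nat.zero_le _) (Nat.le_of_ble_eq_true rfl) rfl

theorem c41 : Block F al 0 10752 9556 :=
  block_comb c40 b41 (Nat.zero_le _) (Nat.le_of_ble_eq_true rfl) rfl

theorem c42 : Block F al 0 11008 9804 :=
  block_comb c41 b42 (Nat.zero_le _) (Nat.le_of_ble_eq_true rfl) rfl

theorem c43 : Block F al 0 11264 10046 :=
  block_comb c42 b43 (Nat.zero_le _) (Nat.le_of_ble_eq_true rfl) rfl

theorem c44 : Block F al 0 11520 10288 :=
  block_comb c43 b44 (Nat.zero_le _) (Nat.le_of_ble_eq_true rfl) rfl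

theorem c45 : Block F al 0 11776 10528 :=
  block_comb c44 b45 (Nat.zero_le _) (Nat.le_of_ble_eq_true rfl) rfl

theorem c46 : Block F al 0 12032 10764 :=
  block_comb c45 b46 (Nat.zero_le _) (Nat.le_of_ble_eq_true rfl) rfl

theorem c47 : Block F al 0 12288 10994 :=
  block_comb c46 b47 (Nat.zero_le _) (Nat.le_of_ble_eq_true rfl) rfl

theorem c48 : Block F al 0 12544 11244 :=
  block_comb c47 b48 (Nat.zero_le _) (Nat.le_of_ble_eq_true rfl) rfl

theorem c49 : Block F al 0 12800 11498 :=
  block_comb c48 b49 (Nat.zero_le _) (Nat.le_of_ble_eq_true rfl) rfl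

theorem c50 : Block F al 0 13056 11746 :=
  block_comb c49 b50 (Nat.zero_le _) (Nat.le_of_ble_eq_true rfl) rfl

theorem c51 : Block F al 0 13312 11978 :=
  block_comb c50 b51 (Nat.zero_le _) (Nat.le_of_ble_eq_true rfl) rfl

theorem c52 : Block F al 0 13568 12214 :=
  block_comb c51 b52 (Nat.zero_le _) (Nat.le_of_ble_eq_true rfl) rfl

theorem c53 : Block F al 0 13824 12454 :=
  block_comb c52 b53 (Nat.zero_le _) (Nat.le_of_ble_eq_true rfl) rfl

theorem c54 : Block F al 0 14080 12694 :=
  block_comb c53 b54 (Nat.zero_le _) (Nat.le_of_ble_eq_true rfl) rfl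

theorem c55 : Block F al 0 14336 12926 :=
  block_comb c54 b55 (Nat.zero_le _) (Nat.le_of_ble_eq_true rfl) rfl

theorem c56 : Block F al 0 14592 13160 :=
  block_comb c55 b56 (Nat.zero_le _) (Nat.le_of_ble_eq_true rfl) rfl

theorem c57 : Block F al 0 14848 13364 :=
  block_comb c56 b57 (Nat.zero_le _) (Nat.le_of_ble_eq_true rfl) rfl

theorem c58 : Block F al 0 15104 13599 :=
  block_comb c57 b58 (Nat.zero_le _) (Nat.le_of_ble_eq_true rfl) rfl

theorem c59 : Block F al 0 15360 13846 :=
  block_comb c58 b59 (Nat.zero_le _) (Nat.le_of_ble_eq_true rfl) rfl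

theorem c60 : Block F al 0 15616 14070 :=
  block_comb c59 b60 (Nat.zero_le _) (Nat.le_of_ble_eq_true rfl) rfl

theorem c61 : Block F al 0 15872 14292 :=
  block_comb c60 b61 (Nat.zero_le _) (Nat.le_of_ble_eq_true rfl) rfl

theorem c62 : Block F al 0 16128 14506 :=
  block_comb c61 b62 (Nat.zero_le _) (Nat.le_of_ble_eq_true rfl) rfl

theorem c63 : Block F al 0 16384 14752 :=
  block_comb c62 b63 (Nat.zero_le _) (Nat.le_of_ble_eq_true rfl) rfl

theorem c64 : Block F al 0 16640 14980 :=
  block_comb c63 b64 (Nat.zero_le _) (Nat.le_of_ble_eq_true rfl) rfl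

theorem c65 : Block F al 0 16896 15180 :=
  block_comb c64 b65 (Nat.zero_le _) (Nat.le_of_ble_eq_true rfl) rfl

theorem c66 : Block F al 0 17152 15412 :=
  block_comb c65 b66 (Nat.zero_le _) (Nat.le_of_ble_eq_true rfl) rfl

theorem c67 : Block F al 0 17408 15650 :=
  block_comb c66 b67 (Nat.zero_le _) (Nat.le_of_ble_eq_true rfl) rfl

theorem c68 : Block F al 0 17664 15886 :=
  block_comb c67 b68 (Nat.zero_le _) (Nat.le_of_ble_eq_true rfl) rfl

theorem c69 : Block F al 0 17920 16124 :=
  block_comb c68 b69 (Nat.zero_le _) (Nat.le_of_ble_eq_true rfl) rfl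

theorem c70 : Block F al 0 18176 16360 :=
  block_comb c69 b70 (Nat.zero_le _) (Nat.le_of_ble_eq_true rfl) rfl

theorem c71 : Block F al 0 18432 16580 :=
  block_comb c70 b71 (Nat.zero_le _) (Nat.le_of_ble_eq_true rfl) rfl

theorem c72 : Block F al 0 18688 16816 :=
  block_comb c71 b72 (Nat.zero_le _) (Nat.le_of_ble_eq_true rfl) rfl

theorem c73 : Block F al 0 18944 17042 :=
  block_comb c72 b73 (Nat.zero_le _) (Nat.le_of_ble_eq_true rfl) rfl

theorem c74 : Block F al 0 19200 17260 :=
  block_comb c73 b74 (Nat.zero_le _) (Nat.le_of_ble_eq_true rfl) rfl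

theorem c75 : Block F al 0 19456 17492 :=
  block_comb c74 b75 (Nat.zero_le _) (Nat.le_of_ble_eq_true rfl) rfl

theorem c76 : Block F al 0 19712 17704 :=
  block_comb c75 b76 (Nat.zero_le _) (Nat.le_of_ble_eq_true rfl) rfl

theorem c77 : Block F al 0 19968 17944 :=
  block_comb c76 b77 (Nat.zero_le _) (Nat.le_of_ble_eq_true rfl) rfl

theorem c78 : Block F al 0 20224 18164 :=
  block_comb c77 b78 (Nat.zero_le _) (Nat.le_of_ble_eq_true rfl) rfl

theorem c79 : Block F al 0 20480 18382 :=
  block_comb c78 b79 (Nat.zero_le _) (Nat.le_of_ble_eq_true rfl) rfl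

theorem c80 : Block F al 0 20736 18624 :=
  block_comb c79 b80 (Nat.zero_le _) (Nat.le_of_ble_eq_true rfl) rfl

theorem c81 : Block F al 0 20992 18854 :=
  block_comb c80 b81 (Nat.zero_le _) (Nat.le_of_ble_eq_true rfl) rfl

theorem c82 : Block F al 0 21248 19094 :=
  block_comb c81 b82 (Nat.zero_le _) (Nat.le_of_ble_eq_true rfl) rfl

theorem c83 : Block F al 0 21504 19334 :=
  block_comb c82 b83 (Nat.zero_le _) (Nat.le_of_ble_eq_true rfl) rfl

theorem c84 : Block F al 0 21760 19550 :=
  block_comb c83 b84 (Nat.zero_le _) (Nat.le_of_ble_eq_true rfl) rfl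

theorem c85 : Block F al 0 22016 19770 :=
  block_comb c84 b85 (Nat.zero_le _) (Nat.le_of_ble_eq_true rfl) rfl

theorem c86 : Block F al 0 22272 20004 :=
  block_comb c85 b86 (Nat.zero_le _) (Nat.le_of_ble_eq_true rfl) rfl

theorem c87 : Block F al 0 22528 20220 :=
  block_comb c86 b87 (Nat.zero_le _) (Nat.le_of_ble_eq_true rfl) rfl

theorem c88 : Block F al 0 22784 20440 :=
  block_comb c87 b88 (Nat.zero_le _) (Nat.le_of_ble_eq_true rfl) rfl

theorem c89 : Block F al 0 23040 20662 :=
  block_comb c88 b89 (Nat.zero_le _) (Nat.le_of_ble_eq_true rfl) rfl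

theorem c90 : Block F al 0 23296 20878 :=
  block_comb c89 b90 (Nat.zero_le _) (Nat.le_of_ble_eq_true rfl) rfl

theorem c91 : Block F al 0 23552 21098 :=
  block_comb c90 b91 (Nat.zero_le _) (Nat.le_of_ble_eq_true rfl) rfl

theorem c92 : Block F al 0 23808 21312 :=
  block_comb c91 b92 (Nat.zero_le _) (Nat.le_of_ble_eq_true rfl) rfl

theorem c93 : Block F al 0 24064 21521 :=
  block_comb c92 b93 (Nat.zero_le _) (Nat.le_of_ble_eq_true rfl) rfl

theorem c94 : Block F al 0 24320 21748 :=
  block_comb c93 b94 (Nat.zero_le _) (Nat.le_of_ble_eq_true rfl) rfl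

theorem c95 : Block F al 0 24576 21910 :=
  block_comb c94 b95 (Nat.zero_le _) (Nat.le_of_ble_eq_true rfl) rfl

theorem c96 : Block F al 0 24832 22130 :=
  block_comb c95 b96 (Nat.zero_le _) (Nat.le_of_ble_eq_true rfl) rfl

theorem c97 : Block F al 0 25088 22350 :=
  block_comb c96 b97 (Nat.zero_le _) (Nat.le_of_ble_eq_true rfl) rfl

theorem c98 : Block F al 0 25344 22568 :=
  block_comb c97 b98 (Nat.zero_le _) (Nat.le_of_ble_eq_true rfl) rfl

theorem c99 : Block F al 0 25600 22792 :=
  block_comb c98 b99 (Nat.zero_le _) (Nat.le_of_ble_eq_true rfl) rfl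

theorem c100 : Block F al 0 25856 23024 :=
  block_comb c99 b100 (Nat.zero_le _) (Nat.le_of_ble_eq_true rfl) rfl

theorem c101 : Block F al 0 26112 23210 :=
  block_comb c100 b101 (Nat.zero_le _) (Nat.le_of_ble_eq_true rfl) rfl

theorem c102 : Block F al 0 26368 23418 :=
  block_comb c101 b102 (Nat.zero_le _) (Nat.le_of_ble_eq_true rfl) rfl

theorem c103 : Block F al 0 26624 23604 :=
  block_comb c102 b103 (Nat.zero_le _) (Nat.le_of_ble_eq_true rfl) rfl

theorem c104 : Block F al 0 26880 23806 :=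
  block_comb c103 b104 (Nat.zero_le _) (Nat.le_of_ble_eq_true rfl) rfl

theorem c105 : Block F al 0 27136 24042 :=
  block_comb c104 b105 (Nat.zero_le _) (Nat.le_of_ble_eq_true rfl) rfl

theorem c106 : Block F al 0 27392 24259 :=
  block_comb c105 b106 (Nat.zero_le _) (Nat.le_of_ble_eq_true rfl) rfl

theorem c107 : Block F al 0 27648 24462 :=
  block_comb c106 b107 (Nat.zero_le _) (Nat.le_of_ble_eq_true rfl) rfl

theorem c108 : Block F al 0 27904 24678 :=
  block_comb c107 b108 (Nat.zero_le _) (Nat.le_of_ble_eq_true rfl) rfl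

theorem c109 : Block F al 0 28160 24838 :=
  block_comb c108 b109 (Nat.zero_le _) (Nat.le_of_ble_eq_true rfl) rfl

theorem c110 : Block F al 0 28416 25060 :=
  block_comb c109 b110 (Nat.zero_le _) (Nat.le_of_ble_eq_true rfl) rfl

theorem c111 : Block F al 0 28672 25267 :=
  block_comb c110 b111 (Nat.zero_le _) (Nat.le_of_ble_eq_true rfl) rfl

theorem c112 : Block F al 0 28928 25488 :=
  block_comb c111 b112 (Nat.zero_le _) (Nat.le_of_ble_eq_true rfl) rfl

theorem c113 : Block F al 0 29184 25734 :=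
  block_comb c112 b113 (Nat.zero_le _) (Nat.le_of_ble_eq_true rfl) rfl

theorem c114 : Block F al 0 29440 25942 :=
  block_comb c113 b114 (Nat.zero_le _) (Nat.le_of_ble_eq_true rfl) rfl

theorem c115 : Block F al 0 29696 26154 :=
  block_comb c114 b115 (Nat.zero_le _) (Nat.le_of_ble_eq_true rfl) rfl

theorem c116 : Block F al 0 29952 26386 :=
  block_comb c115 b116 (Nat.zero_le _) (Nat.le_of_ble_eq_true rfl) rfl

theorem c117 : Block F al 0 30208 26598 :=
  block_comb c116 b117 (Nat.zero_le _) (Nat.le_of_ble_eq_true rfl) rfl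

theorem c118 : Block F al 0 30464 26808 :=
  block_comb c117 b118 (Nat.zero_le _) (Nat.le_of_ble_eq_true rfl) rfl

theorem c119 : Block F al 0 30720 27022 :=
  block_comb c118 b119 (Nat.zero_le _) (Nat.le_of_ble_eq_true rfl) rfl

theorem c120 : Block F al 0 30976 27228 :=
  block_comb c119 b120 (Nat.zero_le _) (Nat.le_of_ble_eq_true rfl) rfl

theorem c121 : Block F al 0 31232 27466 :=
  block_comb c120 b121 (Nat.zero_le _) (Nat.le_of_ble_eq_true rfl) rfl

theorem c122 : Block F al 0 31488 27656 :=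
  block_comb c121 b122 (Nat.zero_le _) (Nat.le_of_ble_eq_true rfl) rfl

theorem c123 : Block F al 0 31744 27872 :=
  block_comb c122 b123 (Nat.zero_le _) (Nat.le_of_ble_eq_true rfl) rfl

theorem c124 : Block F al 0 32000 28048 :=
  block_comb c123 b124 (Nat.zero_le _) (Nat.le_of_ble_eq_true rfl) rfl

theorem c125 : Block F al 0 32256 28278 :=
  block_comb c124 b125 (Nat.zero_le _) (Nat.le_of_ble_eq_true rfl) rfl

theorem c126 : Block F al 0 32512 28488 :=
  block_comb c125 b126 (Nat.zero_le _) (Nat.le_of_ble_eq_true rfl) rfl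

theorem c127 : Block F al 0 32768 28676 :=
  block_comb c126 b127 (Nat.zero_le _) (Nat.le_of_ble_eq_true rfl) rfl

theorem c128 : Block F al 0 33024 28882 :=
  block_comb c127 b128 (Nat.zero_le _) (Nat.le_of_ble_eq_true rfl) rfl

theorem c129 : Block F al 0 33280 29104 :=
  block_comb c128 b129 (Nat.zero_le _) (Nat.le_of_ble_eq_true rfl) rfl

theorem c130 : Block F al 0 33536 29298 :=
  block_comb c129 b130 (Nat.zero_le _) (Nat.le_of_ble_eq_true rfl) rfl

theorem c131 : Block F al 0 33792 29510 :=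
  block_comb c130 b131 (Nat.zero_le _) (Nat.le_of_ble_eq_true rfl) rfl

theorem c132 : Block F al 0 34048 29684 :=
  block_comb c131 b132 (Nat.zero_le _) (Nat.le_of_ble_eq_true rfl) rfl

theorem c133 : Block F al 0 34304 29908 :=
  block_comb c132 b133 (Nat.zero_le _) (Nat.le_of_ble_eq_true rfl) rfl

theorem c134 : Block F al 0 34560 30120 :=
  block_comb c133 b134 (Nat.zero_le _) (Nat.le_of_ble_eq_true rfl) rfl

theorem c135 : Block F al 0 34816 30342 :=
  block_comb c134 b135 (Nat.zero_le _) (Nat.le_of_ble_eq_true rfl) rfl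

theorem c136 : Block F al 0 35072 30550 :=
  block_comb c135 b136 (Nat.zero_le _) (Nat.le_of_ble_eq_true rfl) rfl

theorem c137 : Block F al 0 35328 30782 :=
  block_comb c136 b137 (Nat.zero_le _) (Nat.le_of_ble_eq_true rfl) rfl

theorem c138 : Block F al 0 35584 30990 :=
  block_comb c137 b138 (Nat.zero_le _) (Nat.le_of_ble_eq_true rfl) rfl

theorem c139 : Block F al 0 35840 31204 :=
  block_comb c138 b139 (Nat.zero_le _) (Nat.le_of_ble_eq_true rfl) rfl

theorem c140 : Block F al 0 36096 31412 :=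
  block_comb c139 b140 (Nat.zero_le _) (Nat.le_of_ble_eq_true rfl) rfl

theorem c141 : Block F al 0 36352 31612 :=
  block_comb c140 b141 (Nat.zero_le _) (Nat.le_of_ble_eq_true rfl) rfl

theorem c142 : Block F al 0 36608 31804 :=
  block_comb c141 b142 (Nat.zero_le _) (Nat.le_of_ble_eq_true rfl) rfl

theorem c143 : Block F al 0 36864 32012 :=
  block_comb c142 b143 (Nat.zero_le _) (Nat.le_of_ble_eq_true rfl) rfl

theorem c144 : Block F al 0 37120 32234 :=
  block_comb c143 b144 (Nat.zero_le _) (Nat.le_of_ble_eq_true rfl) rfl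

theorem c145 : Block F al 0 37376 32440 :=
  block_comb c144 b145 (Nat.zero_le _) (Nat.le_of_ble_eq_true rfl) rfl

theorem c146 : Block F al 0 37632 32634 :=
  block_comb c145 b146 (Nat.zero_le _) (Nat.le_of_ble_eq_true rfl) rfl

theorem c147 : Block F al 0 37888 32802 :=
  block_comb c146 b147 (Nat.zero_le _) (Nat.le_of_ble_eq_true rfl) rfl

theorem c148 : Block F al 0 38144 33018 :=
  block_comb c147 b148 (Nat.zero_le _) (Nat.le_of_ble_eq_true rfl) rfl

theorem c149 : Block F al 0 38400 33217 :=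
  block_comb c148 b149 (Nat.zero_le _) (Nat.le_of_ble_eq_true rfl) rfl

theorem c150 : Block F al 0 38656 33396 :=
  block_comb c149 b150 (Nat.zero_le _) (Nat.le_of_ble_eq_true rfl) rfl

theorem c151 : Block F al 0 38912 33596 :=
  block_comb c150 b151 (Nat.zero_le _) (Nat.le_of_ble_eq_true rfl) rfl

theorem c152 : Block F al 0 39168 33802 :=
  block_comb c151 b152 (Nat.zero_le _) (Nat.le_of_ble_eq_true rfl) rfl

theorem c153 : Block F al 0 39424 33985 :=
  block_comb c152 b153 (Nat.zero_le _) (Nat.le_of_ble_eq_true rfl) rfl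

theorem c154 : Block F al 0 39680 34174 :=
  block_comb c153 b154 (Nat.zero_le _) (Nat.le_of_ble_eq_true rfl) rfl

theorem c155 : Block F al 0 39936 34371 :=
  block_comb c154 b155 (Nat.zero_le _) (Nat.le_of_ble_eq_true rfl) rfl

theorem c156 : Block F al 0 40192 34550 :=
  block_comb c155 b156 (Nat.zero_le _) (Nat.le_of_ble_eq_true rfl) rfl

theorem c157 : Block F al 0 40448 34740 :=
  block_comb c156 b157 (Nat.zero_le _) (Nat.le_of_ble_eq_true rfl) rfl

theorem c158 : Block F al 0 40704 34970 :=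
  block_comb c157 b158 (Nat.zero_le _) (Nat.le_of_ble_eq_true rfl) rfl

theorem c159 : Block F al 0 40960 35146 :=
  block_comb c158 b159 (Nat.zero_le _) (Nat.le_of_ble_eq_true rfl) rfl

theorem c160 : Block F al 0 41216 35294 :=
  block_comb c159 b160 (Nat.zero_le _) (Nat.le_of_ble_eq_true rfl) rfl

theorem c161 : Block F al 0 41472 35477 :=
  block_comb c160 b161 (Nat.zero_le _) (Nat.le_of_ble_eq_true rfl) rfl

theorem c162 : Block F al 0 41728 35681 :=
  block_comb c161 b162 (Nat.zero_le _) (Nat.le_of_ble_eq_true rfl) rfl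

theorem c163 : Block F al 0 41984 35870 :=
  block_comb c162 b163 (Nat.zero_le _) (Nat.le_of_ble_eq_true rfl) rfl

theorem c164 : Block F al 0 42240 36057 :=
  block_comb c163 b164 (Nat.zero_le _) (Nat.le_of_ble_eq_true rfl) rfl

theorem c165 : Block F al 0 42496 36251 :=
  block_comb c164 b165 (Nat.zero_le _) (Nat.le_of_ble_eq_true rfl) rfl

theorem c166 : Block F al 0 42752 36457 :=
  block_comb c165 b166 (Nat.zero_le _) (Nat.le_of_ble_eq_true rfl) rfl

theorem c167 : Block F al 0 43008 36645 :=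
  block_comb c166 b167 (Nat.zero_le _) (Nat.le_of_ble_eq_true rfl) rfl

theorem c168 : Block F al 0 43264 36865 :=
  block_comb c167 b168 (Nat.zero_le _) (Nat.le_of_ble_eq_true rfl) rfl

theorem c169 : Block F al 0 43520 37054 :=
  block_comb c168 b169 (Nat.zero_le _) (Nat.le_of_ble_eq_true rfl) rfl

theorem c170 : Block F al 0 43776 37196 :=
  block_comb c169 b170 (Nat.zero_le _) (Nat.le_of_ble_eq_true rfl) rfl

theorem c171 : Block F al 0 44032 37383 :=
  block_comb c170 b171 (Nat.zero_le _) (Nat.le_of_ble_eq_true rfl) rfl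

theorem c172 : Block F al 0 44288 37551 :=
  block_comb c171 b172 (Nat.zero_le _) (Nat.le_of_ble_eq_true rfl) rfl

theorem c173 : Block F al 0 44544 37706 :=
  block_comb c172 b173 (Nat.zero_le _) (Nat.le_of_ble_eq_true rfl) rfl

theorem c174 : Block F al 0 44800 37871 :=
  block_comb c173 b174 (Nat.zero_le _) (Nat.le_of_ble_eq_true rfl) rfl

theorem c175 : Block F al 0 45056 38051 :=
  block_comb c174 b175 (Nat.zero_le _) (Nat.le_of_ble_eq_true rfl) rfl

theorem c176 : Block F al 0 45312 38273 :=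
  block_comb c175 b176 (Nat.zero_le _) (Nat.le_of_ble_eq_true rfl) rfl

theorem c177 : Block F al 0 45568 38477 :=
  block_comb c176 b177 (Nat.zero_le _) (Nat.le_of_ble_eq_true rfl) rfl

theorem c178 : Block F al 0 45824 38675 :=
  block_comb c177 b178 (Nat.zero_le _) (Nat.le_of_ble_eq_true rfl) rfl

theorem c179 : Block F al 0 46080 38887 :=
  block_comb c178 b179 (Nat.zero_le _) (Nat.le_of_ble_eq_true rfl) rfl

theorem c180 : Block F al 0 46336 39087 :=
  block_comb c179 b180 (Nat.zero_le _) (Nat.le_of_ble_eq_true rfl) rfl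

theorem c181 : Block F al 0 46592 39265 :=
  block_comb c180 b181 (Nat.zero_le _) (Nat.le_of_ble_eq_true rfl) rfl

theorem c182 : Block F al 0 46848 39459 :=
  block_comb c181 b182 (Nat.zero_le _) (Nat.le_of_ble_eq_true rfl) rfl

theorem c183 : Block F al 0 47104 39641 :=
  block_comb c182 b183 (Nat.zero_le _) (Nat.le_of_ble_eq_true rfl) rfl

theorem c184 : Block F al 0 47360 39767 :=
  block_comb c183 b184 (Nat.zero_le _) (Nat.le_of_ble_eq_true rfl) rfl

theorem c185 : Block F al 0 47616 39950 :=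
  block_comb c184 b185 (Nat.zero_le _) (Nat.le_of_ble_eq_true rfl) rfl

theorem c186 : Block F al 0 47872 40159 :=
  block_comb c185 b186 (Nat.zero_le _) (Nat.le_of_ble_eq_true rfl) rfl

theorem c187 : Block F al 0 48128 40345 :=
  block_comb c186 b187 (Nat.zero_le _) (Nat.le_of_ble_eq_true rfl) rfl

theorem c188 : Block F al 0 48384 40529 :=
  block_comb c187 b188 (Nat.zero_le _) (Nat.le_of_ble_eq_true rfl) rfl

theorem c189 : Block F al 0 48640 40727 :=
  block_comb c188 b189 (Nat.zero_le _) (Nat.le_of_ble_eq_true rfl) rfl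

theorem c190 : Block F al 0 48896 40961 :=
  block_comb c189 b190 (Nat.zero_le _) (Nat.le_of_ble_eq_true rfl) rfl

theorem c191 : Block F al 0 49152 41175 :=
  block_comb c190 b191 (Nat.zero_le _) (Nat.le_of_ble_eq_true rfl) rfl

theorem c192 : Block F al 0 49408 41377 :=
  block_comb c191 b192 (Nat.zero_le _) (Nat.le_of_ble_eq_true rfl) rfl

theorem c193 : Block F al 0 49664 41542 :=
  block_comb c192 b193 (Nat.zero_le _) (Nat.le_of_ble_eq_true rfl) rfl

theorem c194 : Block F al 0 49920 41733 :=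
  block_comb c193 b194 (Nat.zero_le _) (Nat.le_of_ble_eq_true rfl) rfl

theorem c195 : Block F al 0 50176 41940 :=
  block_comb c194 b195 (Nat.zero_le _) (Nat.le_of_ble_eq_true rfl) rfl

theorem c196 : Block F al 0 50432 42165 :=
  block_comb c195 b196 (Nat.zero_le _) (Nat.le_of_ble_eq_true rfl) rfl

theorem c197 : Block F al 0 50688 42350 :=
  block_comb c196 b197 (Nat.zero_le _) (Nat.le_of_ble_eq_true rfl) rfl

theorem c198 : Block F al 0 50944 42553 :=
  block_comb c197 b198 (Nat.zero_le _) (Nat.le_of_ble_eq_true rfl) rfl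

theorem c199 : Block F al 0 51200 42756 :=
  block_comb c198 b199 (Nat.zero_le _) (Nat.le_of_ble_eq_true rfl) rfl

theorem c200 : Block F al 0 51456 42916 :=
  block_comb c199 b200 (Nat.zero_le _) (Nat.le_of_ble_eq_true rfl) rfl

theorem c201 : Block F al 0 51712 43120 :=
  block_comb c200 b201 (Nat.zero_le _) (Nat.le_of_ble_eq_true rfl) rfl

theorem c202 : Block F al 0 51968 43312 :=
  block_comb c201 b202 (Nat.zero_le _) (Nat.le_of_ble_eq_true rfl) rfl

theorem c203 : Block F al 0 52224 43481 :=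
  block_comb c202 b203 (Nat.zero_le _) (Nat.le_of_ble_eq_true rfl) rfl

theorem c204 : Block F al 0 52480 43702 :=
  block_comb c203 b204 (Nat.zero_le _) (Nat.le_of_ble_eq_true rfl) rfl

theorem c205 : Block F al 0 52736 43876 :=
  block_comb c204 b205 (Nat.zero_le _) (Nat.le_of_ble_eq_true rfl) rfl

theorem c206 : Block F al 0 52992 44050 :=
  block_comb c205 b206 (Nat.zero_le _) (Nat.le_of_ble_eq_true rfl) rfl

theorem c207 : Block F al 0 53248 44236 :=
  block_comb c206 b207 (Nat.zero_le _) (Nat.le_of_ble_eq_true rfl) rfl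

theorem c208 : Block F al 0 53504 44433 :=
  block_comb c207 b208 (Nat.zero_le _) (Nat.le_of_ble_eq_true rfl) rfl

theorem c209 : Block F al 0 53760 44571 :=
  block_comb c208 b209 (Nat.zero_le _) (Nat.le_of_ble_eq_true rfl) rfl

theorem c210 : Block F al 0 54016 44779 :=
  block_comb c209 b210 (Nat.zero_le _) (Nat.le_of_ble_eq_true rfl) rfl

theorem c211 : Block F al 0 54272 44997 :=
  block_comb c210 b211 (Nat.zero_le _) (Nat.le_of_ble_eq_true rfl) rfl

theorem c212 : Block F al 0 54528 45157 :=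
  block_comb c211 b212 (Nat.zero_le _) (Nat.le_of_ble_eq_true rfl) rfl

theorem c213 : Block F al 0 54784 45373 :=
  block_comb c212 b213 (Nat.zero_le _) (Nat.le_of_ble_eq_true rfl) rfl

theorem c214 : Block F al 0 55040 45518 :=
  block_comb c213 b214 (Nat.zero_le _) (Nat.le_of_ble_eq_true rfl) rfl

theorem c215 : Block F al 0 55296 45718 :=
  block_comb c214 b215 (Nat.zero_le _) (Nat.le_of_ble_eq_true rfl) rfl

theorem c216 : Block F al 0 55552 45878 :=
  block_comb c215 b216 (Nat.zero_le _) (Nat.le_of_ble_eq_true rfl) rfl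

theorem c217 : Block F al 0 55808 46086 :=
  block_comb c216 b217 (Nat.zero_le _) (Nat.le_of_ble_eq_true rfl) rfl

theorem c218 : Block F al 0 56064 46272 :=
  block_comb c217 b218 (Nat.zero_le _) (Nat.le_of_ble_eq_true rfl) rfl

theorem c219 : Block F al 0 56320 46424 :=
  block_comb c218 b219 (Nat.zero_le _) (Nat.le_of_ble_eq_true rfl) rfl

theorem c220 : Block F al 0 56576 46604 :=
  block_comb c219 b220 (Nat.zero_le _) (Nat.le_of_ble_eq_true rfl) rfl

theorem c221 : Block F al 0 56832 46790 :=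
  block_comb c220 b221 (Nat.zero_le _) (Nat.le_of_ble_eq_true rfl) rfl

theorem c222 : Block F al 0 57088 46928 :=
  block_comb c221 b222 (Nat.zero_le _) (Nat.le_of_ble_eq_true rfl) rfl

theorem c223 : Block F al 0 57344 47115 :=
  block_comb c222 b223 (Nat.zero_le _) (Nat.le_of_ble_eq_true rfl) rfl

theorem c224 : Block F al 0 57600 47308 :=
  block_comb c223 b224 (Nat.zero_le _) (Nat.le_of_ble_eq_true rfl) rfl

theorem c225 : Block F al 0 57856 47475 :=
  block_comb c224 b225 (Nat.zero_le _) (Nat.le_of_ble_eq_true rfl) rfl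

theorem c226 : Block F al 0 58112 47682 :=
  block_comb c225 b226 (Nat.zero_le _) (Nat.le_of_ble_eq_true rfl) rfl

theorem c227 : Block F al 0 58368 47885 :=
  block_comb c226 b227 (Nat.zero_le _) (Nat.le_of_ble_eq_true rfl) rfl

theorem c228 : Block F al 0 58624 48060 :=
  block_comb c227 b228 (Nat.zero_le _) (Nat.le_of_ble_eq_true rfl) rfl

theorem c229 : Block F al 0 58880 48252 :=
  block_comb c228 b229 (Nat.zero_le _) (Nat.le_of_ble_eq_true rfl) rfl

theorem c230 : Block F al 0 59136 48430 :=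
  block_comb c229 b230 (Nat.zero_le _) (Nat.le_of_ble_eq_true rfl) rfl

theorem c231 : Block F al 0 59392 48644 :=
  block_comb c230 b231 (Nat.zero_le _) (Nat.le_of_ble_eq_true rfl) rfl

theorem c232 : Block F al 0 59648 48820 :=
  block_comb c231 b232 (Nat.zero_le _) (Nat.le_of_ble_eq_true rfl) rfl

theorem c233 : Block F al 0 59904 49010 :=
  block_comb c232 b233 (Nat.zero_le _) (Nat.le_of_ble_eq_true rfl) rfl

theorem c234 : Block F al 0 60160 49191 :=
  block_comb c233 b234 (Nat.zero_le _) (Nat.le_of_ble_eq_true rfl) rfl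

theorem c235 : Block F al 0 60416 49368 :=
  block_comb c234 b235 (Nat.zero_le _) (Nat.le_of_ble_eq_true rfl) rfl

theorem c236 : Block F al 0 60672 49540 :=
  block_comb c235 b236 (Nat.zero_le _) (Nat.le_of_ble_eq_true rfl) rfl

theorem c237 : Block F al 0 60928 49694 :=
  block_comb c236 b237 (Nat.zero_le _) (Nat.le_of_ble_eq_true rfl) rfl

theorem c238 : Block F al 0 61184 49872 :=
  block_comb c237 b238 (Nat.zero_le _) (Nat.le_of_ble_eq_true rfl) rfl

theorem c239 : Block F al 0 61440 50050 :=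
  block_comb c238 b239 (Nat.zero_le _) (Nat.le_of_ble_eq_true rfl) rfl

theorem c240 : Block F al 0 61696 50233 :=
  block_comb c239 b240 (Nat.zero_le _) (Nat.le_of_ble_eq_true rfl) rfl

theorem c241 : Block F al 0 61952 50420 :=
  block_comb c240 b241 (Nat.zero_le _) (Nat.le_of_ble_eq_true rfl) rfl

theorem c242 : Block F al 0 62208 50582 :=
  block_comb c241 b242 (Nat.zero_le _) (Nat.le_of_ble_eq_true rfl) rfl

theorem c243 : Block F al 0 62464 50798 :=
  block_comb c242 b243 (Nat.zero_le _) (Nat.le_of_ble_eq_true rfl) rfl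

theorem c244 : Block F al 0 62720 50971 :=
  block_comb c243 b244 (Nat.zero_le _) (Nat.le_of_ble_eq_true rfl) rfl

theorem c245 : Block F al 0 62976 51154 :=
  block_comb c244 b245 (Nat.zero_le _) (Nat.le_of_ble_eq_true rfl) rfl

theorem c246 : Block F al 0 63232 51324 :=
  block_comb c245 b246 (Nat.zero_le _) (Nat.le_of_ble_eq_true rfl) rfl

theorem c247 : Block F al 0 63488 51492 :=
  block_comb c246 b247 (Nat.zero_le _) (Nat.le_of_ble_eq_true rfl) rfl

theorem c248 : Block F al 0 63744 51638 :=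
  block_comb c247 b248 (Nat.zero_le _) (Nat.le_of_ble_eq_true rfl) rfl

theorem c249 : Block F al 0 64000 51814 :=
  block_comb c248 b249 (Nat.zero_le _) (Nat.le_of_ble_eq_true rfl) rfl

theorem c250 : Block F al 0 64256 52004 :=
  block_comb c249 b250 (Nat.zero_le _) (Nat.le_of_ble_eq_true rfl) rfl

theorem c251 : Block F al 0 64512 52170 :=
  block_comb c250 b251 (Nat.zero_le _) (Nat.le_of_ble_eq_true rfl) rfl

theorem c252 : Block F al 0 64768 52316 :=
  block_comb c251 b252 (Nat.zero_le _) (Nat.le_of_ble_eq_true rfl) rfl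

theorem c253 : Block F al 0 65024 52484 :=
  block_comb c252 b253 (Nat.zero_le _) (Nat.le_of_ble_eq_true rfl) rfl

theorem c254 : Block F al 0 65280 52650 :=
  block_comb c253 b254 (Nat.zero_le _) (Nat.le_of_ble_eq_true rfl) rfl

theorem c255 : Block F al 0 65536 52834 :=
  block_comb c254 b255 (Nat.zero_le _) (Nat.le_of_ble_eq_true rfl) rfl

theorem c256 : Block F al 0 65792 53036 :=
  block_comb c255 b256 (Nat.zero_le _) (Nat.le_of_ble_eq_true rfl) rfl

theorem c257 : Block F al 0 66048 53198 :=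
  block_comb c256 b257 (Nat.zero_le _) (Nat.le_of_ble_eq_true rfl) rfl

theorem c258 : Block F al 0 66304 53346 :=
  block_comb c257 b258 (Nat.zero_le _) (Nat.le_of_ble_eq_true rfl) rfl

theorem c259 : Block F al 0 66560 53498 :=
  block_comb c258 b259 (Nat.zero_le _) (Nat.le_of_ble_eq_true rfl) rfl

theorem c260 : Block F al 0 66816 53636 :=
  block_comb c259 b260 (Nat.zero_le _) (Nat.le_of_ble_eq_true rfl) rfl

theorem c261 : Block F al 0 67072 53814 :=
  block_comb c260 b261 (Nat.zero_le _) (Nat.le_of_ble_eq_true rfl) rfl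

theorem c262 : Block F al 0 67328 54000 :=
  block_comb c261 b262 (Nat.zero_le _) (Nat.le_of_ble_eq_true rfl) rfl

theorem c263 : Block F al 0 67584 54124 :=
  block_comb c262 b263 (Nat.zero_le _) (Nat.le_of_ble_eq_true rfl) rfl

theorem c264 : Block F al 0 67840 54270 :=
  block_comb c263 b264 (Nat.zero_le _) (Nat.le_of_ble_eq_true rfl) rfl

theorem c265 : Block F al 0 68096 54441 :=
  block_comb c264 b265 (Nat.zero_le _) (Nat.le_of_ble_eq_true rfl) rfl

theorem c266 : Block F al 0 68352 54633 :=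
  block_comb c265 b266 (Nat.zero_le _) (Nat.le_of_ble_eq_true rfl) rfl

theorem c267 : Block F al 0 68608 54831 :=
  block_comb c266 b267 (Nat.zero_le _) (Nat.le_of_ble_eq_true rfl) rfl

theorem c268 : Block F al 0 68864 55000 :=
  block_comb c267 b268 (Nat.zero_le _) (Nat.le_of_ble_eq_true rfl) rfl

theorem c269 : Block F al 0 69120 55112 :=
  block_comb c268 b269 (Nat.zero_le _) (Nat.le_of_ble_eq_true rfl) rfl

theorem c270 : Block F al 0 69376 55232 :=
  block_comb c269 b270 (Nat.zero_le _) (Nat.le_of_ble_eq_true rfl) rfl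

theorem c271 : Block F al 0 69632 55370 :=
  block_comb c270 b271 (Nat.zero_le _) (Nat.le_of_ble_eq_true rfl) rfl

theorem c272 : Block F al 0 69888 55529 :=
  block_comb c271 b272 (Nat.zero_le _) (Nat.le_of_ble_eq_true rfl) rfl

theorem c273 : Block F al 0 70144 55693 :=
  block_comb c272 b273 (Nat.zero_le _) (Nat.le_of_ble_eq_true rfl) rfl

theorem c274 : Block F al 0 70400 55898 :=
  block_comb c273 b274 (Nat.zero_le _) (Nat.le_of_ble_eq_true rfl) rfl

theorem c275 : Block F al 0 70656 56042 :=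
  block_comb c274 b275 (Nat.zero_le _) (Nat.le_of_ble_eq_true rfl) rfl

theorem c276 : Block F al 0 70912 56212 :=
  block_comb c275 b276 (Nat.zero_le _) (Nat.le_of_ble_eq_true rfl) rfl

theorem c277 : Block F al 0 71168 56348 :=
  block_comb c276 b277 (Nat.zero_le _) (Nat.le_of_ble_eq_true rfl) rfl

theorem c278 : Block F al 0 71424 56502 :=
  block_comb c277 b278 (Nat.zero_le _) (Nat.le_of_ble_eq_true rfl) rfl

theorem c279 : Block F al 0 71680 56676 :=
  block_comb c278 b279 (Nat.zero_le _) (Nat.le_of_ble_eq_true rfl) rfl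

theorem c280 : Block F al 0 71936 56846 :=
  block_comb c279 b280 (Nat.zero_le _) (Nat.le_of_ble_eq_true rfl) rfl

theorem c281 : Block F al 0 72192 56996 :=
  block_comb c280 b281 (Nat.zero_le _) (Nat.le_of_ble_eq_true rfl) rfl

theorem c282 : Block F al 0 72448 57184 :=
  block_comb c281 b282 (Nat.zero_le _) (Nat.le_of_ble_eq_true rfl) rfl

theorem c283 : Block F al 0 72704 57374 :=
  block_comb c282 b283 (Nat.zero_le _) (Nat.le_of_ble_eq_true rfl) rfl

theorem c284 : Block F al 0 72960 57540 :=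
  block_comb c283 b284 (Nat.zero_le _) (Nat.le_of_ble_eq_true rfl) rfl

theorem c285 : Block F al 0 73216 57704 :=
  block_comb c284 b285 (Nat.zero_le _) (Nat.le_of_ble_eq_true rfl) rfl

theorem c286 : Block F al 0 73472 57800 :=
  block_comb c285 b286 (Nat.zero_le _) (Nat.le_of_ble_eq_true rfl) rfl

theorem c287 : Block F al 0 73728 57965 :=
  block_comb c286 b287 (Nat.zero_le _) (Nat.le_of_ble_eq_true rfl) rfl

theorem c288 : Block F al 0 73984 58130 :=
  block_comb c287 b288 (Nat.zero_le _) (Nat.le_of_ble_eq_true rfl) rfl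

theorem c289 : Block F al 0 74240 58250 :=
  block_comb c288 b289 (Nat.zero_le _) (Nat.le_of_ble_eq_true rfl) rfl

theorem c290 : Block F al 0 74496 58398 :=
  block_comb c289 b290 (Nat.zero_le _) (Nat.le_of_ble_eq_true rfl) rfl

theorem c291 : Block F al 0 74752 58570 :=
  block_comb c290 b291 (Nat.zero_le _) (Nat.le_of_ble_eq_true rfl) rfl

theorem c292 : Block F al 0 75008 58676 :=
  block_comb c291 b292 (Nat.zero_le _) (Nat.le_of_ble_eq_true rfl) rfl

theorem c293 : Block F al 0 75264 58812 :=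
  block_comb c292 b293 (Nat.zero_le _) (Nat.le_of_ble_eq_true rfl) rfl

theorem c294 : Block F al 0 75520 58940 :=
  block_comb c293 b294 (Nat.zero_le _) (Nat.le_of_ble_eq_true rfl) rfl

theorem c295 : Block F al 0 75776 59065 :=
  block_comb c294 b295 (Nat.zero_le _) (Nat.le_of_ble_eq_true rfl) rfl

theorem c296 : Block F al 0 76032 59232 :=
  block_comb c295 b296 (Nat.zero_le _) (Nat.le_of_ble_eq_true rfl) rfl

theorem c297 : Block F al 0 76288 59438 :=
  block_comb c296 b297 (Nat.zero_le _) (Nat.le_of_ble_eq_true rfl) rfl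

theorem c298 : Block F al 0 76544 59608 :=
  block_comb c297 b298 (Nat.zero_le _) (Nat.le_of_ble_eq_true rfl) rfl

theorem c299 : Block F al 0 76800 59766 :=
  block_comb c298 b299 (Nat.zero_le _) (Nat.le_of_ble_eq_true rfl) rfl

theorem c300 : Block F al 0 77056 59930 :=
  block_comb c299 b300 (Nat.zero_le _) (Nat.le_of_ble_eq_true rfl) rfl

theorem c301 : Block F al 0 77312 60126 :=
  block_comb c300 b301 (Nat.zero_le _) (Nat.le_of_ble_eq_true rfl) rfl

theorem c302 : Block F al 0 77568 60310 :=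
  block_comb c301 b302 (Nat.zero_le _) (Nat.le_of_ble_eq_true rfl) rfl

theorem c303 : Block F al 0 77824 60494 :=
  block_comb c302 b303 (Nat.zero_le _) (Nat.le_of_ble_eq_true rfl) rfl

theorem c304 : Block F al 0 78080 60668 :=
  block_comb c303 b304 (Nat.zero_le _) (Nat.le_of_ble_eq_true rfl) rfl

theorem c305 : Block F al 0 78336 60789 :=
  block_comb c304 b305 (Nat.zero_le _) (Nat.le_of_ble_eq_true rfl) rfl

theorem c306 : Block F al 0 78592 60967 :=
  block_comb c305 b306 (Nat.zero_le _) (Nat.le_of_ble_eq_true rfl) rfl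

theorem c307 : Block F al 0 78848 61130 :=
  block_comb c306 b307 (Nat.zero_le _) (Nat.le_of_ble_eq_true rfl) rfl

theorem c308 : Block F al 0 79104 61295 :=
  block_comb c307 b308 (Nat.zero_le _) (Nat.le_of_ble_eq_true rfl) rfl

theorem c309 : Block F al 0 79360 61431 :=
  block_comb c308 b309 (Nat.zero_le _) (Nat.le_of_ble_eq_true rfl) rfl

theorem c310 : Block F al 0 79616 61512 :=
  block_comb c309 b310 (Nat.zero_le _) (Nat.le_of_ble_eq_true rfl) rfl

theorem c311 : Block F al 0 79872 61660 :=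
  block_comb c310 b311 (Nat.zero_le _) (Nat.le_of_ble_eq_true rfl) rfl

theorem c312 : Block F al 0 80128 61806 :=
  block_comb c311 b312 (Nat.zero_le _) (Nat.le_of_ble_eq_true rfl) rfl

theorem c313 : Block F al 0 80384 62014 :=
  block_comb c312 b313 (Nat.zero_le _) (Nat.le_of_ble_eq_true rfl) rfl

theorem c314 : Block F al 0 80640 62168 :=
  block_comb c313 b314 (Nat.zero_le _) (Nat.le_of_ble_eq_true rfl) rfl

theorem c315 : Block F al 0 80896 62325 :=
  block_comb c314 b315 (Nat.zero_le _) (Nat.le_of_ble_eq_true rfl) rfl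

theorem c316 : Block F al 0 81152 62488 :=
  block_comb c315 b316 (Nat.zero_le _) (Nat.le_of_ble_eq_true rfl) rfl

theorem c317 : Block F al 0 81408 62641 :=
  block_comb c316 b317 (Nat.zero_le _) (Nat.le_of_ble_eq_true rfl) rfl

theorem c318 : Block F al 0 81664 62770 :=
  block_comb c317 b318 (Nat.zero_le _) (Nat.le_of_ble_eq_true rfl) rfl

theorem c319 : Block F al 0 81920 62963 :=
  block_comb c318 b319 (Nat.zero_le _) (Nat.le_of_ble_eq_true rfl) rfl

theorem c320 : Block F al 0 82176 63170 :=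
  block_comb c319 b320 (Nat.zero_le _) (Nat.le_of_ble_eq_true rfl) rfl

theorem c321 : Block F al 0 82432 63335 :=
  block_comb c320 b321 (Nat.zero_le _) (Nat.le_of_ble_eq_true rfl) rfl

theorem c322 : Block F al 0 82688 63518 :=
  block_comb c321 b322 (Nat.zero_le _) (Nat.le_of_ble_eq_true rfl) rfl

theorem c323 : Block F al 0 82944 63689 :=
  block_comb c322 b323 (Nat.zero_le _) (Nat.le_of_ble_eq_true rfl) rfl

theorem c324 : Block F al 0 83200 63827 :=
  block_comb c323 b324 (Nat.zero_le _) (Nat.le_of_ble_eq_true rfl) rfl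

theorem c325 : Block F al 0 83456 63966 :=
  block_comb c324 b325 (Nat.zero_le _) (Nat.le_of_ble_eq_true rfl) rfl

theorem c326 : Block F al 0 83712 64105 :=
  block_comb c325 b326 (Nat.zero_le _) (Nat.le_of_ble_eq_true rfl) rfl

theorem c327 : Block F al 0 83968 64255 :=
  block_comb c326 b327 (Nat.zero_le _) (Nat.le_of_ble_eq_true rfl) rfl

theorem c328 : Block F al 0 84224 64458 :=
  block_comb c327 b328 (Nat.zero_le _) (Nat.le_of_ble_eq_true rfl) rfl

theorem c329 : Block F al 0 84480 64644 :=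
  block_comb c328 b329 (Nat.zero_le _) (Nat.le_of_ble_eq_true rfl) rfl

theorem c330 : Block F al 0 84736 64803 :=
  block_comb c329 b330 (Nat.zero_le _) (Nat.le_of_ble_eq_true rfl) rfl

theorem c331 : Block F al 0 84992 64992 :=
  block_comb c330 b331 (Nat.zero_le _) (Nat.le_of_ble_eq_true rfl) rfl

theorem c332 : Block F al 0 85248 65153 :=
  block_comb c331 b332 (Nat.zero_le _) (Nat.le_of_ble_eq_true rfl) rfl

theorem c333 : Block F al 0 85504 65306 :=
  block_comb c332 b333 (Nat.zero_le _) (Nat.le_of_ble_eq_true rfl) rfl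

theorem c334 : Block F al 0 85760 65517 :=
  block_comb c333 b334 (Nat.zero_le _) (Nat.le_of_ble_eq_true rfl) rfl

theorem c335 : Block F al 0 86016 65703 :=
  block_comb c334 b335 (Nat.zero_le _) (Nat.le_of_ble_eq_true rfl) rfl

theorem c336 : Block F al 0 86272 65848 :=
  block_comb c335 b336 (Nat.zero_le _) (Nat.le_of_ble_eq_true rfl) rfl

theorem c337 : Block F al 0 86528 65985 :=
  block_comb c336 b337 (Nat.zero_le _) (Nat.le_of_ble_eq_true rfl) rfl

theorem c338 : Block F al 0 86784 66130 :=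
  block_comb c337 b338 (Nat.zero_le _) (Nat.le_of_ble_eq_true rfl) rfl

theorem c339 : Block F al 0 87040 66342 :=
  block_comb c338 b339 (Nat.zero_le _) (Nat.le_of_ble_eq_true rfl) rfl

theorem c340 : Block F al 0 87296 66496 :=
  block_comb c339 b340 (Nat.zero_le _) (Nat.le_of_ble_eq_true rfl) rfl

theorem c341 : Block F al 0 87552 66672 :=
  block_comb c340 b341 (Nat.zero_le _) (Nat.le_of_ble_eq_true rfl) rfl

theorem c342 : Block F al 0 87808 66792 :=
  block_comb c341 b342 (Nat.zero_le _) (Nat.le_of_ble_eq_true rfl) rfl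

theorem c343 : Block F al 0 88064 66976 :=
  block_comb c342 b343 (Nat.zero_le _) (Nat.le_of_ble_eq_true rfl) rfl

theorem c344 : Block F al 0 88320 67178 :=
  block_comb c343 b344 (Nat.zero_le _) (Nat.le_of_ble_eq_true rfl) rfl

theorem c345 : Block F al 0 88576 67354 :=
  block_comb c344 b345 (Nat.zero_le _) (Nat.le_of_ble_eq_true rfl) rfl

theorem c346 : Block F al 0 88832 67474 :=
  block_comb c345 b346 (Nat.zero_le _) (Nat.le_of_ble_eq_true rfl) rfl

theorem c347 : Block F al 0 89088 67652 :=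
  block_comb c346 b347 (Nat.zero_le _) (Nat.le_of_ble_eq_true rfl) rfl

theorem c348 : Block F al 0 89344 67772 :=
  block_comb c347 b348 (Nat.zero_le _) (Nat.le_of_ble_eq_true rfl) rfl

theorem c349 : Block F al 0 89600 67922 :=
  block_comb c348 b349 (Nat.zero_le _) (Nat.le_of_ble_eq_true rfl) rfl

theorem c350 : Block F al 0 89856 68094 :=
  block_comb c349 b350 (Nat.zero_le _) (Nat.le_of_ble_eq_true rfl) rfl

theorem c351 : Block F al 0 90112 68236 :=
  block_comb c350 b351 (Nat.zero_le _) (Nat.le_of_ble_eq_true rfl) rfl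

theorem c352 : Block F al 0 90368 68341 :=
  block_comb c351 b352 (Nat.zero_le _) (Nat.le_of_ble_eq_true rfl) rfl

theorem c353 : Block F al 0 90624 68446 :=
  block_comb c352 b353 (Nat.zero_le _) (Nat.le_of_ble_eq_true rfl) rfl

theorem c354 : Block F al 0 90880 68638 :=
  block_comb c353 b354 (Nat.zero_le _) (Nat.le_of_ble_eq_true rfl) rfl

theorem c355 : Block F al 0 91136 68813 :=
  block_comb c354 b355 (Nat.zero_le _) (Nat.le_of_ble_eq_true rfl) rfl

theorem c356 : Block F al 0 91392 68982 :=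
  block_comb c355 b356 (Nat.zero_le _) (Nat.le_of_ble_eq_true rfl) rfl

theorem c357 : Block F al 0 91648 69148 :=
  block_comb c356 b357 (Nat.zero_le _) (Nat.le_of_ble_eq_true rfl) rfl

theorem c358 : Block F al 0 91904 69258 :=
  block_comb c357 b358 (Nat.zero_le _) (Nat.le_of_ble_eq_true rfl) rfl

theorem c359 : Block F al 0 92160 69434 :=
  block_comb c358 b359 (Nat.zero_le _) (Nat.le_of_ble_eq_true rfl) rfl

theorem c360 : Block F al 0 92416 69631 :=
  block_comb c359 b360 (Nat.zero_le _) (Nat.le_of_ble_eq_true rfl) rfl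

theorem c361 : Block F al 0 92672 69738 :=
  block_comb c360 b361 (Nat.zero_le _) (Nat.le_of_ble_eq_true rfl) rfl

theorem c362 : Block F al 0 92928 69876 :=
  block_comb c361 b362 (Nat.zero_le _) (Nat.le_of_ble_eq_true rfl) rfl

theorem c363 : Block F al 0 93184 70039 :=
  block_comb c362 b363 (Nat.zero_le _) (Nat.le_of_ble_eq_true rfl) rfl

theorem c364 : Block F al 0 93440 70166 :=
  block_comb c363 b364 (Nat.zero_le _) (Nat.le_of_ble_eq_true rfl) rfl

theorem c365 : Block F al 0 93696 70294 :=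
  block_comb c364 b365 (Nat.zero_le _) (Nat.le_of_ble_eq_true rfl) rfl

theorem c366 : Block F al 0 93952 70472 :=
  block_comb c365 b366 (Nat.zero_le _) (Nat.le_of_ble_eq_true rfl) rfl

theorem c367 : Block F al 0 94208 70626 :=
  block_comb c366 b367 (Nat.zero_le _) (Nat.le_of_ble_eq_true rfl) rfl

theorem c368 : Block F al 0 94464 70763 :=
  block_comb c367 b368 (Nat.zero_le _) (Nat.le_of_ble_eq_true rfl) rfl

theorem c369 : Block F al 0 94720 70881 :=
  block_comb c368 b369 (Nat.zero_le _) (Nat.le_of_ble_eq_true rfl) rfl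

theorem c370 : Block F al 0 94976 70998 :=
  block_comb c369 b370 (Nat.zero_le _) (Nat.le_of_ble_eq_true rfl) rfl

theorem c371 : Block F al 0 95232 71147 :=
  block_comb c370 b371 (Nat.zero_le _) (Nat.le_of_ble_eq_true rfl) rfl

theorem c372 : Block F al 0 95488 71313 :=
  block_comb c371 b372 (Nat.zero_le _) (Nat.le_of_ble_eq_true rfl) rfl

theorem c373 : Block F al 0 95744 71471 :=
  block_comb c372 b373 (Nat.zero_le _) (Nat.le_of_ble_eq_true rfl) rfl

theorem c374 : Block F al 0 96000 71598 :=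
  block_comb c373 b374 (Nat.zero_le _) (Nat.le_of_ble_eq_true rfl) rfl

theorem c375 : Block F al 0 96256 71692 :=
  block_comb c374 b375 (Nat.zero_le _) (Nat.le_of_ble_eq_true rfl) rfl

theorem c376 : Block F al 0 96512 71826 :=
  block_comb c375 b376 (Nat.zero_le _) (Nat.le_of_ble_eq_true rfl) rfl

theorem c377 : Block F al 0 96768 72032 :=
  block_comb c376 b377 (Nat.zero_le _) (Nat.le_of_ble_eq_true rfl) rfl

theorem c378 : Block F al 0 97024 72196 :=
  block_comb c377 b378 (Nat.zero_le _) (Nat.le_of_ble_eq_true rfl) rfl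

theorem c379 : Block F al 0 97280 72332 :=
  block_comb c378 b379 (Nat.zero_le _) (Nat.le_of_ble_eq_true rfl) rfl

theorem c380 : Block F al 0 97536 72480 :=
  block_comb c379 b380 (Nat.zero_le _) (Nat.le_of_ble_eq_true rfl) rfl

theorem c381 : Block F al 0 97792 72650 :=
  block_comb c380 b381 (Nat.zero_le _) (Nat.le_of_ble_eq_true rfl) rfl

theorem c382 : Block F al 0 98048 72812 :=
  block_comb c381 b382 (Nat.zero_le _) (Nat.le_of_ble_eq_true rfl) rfl

theorem c383 : Block F al 0 98304 73006 :=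
  block_comb c382 b383 (Nat.zero_le _) (Nat.le_of_ble_eq_true rfl) rfl

theorem c384 : Block F al 0 98560 73168 :=
  block_comb c383 b384 (Nat.zero_le _) (Nat.le_of_ble_eq_true rfl) rfl

theorem c385 : Block F al 0 98816 73289 :=
  block_comb c384 b385 (Nat.zero_le _) (Nat.le_of_ble_eq_true rfl) rfl

theorem c386 : Block F al 0 99072 73431 :=
  block_comb c385 b386 (Nat.zero_le _) (Nat.le_of_ble_eq_true rfl) rfl

theorem c387 : Block F al 0 99328 73549 :=
  block_comb c386 b387 (Nat.zero_le _) (Nat.le_of_ble_eq_true rfl) rfl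

theorem c388 : Block F al 0 99584 73702 :=
  block_comb c387 b388 (Nat.zero_le _) (Nat.le_of_ble_eq_true rfl) rfl

theorem c389 : Block F al 0 99840 73885 :=
  block_comb c388 b389 (Nat.zero_le _) (Nat.le_of_ble_eq_true rfl) rfl

theorem c390 : Block F al 0 100096 74028 :=
  block_comb c389 b390 (Nat.zero_le _) (Nat.le_of_ble_eq_true rfl) rfl

theorem c391 : Block F al 0 100352 74172 :=
  block_comb c390 b391 (Nat.zero_le _) (Nat.le_of_ble_eq_true rfl) rfl

theorem c392 : Block F al 0 100608 74300 :=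
  block_comb c391 b392 (Nat.zero_le _) (Nat.le_of_ble_eq_true rfl) rfl

theorem c393 : Block F al 0 100864 74445 :=
  block_comb c392 b393 (Nat.zero_le _) (Nat.le_of_ble_eq_true rfl) rfl

theorem c394 : Block F al 0 101120 74598 :=
  block_comb c393 b394 (Nat.zero_le _) (Nat.le_of_ble_eq_true rfl) rfl

theorem c395 : Block F al 0 101376 74721 :=
  block_comb c394 b395 (Nat.zero_le _) (Nat.le_of_ble_eq_true rfl) rfl

theorem c396 : Block F al 0 101632 74864 :=
  block_comb c395 b396 (Nat.zero_le _) (Nat.le_of_ble_eq_true rfl) rfl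

theorem c397 : Block F al 0 101888 74968 :=
  block_comb c396 b397 (Nat.zero_le _) (Nat.le_of_ble_eq_true rfl) rfl

theorem c398 : Block F al 0 102144 75116 :=
  block_comb c397 b398 (Nat.zero_le _) (Nat.le_of_ble_eq_true rfl) rfl

theorem c399 : Block F al 0 102400 75228 :=
  block_comb c398 b399 (Nat.zero_le _) (Nat.le_of_ble_eq_true rfl) rfl

theorem c400 : Block F al 0 102656 75340 :=
  block_comb c399 b400 (Nat.zero_le _) (Nat.le_of_ble_eq_true rfl) rfl

theorem c401 : Block F al 0 102912 75490 :=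
  block_comb c400 b401 (Nat.zero_le _) (Nat.le_of_ble_eq_true rfl) rfl

theorem c402 : Block F al 0 103168 75608 :=
  block_comb c401 b402 (Nat.zero_le _) (Nat.le_of_ble_eq_true rfl) rfl

theorem c403 : Block F al 0 103424 75774 :=
  block_comb c402 b403 (Nat.zero_le _) (Nat.le_of_ble_eq_true rfl) rfl

theorem c404 : Block F al 0 103680 75938 :=
  block_comb c403 b404 (Nat.zero_le _) (Nat.le_of_ble_eq_true rfl) rfl

theorem c405 : Block F al 0 103936 76090 :=
  block_comb c404 b405 (Nat.zero_le _) (Nat.le_of_ble_eq_true rfl) rfl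

theorem c406 : Block F al 0 104192 76256 :=
  block_comb c405 b406 (Nat.zero_le _) (Nat.le_of_ble_eq_true rfl) rfl

theorem c407 : Block F al 0 104448 76408 :=
  block_comb c406 b407 (Nat.zero_le _) (Nat.le_of_ble_eq_true rfl) rfl

theorem c408 : Block F al 0 104704 76559 :=
  block_comb c407 b408 (Nat.zero_le _) (Nat.le_of_ble_eq_true rfl) rfl

theorem c409 : Block F al 0 104960 76688 :=
  block_comb c408 b409 (Nat.zero_le _) (Nat.le_of_ble_eq_true rfl) rfl

theorem c410 : Block F al 0 105216 76871 :=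
  block_comb c409 b410 (Nat.zero_le _) (Nat.le_of_ble_eq_true rfl) rfl

theorem c411 : Block F al 0 105472 77031 :=
  block_comb c410 b411 (Nat.zero_le _) (Nat.le_of_ble_eq_true rfl) rfl

theorem c412 : Block F al 0 105728 77180 :=
  block_comb c411 b412 (Nat.zero_le _) (Nat.le_of_ble_eq_true rfl) rfl

theorem c413 : Block F al 0 105984 77345 :=
  block_comb c412 b413 (Nat.zero_le _) (Nat.le_of_ble_eq_true rfl) rfl

theorem c414 : Block F al 0 106240 77445 :=
  block_comb c413 b414 (Nat.zero_le _) (Nat.le_of_ble_eq_true rfl) rfl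

theorem c415 : Block F al 0 106496 77603 :=
  block_comb c414 b415 (Nat.zero_le _) (Nat.le_of_ble_eq_true rfl) rfl

theorem c416 : Block F al 0 106752 77771 :=
  block_comb c415 b416 (Nat.zero_le _) (Nat.le_of_ble_eq_true rfl) rfl

theorem c417 : Block F al 0 107008 77876 :=
  block_comb c416 b417 (Nat.zero_le _) (Nat.le_of_ble_eq_true rfl) rfl

theorem c418 : Block F al 0 107264 78031 :=
  block_comb c417 b418 (Nat.zero_le _) (Nat.le_of_ble_eq_true rfl) rfl

theorem c419 : Block F al 0 107520 78113 :=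
  block_comb c418 b419 (Nat.zero_le _) (Nat.le_of_ble_eq_true rfl) rfl

theorem c420 : Block F al 0 107776 78272 :=
  block_comb c419 b420 (Nat.zero_le _) (Nat.le_of_ble_eq_true rfl) rfl

theorem c421 : Block F al 0 108032 78396 :=
  block_comb c420 b421 (Nat.zero_le _) (Nat.le_of_ble_eq_true rfl) rfl

theorem c422 : Block F al 0 108288 78580 :=
  block_comb c421 b422 (Nat.zero_le _) (Nat.le_of_ble_eq_true rfl) rfl

theorem c423 : Block F al 0 108544 78689 :=
  block_comb c422 b423 (Nat.zero_le _) (Nat.le_of_ble_eq_true rfl) rfl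

theorem c424 : Block F al 0 108800 78833 :=
  block_comb c423 b424 (Nat.zero_le _) (Nat.le_of_ble_eq_true rfl) rfl

theorem c425 : Block F al 0 109056 78929 :=
  block_comb c424 b425 (Nat.zero_le _) (Nat.le_of_ble_eq_true rfl) rfl

theorem c426 : Block F al 0 109312 79036 :=
  block_comb c425 b426 (Nat.zero_le _) (Nat.le_of_ble_eq_true rfl) rfl

theorem c427 : Block F al 0 109568 79151 :=
  block_comb c426 b427 (Nat.zero_le _) (Nat.le_of_ble_eq_true rfl) rfl

theorem c428 : Block F al 0 109824 79293 :=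
  block_comb c427 b428 (Nat.zero_le _) (Nat.le_of_ble_eq_true rfl) rfl

theorem c429 : Block F al 0 110080 79427 :=
  block_comb c428 b429 (Nat.zero_le _) (Nat.le_of_ble_eq_true rfl) rfl

theorem c430 : Block F al 0 110336 79581 :=
  block_comb c429 b430 (Nat.zero_le _) (Nat.le_of_ble_eq_true rfl) rfl

theorem c431 : Block F al 0 110592 79744 :=
  block_comb c430 b431 (Nat.zero_le _) (Nat.le_of_ble_eq_true rfl) rfl

theorem c432 : Block F al 0 110848 79916 :=
  block_comb c431 b432 (Nat.zero_le _) (Nat.le_of_ble_eq_true rfl) rfl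

theorem c433 : Block F al 0 111104 80050 :=
  block_comb c432 b433 (Nat.zero_le _) (Nat.le_of_ble_eq_true rfl) rfl

theorem c434 : Block F al 0 111360 80201 :=
  block_comb c433 b434 (Nat.zero_le _) (Nat.le_of_ble_eq_true rfl) rfl

theorem c435 : Block F al 0 111616 80336 :=
  block_comb c434 b435 (Nat.zero_le _) (Nat.le_of_ble_eq_true rfl) rfl

theorem c436 : Block F al 0 111872 80412 :=
  block_comb c435 b436 (Nat.zero_le _) (Nat.le_of_ble_eq_true rfl) rfl

theorem c437 : Block F al 0 112128 80523 :=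
  block_comb c436 b437 (Nat.zero_le _) (Nat.le_of_ble_eq_true rfl) rfl

theorem c438 : Block F al 0 112384 80622 :=
  block_comb c437 b438 (Nat.zero_le _) (Nat.le_of_ble_eq_true rfl) rfl

theorem c439 : Block F al 0 112640 80725 :=
  block_comb c438 b439 (Nat.zero_le _) (Nat.le_of_ble_eq_true rfl) rfl

theorem c440 : Block F al 0 112896 80889 :=
  block_comb c439 b440 (Nat.zero_le _) (Nat.le_of_ble_eq_true rfl) rfl

theorem c441 : Block F al 0 113152 80964 :=
  block_comb c440 b441 (Nat.zero_le _) (Nat.le_of_ble_eq_true rfl) rfl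

theorem c442 : Block F al 0 113408 81141 :=
  block_comb c441 b442 (Nat.zero_le _) (Nat.le_of_ble_eq_true rfl) rfl

theorem c443 : Block F al 0 113664 81323 :=
  block_comb c442 b443 (Nat.zero_le _) (Nat.le_of_ble_eq_true rfl) rfl

theorem c444 : Block F al 0 113920 81376 :=
  block_comb c443 b444 (Nat.zero_le _) (Nat.le_of_ble_eq_true rfl) rfl

theorem c445 : Block F al 0 114176 81480 :=
  block_comb c444 b445 (Nat.zero_le _) (Nat.le_of_ble_eq_true rfl) rfl

theorem c446 : Block F al 0 114432 81617 :=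
  block_comb c445 b446 (Nat.zero_le _) (Nat.le_of_ble_eq_true rfl) rfl

theorem c447 : Block F al 0 114688 81740 :=
  block_comb c446 b447 (Nat.zero_le _) (Nat.le_of_ble_eq_true rfl) rfl

theorem c448 : Block F al 0 114944 81883 :=
  block_comb c447 b448 (Nat.zero_le _) (Nat.le_of_ble_eq_true rfl) rfl

theorem c449 : Block F al 0 115200 82026 :=
  block_comb c448 b449 (Nat.zero_le _) (Nat.le_of_ble_eq_true rfl) rfl

theorem c450 : Block F al 0 115456 82208 :=
  block_comb c449 b450 (Nat.zero_le _) (Nat.le_of_ble_eq_true rfl) rfl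

theorem c451 : Block F al 0 115712 82364 :=
  block_comb c450 b451 (Nat.zero_le _) (Nat.le_of_ble_eq_true rfl) rfl

theorem c452 : Block F al 0 115968 82488 :=
  block_comb c451 b452 (Nat.zero_le _) (Nat.le_of_ble_eq_true rfl) rfl

theorem c453 : Block F al 0 116224 82581 :=
  block_comb c452 b453 (Nat.zero_le _) (Nat.le_of_ble_eq_true rfl) rfl

theorem c454 : Block F al 0 116480 82672 :=
  block_comb c453 b454 (Nat.zero_le _) (Nat.le_of_ble_eq_true rfl) rfl

theorem c455 : Block F al 0 116736 82751 :=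
  block_comb c454 b455 (Nat.zero_le _) (Nat.le_of_ble_eq_true rfl) rfl

theorem c456 : Block F al 0 116992 82844 :=
  block_comb c455 b456 (Nat.zero_le _) (Nat.le_of_ble_eq_true rfl) rfl

theorem c457 : Block F al 0 117248 82924 :=
  block_comb c456 b457 (Nat.zero_le _) (Nat.le_of_ble_eq_true rfl) rfl

theorem c458 : Block F al 0 117504 83061 :=
  block_comb c457 b458 (Nat.zero_le _) (Nat.le_of_ble_eq_true rfl) rfl

theorem c459 : Block F al 0 117760 83172 :=
  block_comb c458 b459 (Nat.zero_le _) (Nat.le_of_ble_eq_true rfl) rfl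

theorem c460 : Block F al 0 118016 83297 :=
  block_comb c459 b460 (Nat.zero_le _) (Nat.le_of_ble_eq_true rfl) rfl

theorem c461 : Block F al 0 118272 83434 :=
  block_comb c460 b461 (Nat.zero_le _) (Nat.le_of_ble_eq_true rfl) rfl

theorem c462 : Block F al 0 118528 83621 :=
  block_comb c461 b462 (Nat.zero_le _) (Nat.le_of_ble_eq_true rfl) rfl

theorem c463 : Block F al 0 118784 83770 :=
  block_comb c462 b463 (Nat.zero_le _) (Nat.le_of_ble_eq_true rfl) rfl

theorem c464 : Block F al 0 119040 83890 :=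
  block_comb c463 b464 (Nat.zero_le _) (Nat.le_of_ble_eq_true rfl) rfl

theorem c465 : Block F al 0 119296 83993 :=
  block_comb c464 b465 (Nat.zero_le _) (Nat.le_of_ble_eq_true rfl) rfl

theorem c466 : Block F al 0 119552 84125 :=
  block_comb c465 b466 (Nat.zero_le _) (Nat.le_of_ble_eq_true rfl) rfl

theorem c467 : Block F al 0 119808 84258 :=
  block_comb c466 b467 (Nat.zero_le _) (Nat.le_of_ble_eq_true rfl) rfl

theorem c468 : Block F al 0 120064 84357 :=
  block_comb c467 b468 (Nat.zero_le _) (Nat.le_of_ble_eq_true rfl) rfl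

theorem c469 : Block F al 0 120320 84470 :=
  block_comb c468 b469 (Nat.zero_le _) (Nat.le_of_ble_eq_true rfl) rfl

theorem c470 : Block F al 0 120576 84588 :=
  block_comb c469 b470 (Nat.zero_le _) (Nat.le_of_ble_eq_true rfl) rfl

theorem c471 : Block F al 0 120832 84732 :=
  block_comb c470 b471 (Nat.zero_le _) (Nat.le_of_ble_eq_true rfl) rfl

theorem c472 : Block F al 0 121088 84866 :=
  block_comb c471 b472 (Nat.zero_le _) (Nat.le_of_ble_eq_true rfl) rfl

theorem c473 : Block F al 0 121344 84993 :=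
  block_comb c472 b473 (Nat.zero_le _) (Nat.le_of_ble_eq_true rfl) rfl

theorem c474 : Block F al 0 121600 85102 :=
  block_comb c473 b474 (Nat.zero_le _) (Nat.le_of_ble_eq_true rfl) rfl

theorem c475 : Block F al 0 121856 85272 :=
  block_comb c474 b475 (Nat.zero_le _) (Nat.le_of_ble_eq_true rfl) rfl

theorem c476 : Block F al 0 122112 85411 :=
  block_comb c475 b476 (Nat.zero_le _) (Nat.le_of_ble_eq_true rfl) rfl

theorem c477 : Block F al 0 122368 85552 :=
  block_comb c476 b477 (Nat.zero_le _) (Nat.le_of_ble_eq_true rfl) rfl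

theorem c478 : Block F al 0 122624 85694 :=
  block_comb c477 b478 (Nat.zero_le _) (Nat.le_of_ble_eq_true rfl) rfl

theorem c479 : Block F al 0 122880 85810 :=
  block_comb c478 b479 (Nat.zero_le _) (Nat.le_of_ble_eq_true rfl) rfl

theorem c480 : Block F al 0 123136 85946 :=
  block_comb c479 b480 (Nat.zero_le _) (Nat.le_of_ble_eq_true rfl) rfl

theorem c481 : Block F al 0 123392 86050 :=
  block_comb c480 b481 (Nat.zero_le _) (Nat.le_of_ble_eq_true rfl) rfl

theorem c482 : Block F al 0 123648 86132 :=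
  block_comb c481 b482 (Nat.zero_le _) (Nat.le_of_ble_eq_true rfl) rfl

theorem c483 : Block F al 0 123904 86208 :=
  block_comb c482 b483 (Nat.zero_le _) (Nat.le_of_ble_eq_true rfl) rfl

theorem c484 : Block F al 0 124160 86356 :=
  block_comb c483 b484 (Nat.zero_le _) (Nat.le_of_ble_eq_true rfl) rfl

theorem c485 : Block F al 0 124416 86446 :=
  block_comb c484 b485 (Nat.zero_le _) (Nat.le_of_ble_eq_true rfl) rfl

theorem c486 : Block F al 0 124672 86582 :=
  block_comb c485 b486 (Nat.zero_le _) (Nat.le_of_ble_eq_true rfl) rfl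

theorem c487 : Block F al 0 124928 86724 :=
  block_comb c486 b487 (Nat.zero_le _) (Nat.le_of_ble_eq_true rfl) rfl

theorem c488 : Block F al 0 125184 86792 :=
  block_comb c487 b488 (Nat.zero_le _) (Nat.le_of_ble_eq_true rfl) rfl

theorem c489 : Block F al 0 125440 86874 :=
  block_comb c488 b489 (Nat.zero_le _) (Nat.le_of_ble_eq_true rfl) rfl

theorem c490 : Block F al 0 125696 87037 :=
  block_comb c489 b490 (Nat.zero_le _) (Nat.le_of_ble_eq_true rfl) rfl

theorem c491 : Block F al 0 125952 87192 :=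
  block_comb c490 b491 (Nat.zero_le _) (Nat.le_of_ble_eq_true rfl) rfl

theorem c492 : Block F al 0 126208 87276 :=
  block_comb c491 b492 (Nat.zero_le _) (Nat.le_of_ble_eq_true rfl) rfl

theorem c493 : Block F al 0 126464 87338 :=
  block_comb c492 b493 (Nat.zero_le _) (Nat.le_of_ble_eq_true rfl) rfl

theorem c494 : Block F al 0 126720 87434 :=
  block_comb c493 b494 (Nat.zero_le _) (Nat.le_of_ble_eq_true rfl) rfl

theorem c495 : Block F al 0 126976 87532 :=
  block_comb c494 b495 (Nat.zero_le _) (Nat.le_of_ble_eq_true rfl) rfl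

theorem c496 : Block F al 0 127232 87625 :=
  block_comb c495 b496 (Nat.zero_le _) (Nat.le_of_ble_eq_true rfl) rfl

theorem c497 : Block F al 0 127488 87755 :=
  block_comb c496 b497 (Nat.zero_le _) (Nat.le_of_ble_eq_true rfl) rfl

theorem c498 : Block F al 0 127744 87829 :=
  block_comb c497 b498 (Nat.zero_le _) (Nat.le_of_ble_eq_true rfl) rfl

theorem c499 : Block F al 0 128000 87972 :=
  block_comb c498 b499 (Nat.zero_le _) (Nat.le_of_ble_eq_true rfl) rfl

theorem c500 : Block F al 0 128256 88097 :=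
  block_comb c499 b500 (Nat.zero_le _) (Nat.le_of_ble_eq_true rfl) rfl

theorem c501 : Block F al 0 128512 88293 :=
  block_comb c500 b501 (Nat.zero_le _) (Nat.le_of_ble_eq_true rfl) rfl

theorem c502 : Block F al 0 128768 88429 :=
  block_comb c501 b502 (Nat.zero_le _) (Nat.le_of_ble_eq_true rfl) rfl

theorem c503 : Block F al 0 129024 88560 :=
  block_comb c502 b503 (Nat.zero_le _) (Nat.le_of_ble_eq_true rfl) rfl

theorem c504 : Block F al 0 129280 88642 :=
  block_comb c503 b504 (Nat.zero_le _) (Nat.le_of_ble_eq_true rfl) rfl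

theorem c505 : Block F al 0 129536 88800 :=
  block_comb c504 b505 (Nat.zero_le _) (Nat.le_of_ble_eq_true rfl) rfl

theorem c506 : Block F al 0 129792 88918 :=
  block_comb c505 b506 (Nat.zero_le _) (Nat.le_of_ble_eq_true rfl) rfl

theorem c507 : Block F al 0 130048 89078 :=
  block_comb c506 b507 (Nat.zero_le _) (Nat.le_of_ble_eq_true rfl) rfl

theorem c508 : Block F al 0 130304 89248 :=
  block_comb c507 b508 (Nat.zero_le _) (Nat.le_of_ble_eq_true rfl) rfl

theorem c509 : Block F al 0 130560 89399 :=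
  block_comb c508 b509 (Nat.zero_le _) (Nat.le_of_ble_eq_true rfl) rfl

theorem c510 : Block F al 0 130816 89553 :=
  block_comb c509 b510 (Nat.zero_le _) (Nat.le_of_ble_eq_true rfl) rfl

theorem c511 : Block F al 0 131072 89712 :=
  block_comb c510 b511 (Nat.zero_le _) (Nat.le_of_ble_eq_true rfl) rfl

theorem c512 : Block F al 0 131328 89828 :=
  block_comb c511 b512 (Nat.zero_le _) (Nat.le_of_ble_eq_true rfl) rfl

theorem c513 : Block F al 0 131584 89978 :=
  block_comb c512 b513 (Nat.zero_le _) (Nat.le_of_ble_eq_true rfl) rfl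

theorem c514 : Block F al 0 131840 90114 :=
  block_comb c513 b514 (Nat.zero_le _) (Nat.le_of_ble_eq_true rfl) rfl

theorem c515 : Block F al 0 132096 90196 :=
  block_comb c514 b515 (Nat.zero_le _) (Nat.le_of_ble_eq_true rfl) rfl

theorem c516 : Block F al 0 132352 90340 :=
  block_comb c515 b516 (Nat.zero_le _) (Nat.le_of_ble_eq_true rfl) rfl

theorem c517 : Block F al 0 132608 90428 :=
  block_comb c516 b517 (Nat.zero_le _) (Nat.le_of_ble_eq_true rfl) rfl

theorem c518 : Block F al 0 132864 90550 :=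
  block_comb c517 b518 (Nat.zero_le _) (Nat.le_of_ble_eq_true rfl) rfl

theorem c519 : Block F al 0 133120 90738 :=
  block_comb c518 b519 (Nat.zero_le _) (Nat.le_of_ble_eq_true rfl) rfl

theorem c520 : Block F al 0 133376 90846 :=
  block_comb c519 b520 (Nat.zero_le _) (Nat.le_of_ble_eq_true rfl) rfl

theorem c521 : Block F al 0 133632 90970 :=
  block_comb c520 b521 (Nat.zero_le _) (Nat.le_of_ble_eq_true rfl) rfl

theorem c522 : Block F al 0 133888 91060 :=
  block_comb c521 b522 (Nat.zero_le _) (Nat.le_of_ble_eq_true rfl) rfl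

theorem c523 : Block F al 0 134144 91130 :=
  block_comb c522 b523 (Nat.zero_le _) (Nat.le_of_ble_eq_true rfl) rfl

theorem c524 : Block F al 0 134400 91206 :=
  block_comb c523 b524 (Nat.zero_le _) (Nat.le_of_ble_eq_true rfl) rfl

theorem c525 : Block F al 0 134656 91344 :=
  block_comb c524 b525 (Nat.zero_le _) (Nat.le_of_ble_eq_true rfl) rfl

theorem c526 : Block F al 0 134912 91468 :=
  block_comb c525 b526 (Nat.zero_le _) (Nat.le_of_ble_eq_true rfl) rfl

theorem c527 : Block F al 0 135168 91616 :=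
  block_comb c526 b527 (Nat.zero_le _) (Nat.le_of_ble_eq_true rfl) rfl

theorem c528 : Block F al 0 135424 91780 :=
  block_comb c527 b528 (Nat.zero_le _) (Nat.le_of_ble_eq_true rfl) rfl

theorem c529 : Block F al 0 135680 91887 :=
  block_comb c528 b529 (Nat.zero_le _) (Nat.le_of_ble_eq_true rfl) rfl

theorem c530 : Block F al 0 135936 92010 :=
  block_comb c529 b530 (Nat.zero_le _) (Nat.le_of_ble_eq_true rfl) rfl

theorem c531 : Block F al 0 136192 92127 :=
  block_comb c530 b531 (Nat.zero_le _) (Nat.le_of_ble_eq_true rfl) rfl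

theorem c532 : Block F al 0 136448 92244 :=
  block_comb c531 b532 (Nat.zero_le _) (Nat.le_of_ble_eq_true rfl) rfl

theorem c533 : Block F al 0 136704 92396 :=
  block_comb c532 b533 (Nat.zero_le _) (Nat.le_of_ble_eq_true rfl) rfl

theorem c534 : Block F al 0 136960 92478 :=
  block_comb c533 b534 (Nat.zero_le _) (Nat.le_of_ble_eq_true rfl) rfl

theorem c535 : Block F al 0 137216 92609 :=
  block_comb c534 b535 (Nat.zero_le _) (Nat.le_of_ble_eq_true rfl) rfl

theorem c536 : Block F al 0 137472 92696 :=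
  block_comb c535 b536 (Nat.zero_le _) (Nat.le_of_ble_eq_true rfl) rfl

theorem c537 : Block F al 0 137728 92830 :=
  block_comb c536 b537 (Nat.zero_le _) (Nat.le_of_ble_eq_true rfl) rfl

theorem c538 : Block F al 0 137984 92986 :=
  block_comb c537 b538 (Nat.zero_le _) (Nat.le_of_ble_eq_true rfl) rfl

theorem c539 : Block F al 0 138240 93154 :=
  block_comb c538 b539 (Nat.zero_le _) (Nat.le_of_ble_eq_true rfl) rfl

theorem c540 : Block F al 0 138496 93332 :=
  block_comb c539 b540 (Nat.zero_le _) (Nat.le_of_ble_eq_true rfl) rfl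

theorem c541 : Block F al 0 138752 93478 :=
  block_comb c540 b541 (Nat.zero_le _) (Nat.le_of_ble_eq_true rfl) rfl

theorem c542 : Block F al 0 139008 93582 :=
  block_comb c541 b542 (Nat.zero_le _) (Nat.le_of_ble_eq_true rfl) rfl

theorem c543 : Block F al 0 139264 93712 :=
  block_comb c542 b543 (Nat.zero_le _) (Nat.le_of_ble_eq_true rfl) rfl

theorem c544 : Block F al 0 139520 93839 :=
  block_comb c543 b544 (Nat.zero_le _) (Nat.le_of_ble_eq_true rfl) rfl

theorem c545 : Block F al 0 139776 93976 :=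
  block_comb c544 b545 (Nat.zero_le _) (Nat.le_of_ble_eq_true rfl) rfl

theorem c546 : Block F al 0 140032 94081 :=
  block_comb c545 b546 (Nat.zero_le _) (Nat.le_of_ble_eq_true rfl) rfl

theorem c547 : Block F al 0 140288 94169 :=
  block_comb c546 b547 (Nat.zero_le _) (Nat.le_of_ble_eq_true rfl) rfl

theorem c548 : Block F al 0 140544 94282 :=
  block_comb c547 b548 (Nat.zero_le _) (Nat.le_of_ble_eq_true rfl) rfl

theorem c549 : Block F al 0 140800 94344 :=
  block_comb c548 b549 (Nat.zero_le _) (Nat.le_of_ble_eq_true rfl) rfl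

theorem c550 : Block F al 0 141056 94448 :=
  block_comb c549 b550 (Nat.zero_le _) (Nat.le_of_ble_eq_true rfl) rfl

theorem c551 : Block F al 0 141312 94585 :=
  block_comb c550 b551 (Nat.zero_le _) (Nat.le_of_ble_eq_true rfl) rfl

theorem c552 : Block F al 0 141568 94756 :=
  block_comb c551 b552 (Nat.zero_le _) (Nat.le_of_ble_eq_true rfl) rfl

theorem c553 : Block F al 0 141824 94925 :=
  block_comb c552 b553 (Nat.zero_le _) (Nat.le_of_ble_eq_true rfl) rfl

theorem c554 : Block F al 0 142080 95079 :=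
  block_comb c553 b554 (Nat.zero_le _) (Nat.le_of_ble_eq_true rfl) rfl

theorem c555 : Block F al 0 142336 95200 :=
  block_comb c554 b555 (Nat.zero_le _) (Nat.le_of_ble_eq_true rfl) rfl

theorem c556 : Block F al 0 142592 95308 :=
  block_comb c555 b556 (Nat.zero_le _) (Nat.le_of_ble_eq_true rfl) rfl

theorem c557 : Block F al 0 142848 95461 :=
  block_comb c556 b557 (Nat.zero_le _) (Nat.le_of_ble_eq_true rfl) rfl

theorem c558 : Block F al 0 143104 95648 :=
  block_comb c557 b558 (Nat.zero_le _) (Nat.le_of_ble_eq_true rfl) rfl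

theorem c559 : Block F al 0 143360 95762 :=
  block_comb c558 b559 (Nat.zero_le _) (Nat.le_of_ble_eq_true rfl) rfl

theorem c560 : Block F al 0 143616 95888 :=
  block_comb c559 b560 (Nat.zero_le _) (Nat.le_of_ble_eq_true rfl) rfl

theorem c561 : Block F al 0 143872 96032 :=
  block_comb c560 b561 (Nat.zero_le _) (Nat.le_of_ble_eq_true rfl) rfl

theorem c562 : Block F al 0 144128 96143 :=
  block_comb c561 b562 (Nat.zero_le _) (Nat.le_of_ble_eq_true rfl) rfl

theorem c563 : Block F al 0 144384 96309 :=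
  block_comb c562 b563 (Nat.zero_le _) (Nat.le_of_ble_eq_true rfl) rfl

theorem c564 : Block F al 0 144640 96448 :=
  block_comb c563 b564 (Nat.zero_le _) (Nat.le_of_ble_eq_true rfl) rfl

theorem c565 : Block F al 0 144896 96586 :=
  block_comb c564 b565 (Nat.zero_le _) (Nat.le_of_ble_eq_true rfl) rfl

theorem c566 : Block F al 0 145152 96722 :=
  block_comb c565 b566 (Nat.zero_le _) (Nat.le_of_ble_eq_true rfl) rfl

theorem c567 : Block F al 0 145408 96808 :=
  block_comb c566 b567 (Nat.zero_le _) (Nat.le_of_ble_eq_true rfl) rfl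

theorem c568 : Block F al 0 145664 96910 :=
  block_comb c567 b568 (Nat.zero_le _) (Nat.le_of_ble_eq_true rfl) rfl

theorem c569 : Block F al 0 145920 97028 :=
  block_comb c568 b569 (Nat.zero_le _) (Nat.le_of_ble_eq_true rfl) rfl

theorem c570 : Block F al 0 146176 97134 :=
  block_comb c569 b570 (Nat.zero_le _) (Nat.le_of_ble_eq_true rfl) rfl

theorem c571 : Block F al 0 146432 97308 :=
  block_comb c570 b571 (Nat.zero_le _) (Nat.le_of_ble_eq_true rfl) rfl

theorem c572 : Block F al 0 146688 97457 :=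
  block_comb c571 b572 (Nat.zero_le _) (Nat.le_of_ble_eq_true rfl) rfl

theorem c573 : Block F al 0 146944 97571 :=
  block_comb c572 b573 (Nat.zero_le _) (Nat.le_of_ble_eq_true rfl) rfl

theorem c574 : Block F al 0 147200 97717 :=
  block_comb c573 b574 (Nat.zero_le _) (Nat.le_of_ble_eq_true rfl) rfl

theorem c575 : Block F al 0 147456 97838 :=
  block_comb c574 b575 (Nat.zero_le _) (Nat.le_of_ble_eq_true rfl) rfl

theorem c576 : Block F al 0 147712 97903 :=
  block_comb c575 b576 (Nat.zero_le _) (Nat.le_of_ble_eq_true rfl) rfl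

theorem c577 : Block F al 0 147968 98016 :=
  block_comb c576 b577 (Nat.zero_le _) (Nat.le_of_ble_eq_true rfl) rfl

theorem c578 : Block F al 0 148224 98171 :=
  block_comb c577 b578 (Nat.zero_le _) (Nat.le_of_ble_eq_true rfl) rfl

theorem c579 : Block F al 0 148480 98323 :=
  block_comb c578 b579 (Nat.zero_le _) (Nat.le_of_ble_eq_true rfl) rfl

theorem c580 : Block F al 0 148736 98473 :=
  block_comb c579 b580 (Nat.zero_le _) (Nat.le_of_ble_eq_true rfl) rfl

theorem c581 : Block F al 0 148992 98581 :=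
  block_comb c580 b581 (Nat.zero_le _) (Nat.le_of_ble_eq_true rfl) rfl

theorem c582 : Block F al 0 149248 98712 :=
  block_comb c581 b582 (Nat.zero_le _) (Nat.le_of_ble_eq_true rfl) rfl

theorem c583 : Block F al 0 149504 98792 :=
  block_comb c582 b583 (Nat.zero_le _) (Nat.le_of_ble_eq_true rfl) rfl

theorem c584 : Block F al 0 149760 98955 :=
  block_comb c583 b584 (Nat.zero_le _) (Nat.le_of_ble_eq_true rfl) rfl

theorem c585 : Block F al 0 150016 99080 :=
  block_comb c584 b585 (Nat.zero_le _) (Nat.le_of_ble_eq_true rfl) rfl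

theorem c586 : Block F al 0 150272 99160 :=
  block_comb c585 b586 (Nat.zero_le _) (Nat.le_of_ble_eq_true rfl) rfl

theorem c587 : Block F al 0 150528 99257 :=
  block_comb c586 b587 (Nat.zero_le _) (Nat.le_of_ble_eq_true rfl) rfl

theorem c588 : Block F al 0 150784 99392 :=
  block_comb c587 b588 (Nat.zero_le _) (Nat.le_of_ble_eq_true rfl) rfl

theorem c589 : Block F al 0 151040 99518 :=
  block_comb c588 b589 (Nat.zero_le _) (Nat.le_of_ble_eq_true rfl) rfl

theorem c590 : Block F al 0 151296 99660 :=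
  block_comb c589 b590 (Nat.zero_le _) (Nat.le_of_ble_eq_true rfl) rfl

theorem c591 : Block F al 0 151552 99775 :=
  block_comb c590 b591 (Nat.zero_le _) (Nat.le_of_ble_eq_true rfl) rfl

theorem c592 : Block F al 0 151808 99820 :=
  block_comb c591 b592 (Nat.zero_le _) (Nat.le_of_ble_eq_true rfl) rfl

theorem c593 : Block F al 0 152064 99930 :=
  block_comb c592 b593 (Nat.zero_le _) (Nat.le_of_ble_eq_true rfl) rfl

theorem c594 : Block F al 0 152320 100001 :=
  block_comb c593 b594 (Nat.zero_le _) (Nat.le_of_ble_eq_true rfl) rfl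

theorem c595 : Block F al 0 152576 100098 :=
  block_comb c594 b595 (Nat.zero_le _) (Nat.le_of_ble_eq_true rfl) rfl

theorem c596 : Block F al 0 152832 100243 :=
  block_comb c595 b596 (Nat.zero_le _) (Nat.le_of_ble_eq_true rfl) rfl

theorem c597 : Block F al 0 153088 100352 :=
  block_comb c596 b597 (Nat.zero_le _) (Nat.le_of_ble_eq_true rfl) rfl

theorem c598 : Block F al 0 153344 100496 :=
  block_comb c597 b598 (Nat.zero_le _) (Nat.le_of_ble_eq_true rfl) rfl

theorem c599 : Block F al 0 153600 100602 :=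
  block_comb c598 b599 (Nat.zero_le _) (Nat.le_of_ble_eq_true rfl) rfl

theorem c600 : Block F al 0 153856 100769 :=
  block_comb c599 b600 (Nat.zero_le _) (Nat.le_of_ble_eq_true rfl) rfl

theorem c601 : Block F al 0 154112 100878 :=
  block_comb c600 b601 (Nat.zero_le _) (Nat.le_of_ble_eq_true rfl) rfl

theorem c602 : Block F al 0 154368 101028 :=
  block_comb c601 b602 (Nat.zero_le _) (Nat.le_of_ble_eq_true rfl) rfl

theorem c603 : Block F al 0 154624 101080 :=
  block_comb c602 b603 (Nat.zero_le _) (Nat.le_of_ble_eq_true rfl) rfl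

theorem c604 : Block F al 0 154880 101238 :=
  block_comb c603 b604 (Nat.zero_le _) (Nat.le_of_ble_eq_true rfl) rfl

theorem c605 : Block F al 0 155136 101360 :=
  block_comb c604 b605 (Nat.zero_le _) (Nat.le_of_ble_eq_true rfl) rfl

theorem c606 : Block F al 0 155392 101512 :=
  block_comb c605 b606 (Nat.zero_le _) (Nat.le_of_ble_eq_true rfl) rfl

theorem c607 : Block F al 0 155648 101628 :=
  block_comb c606 b607 (Nat.zero_le _) (Nat.le_of_ble_eq_true rfl) rfl

theorem c608 : Block F al 0 155904 101696 :=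
  block_comb c607 b608 (Nat.zero_le _) (Nat.le_of_ble_eq_true rfl) rfl

theorem c609 : Block F al 0 156160 101792 :=
  block_comb c608 b609 (Nat.zero_le _) (Nat.le_of_ble_eq_true rfl) rfl

theorem c610 : Block F al 0 156416 101910 :=
  block_comb c609 b610 (Nat.zero_le _) (Nat.le_of_ble_eq_true rfl) rfl

theorem c611 : Block F al 0 156672 102041 :=
  block_comb c610 b611 (Nat.zero_le _) (Nat.le_of_ble_eq_true rfl) rfl

theorem c612 : Block F al 0 156928 102134 :=
  block_comb c611 b612 (Nat.zero_le _) (Nat.le_of_ble_eq_true rfl) rfl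

theorem c613 : Block F al 0 157184 102220 :=
  block_comb c612 b613 (Nat.zero_le _) (Nat.le_of_ble_eq_true rfl) rfl

theorem c614 : Block F al 0 157440 102310 :=
  block_comb c613 b614 (Nat.zero_le _) (Nat.le_of_ble_eq_true rfl) rfl

theorem c615 : Block F al 0 157696 102430 :=
  block_comb c614 b615 (Nat.zero_le _) (Nat.le_of_ble_eq_true rfl) rfl

theorem c616 : Block F al 0 157952 102581 :=
  block_comb c615 b616 (Nat.zero_le _) (Nat.le_of_ble_eq_true rfl) rfl

theorem c617 : Block F al 0 158208 102706 :=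
  block_comb c616 b617 (Nat.zero_le _) (Nat.le_of_ble_eq_true rfl) rfl

theorem c618 : Block F al 0 158464 102802 :=
  block_comb c617 b618 (Nat.zero_le _) (Nat.le_of_ble_eq_true rfl) rfl

theorem c619 : Block F al 0 158720 102936 :=
  block_comb c618 b619 (Nat.zero_le _) (Nat.le_of_ble_eq_true rfl) rfl

theorem c620 : Block F al 0 158976 103026 :=
  block_comb c619 b620 (Nat.zero_le _) (Nat.le_of_ble_eq_true rfl) rfl

theorem c621 : Block F al 0 159232 103105 :=
  block_comb c620 b621 (Nat.zero_le _) (Nat.le_of_ble_eq_true rfl) rfl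

theorem c622 : Block F al 0 159488 103190 :=
  block_comb c621 b622 (Nat.zero_le _) (Nat.le_of_ble_eq_true rfl) rfl

theorem c623 : Block F al 0 159744 103278 :=
  block_comb c622 b623 (Nat.zero_le _) (Nat.le_of_ble_eq_true rfl) rfl

theorem c624 : Block F al 0 160000 103402 :=
  block_comb c623 b624 (Nat.zero_le _) (Nat.le_of_ble_eq_true rfl) rfl

theorem c625 : Block F al 0 160256 103537 :=
  block_comb c624 b625 (Nat.zero_le _) (Nat.le_of_ble_eq_true rfl) rfl

theorem c626 : Block F al 0 160512 103672 :=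
  block_comb c625 b626 (Nat.zero_le _) (Nat.le_of_ble_eq_true rfl) rfl

theorem c627 : Block F al 0 160768 103758 :=
  block_comb c626 b627 (Nat.zero_le _) (Nat.le_of_ble_eq_true rfl) rfl

theorem c628 : Block F al 0 161024 103854 :=
  block_comb c627 b628 (Nat.zero_le _) (Nat.le_of_ble_eq_true rfl) rfl

theorem c629 : Block F al 0 161280 103932 :=
  block_comb c628 b629 (Nat.zero_le _) (Nat.le_of_ble_eq_true rfl) rfl

theorem c630 : Block F al 0 161536 104040 :=
  block_comb c629 b630 (Nat.zero_le _) (Nat.le_of_ble_eq_true rfl) rfl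

theorem c631 : Block F al 0 161792 104091 :=
  block_comb c630 b631 (Nat.zero_le _) (Nat.le_of_ble_eq_true rfl) rfl

theorem c632 : Block F al 0 162048 104200 :=
  block_comb c631 b632 (Nat.zero_le _) (Nat.le_of_ble_eq_true rfl) rfl

theorem c633 : Block F al 0 162304 104344 :=
  block_comb c632 b633 (Nat.zero_le _) (Nat.le_of_ble_eq_true rfl) rfl

theorem c634 : Block F al 0 162560 104522 :=
  block_comb c633 b634 (Nat.zero_le _) (Nat.le_of_ble_eq_true rfl) rfl

theorem c635 : Block F al 0 162816 104672 :=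
  block_comb c634 b635 (Nat.zero_le _) (Nat.le_of_ble_eq_true rfl) rfl

theorem c636 : Block F al 0 163072 104792 :=
  block_comb c635 b636 (Nat.zero_le _) (Nat.le_of_ble_eq_true rfl) rfl

theorem c637 : Block F al 0 163328 104890 :=
  block_comb c636 b637 (Nat.zero_le _) (Nat.le_of_ble_eq_true rfl) rfl

theorem c638 : Block F al 0 163584 104994 :=
  block_comb c637 b638 (Nat.zero_le _) (Nat.le_of_ble_eq_true rfl) rfl

theorem c639 : Block F al 0 163840 105086 :=
  block_comb c638 b639 (Nat.zero_le _) (Nat.le_of_ble_eq_true rfl) rfl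

theorem c640 : Block F al 0 164096 105242 :=
  block_comb c639 b640 (Nat.zero_le _) (Nat.le_of_ble_eq_true rfl) rfl

theorem c641 : Block F al 0 164352 105337 :=
  block_comb c640 b641 (Nat.zero_le _) (Nat.le_of_ble_eq_true rfl) rfl

theorem c642 : Block F al 0 164608 105478 :=
  block_comb c641 b642 (Nat.zero_le _) (Nat.le_of_ble_eq_true rfl) rfl

theorem c643 : Block F al 0 164864 105607 :=
  block_comb c642 b643 (Nat.zero_le _) (Nat.le_of_ble_eq_true rfl) rfl

theorem c644 : Block F al 0 165120 105740 :=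
  block_comb c643 b644 (Nat.zero_le _) (Nat.le_of_ble_eq_true rfl) rfl

theorem c645 : Block F al 0 165376 105852 :=
  block_comb c644 b645 (Nat.zero_le _) (Nat.le_of_ble_eq_true rfl) rfl

theorem c646 : Block F al 0 165632 105956 :=
  block_comb c645 b646 (Nat.zero_le _) (Nat.le_of_ble_eq_true rfl) rfl

theorem c647 : Block F al 0 165888 106044 :=
  block_comb c646 b647 (Nat.zero_le _) (Nat.le_of_ble_eq_true rfl) rfl

theorem c648 : Block F al 0 166144 106116 :=
  block_comb c647 b648 (Nat.zero_le _) (Nat.le_of_ble_eq_true rfl) rfl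

theorem c649 : Block F al 0 166400 106248 :=
  block_comb c648 b649 (Nat.zero_le _) (Nat.le_of_ble_eq_true rfl) rfl

theorem c650 : Block F al 0 166656 106333 :=
  block_comb c649 b650 (Nat.zero_le _) (Nat.le_of_ble_eq_true rfl) rfl

theorem c651 : Block F al 0 166912 106403 :=
  block_comb c650 b651 (Nat.zero_le _) (Nat.le_of_ble_eq_true rfl) rfl

theorem c652 : Block F al 0 167168 106510 :=
  block_comb c651 b652 (Nat.zero_le _) (Nat.le_of_ble_eq_true rfl) rfl

theorem c653 : Block F al 0 167424 106625 :=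
  block_comb c652 b653 (Nat.zero_le _) (Nat.le_of_ble_eq_true rfl) rfl

theorem c654 : Block F al 0 167680 106778 :=
  block_comb c653 b654 (Nat.zero_le _) (Nat.le_of_ble_eq_true rfl) rfl

theorem c655 : Block F al 0 167936 106882 :=
  block_comb c654 b655 (Nat.zero_le _) (Nat.le_of_ble_eq_true rfl) rfl

theorem c656 : Block F al 0 168192 107003 :=
  block_comb c655 b656 (Nat.zero_le _) (Nat.le_of_ble_eq_true rfl) rfl

theorem c657 : Block F al 0 168448 107084 :=
  block_comb c656 b657 (Nat.zero_le _) (Nat.le_of_ble_eq_true rfl) rfl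

theorem c658 : Block F al 0 168704 107182 :=
  block_comb c657 b658 (Nat.zero_le _) (Nat.le_of_ble_eq_true rfl) rfl

theorem c659 : Block F al 0 168960 107256 :=
  block_comb c658 b659 (Nat.zero_le _) (Nat.le_of_ble_eq_true rfl) rfl

theorem c660 : Block F al 0 169216 107363 :=
  block_comb c659 b660 (Nat.zero_le _) (Nat.le_of_ble_eq_true rfl) rfl

theorem c661 : Block F al 0 169472 107464 :=
  block_comb c660 b661 (Nat.zero_le _) (Nat.le_of_ble_eq_true rfl) rfl

theorem c662 : Block F al 0 169728 107539 :=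
  block_comb c661 b662 (Nat.zero_le _) (Nat.le_of_ble_eq_true rfl) rfl

theorem c663 : Block F al 0 169984 107652 :=
  block_comb c662 b663 (Nat.zero_le _) (Nat.le_of_ble_eq_true rfl) rfl

theorem c664 : Block F al 0 170240 107750 :=
  block_comb c663 b664 (Nat.zero_le _) (Nat.le_of_ble_eq_true rfl) rfl

theorem c665 : Block F al 0 170496 107846 :=
  block_comb c664 b665 (Nat.zero_le _) (Nat.le_of_ble_eq_true rfl) rfl

theorem c666 : Block F al 0 170752 107902 :=
  block_comb c665 b666 (Nat.zero_le _) (Nat.le_of_ble_eq_true rfl) rfl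

theorem c667 : Block F al 0 171008 107984 :=
  block_comb c666 b667 (Nat.zero_le _) (Nat.le_of_ble_eq_true rfl) rfl

theorem c668 : Block F al 0 171264 108080 :=
  block_comb c667 b668 (Nat.zero_le _) (Nat.le_of_ble_eq_true rfl) rfl

theorem c669 : Block F al 0 171520 108156 :=
  block_comb c668 b669 (Nat.zero_le _) (Nat.le_of_ble_eq_true rfl) rfl

theorem c670 : Block F al 0 171776 108232 :=
  block_comb c669 b670 (Nat.zero_le _) (Nat.le_of_ble_eq_true rfl) rfl

theorem c671 : Block F al 0 172032 108302 :=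
  block_comb c670 b671 (Nat.zero_le _) (Nat.le_of_ble_eq_true rfl) rfl

theorem c672 : Block F al 0 172288 108399 :=
  block_comb c671 b672 (Nat.zero_le _) (Nat.le_of_ble_eq_true rfl) rfl

theorem c673 : Block F al 0 172544 108509 :=
  block_comb c672 b673 (Nat.zero_le _) (Nat.le_of_ble_eq_true rfl) rfl

theorem c674 : Block F al 0 172800 108646 :=
  block_comb c673 b674 (Nat.zero_le _) (Nat.le_of_ble_eq_true rfl) rfl

theorem c675 : Block F al 0 173056 108748 :=
  block_comb c674 b675 (Nat.zero_le _) (Nat.le_of_ble_eq_true rfl) rfl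

theorem c676 : Block F al 0 173312 108822 :=
  block_comb c675 b676 (Nat.zero_le _) (Nat.le_of_ble_eq_true rfl) rfl

theorem c677 : Block F al 0 173568 108974 :=
  block_comb c676 b677 (Nat.zero_le _) (Nat.le_of_ble_eq_true rfl) rfl

theorem c678 : Block F al 0 173824 109094 :=
  block_comb c677 b678 (Nat.zero_le _) (Nat.le_of_ble_eq_true rfl) rfl

theorem c679 : Block F al 0 174080 109239 :=
  block_comb c678 b679 (Nat.zero_le _) (Nat.le_of_ble_eq_true rfl) rfl

theorem c680 : Block F al 0 174336 109358 :=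
  block_comb c679 b680 (Nat.zero_le _) (Nat.le_of_ble_eq_true rfl) rfl

theorem c681 : Block F al 0 174592 109504 :=
  block_comb c680 b681 (Nat.zero_le _) (Nat.le_of_ble_eq_true rfl) rfl

theorem c682 : Block F al 0 174848 109614 :=
  block_comb c681 b682 (Nat.zero_le _) (Nat.le_of_ble_eq_true rfl) rfl

theorem c683 : Block F al 0 175104 109750 :=
  block_comb c682 b683 (Nat.zero_le _) (Nat.le_of_ble_eq_true rfl) rfl

theorem c684 : Block F al 0 175360 109838 :=
  block_comb c683 b684 (Nat.zero_le _) (Nat.le_of_ble_eq_true rfl) rfl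

theorem c685 : Block F al 0 175616 109943 :=
  block_comb c684 b685 (Nat.zero_le _) (Nat.le_of_ble_eq_true rfl) rfl

theorem c686 : Block F al 0 175872 110062 :=
  block_comb c685 b686 (Nat.zero_le _) (Nat.le_of_ble_eq_true rfl) rfl

theorem c687 : Block F al 0 176128 110140 :=
  block_comb c686 b687 (Nat.zero_le _) (Nat.le_of_ble_eq_true rfl) rfl

theorem c688 : Block F al 0 176384 110262 :=
  block_comb c687 b688 (Nat.zero_le _) (Nat.le_of_ble_eq_true rfl) rfl

theorem c689 : Block F al 0 176640 110418 :=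
  block_comb c688 b689 (Nat.zero_le _) (Nat.le_of_ble_eq_true rfl) rfl

theorem c690 : Block F al 0 176896 110512 :=
  block_comb c689 b690 (Nat.zero_le _) (Nat.le_of_ble_eq_true rfl) rfl

theorem c691 : Block F al 0 177152 110606 :=
  block_comb c690 b691 (Nat.zero_le _) (Nat.le_of_ble_eq_true rfl) rfl

theorem c692 : Block F al 0 177408 110722 :=
  block_comb c691 b692 (Nat.zero_le _) (Nat.le_of_ble_eq_true rfl) rfl

theorem c693 : Block F al 0 177664 110846 :=
  block_comb c692 b693 (Nat.zero_le _) (Nat.le_of_ble_eq_true rfl) rfl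

theorem c694 : Block F al 0 177920 110981 :=
  block_comb c693 b694 (Nat.zero_le _) (Nat.le_of_ble_eq_true rfl) rfl

theorem c695 : Block F al 0 178176 111030 :=
  block_comb c694 b695 (Nat.zero_le _) (Nat.le_of_ble_eq_true rfl) rfl

theorem c696 : Block F al 0 178432 111137 :=
  block_comb c695 b696 (Nat.zero_le _) (Nat.le_of_ble_eq_true rfl) rfl

theorem c697 : Block F al 0 178688 111258 :=
  block_comb c696 b697 (Nat.zero_le _) (Nat.le_of_ble_eq_true rfl) rfl

theorem c698 : Block F al 0 178944 111374 :=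
  block_comb c697 b698 (Nat.zero_le _) (Nat.le_of_ble_eq_true rfl) rfl

theorem c699 : Block F al 0 179200 111491 :=
  block_comb c698 b699 (Nat.zero_le _) (Nat.le_of_ble_eq_true rfl) rfl

theorem c700 : Block F al 0 179456 111560 :=
  block_comb c699 b700 (Nat.zero_le _) (Nat.le_of_ble_eq_true rfl) rfl

theorem c701 : Block F al 0 179712 111702 :=
  block_comb c700 b701 (Nat.zero_le _) (Nat.le_of_ble_eq_true rfl) rfl

theorem c702 : Block F al 0 179968 111782 :=
  block_comb c701 b702 (Nat.zero_le _) (Nat.le_of_ble_eq_true rfl) rfl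

theorem c703 : Block F al 0 180224 111826 :=
  block_comb c702 b703 (Nat.zero_le _) (Nat.le_of_ble_eq_true rfl) rfl

theorem c704 : Block F al 0 180480 111976 :=
  block_comb c703 b704 (Nat.zero_le _) (Nat.le_of_ble_eq_true rfl) rfl

theorem c705 : Block F al 0 180736 112069 :=
  block_comb c704 b705 (Nat.zero_le _) (Nat.le_of_ble_eq_true rfl) rfl

theorem c706 : Block F al 0 180992 112160 :=
  block_comb c705 b706 (Nat.zero_le _) (Nat.le_of_ble_eq_true rfl) rfl

theorem c707 : Block F al 0 181248 112289 :=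
  block_comb c706 b707 (Nat.zero_le _) (Nat.le_of_ble_eq_true rfl) rfl

theorem c708 : Block F al 0 181504 112404 :=
  block_comb c707 b708 (Nat.zero_le _) (Nat.le_of_ble_eq_true rfl) rfl

theorem c709 : Block F al 0 181760 112494 :=
  block_comb c708 b709 (Nat.zero_le _) (Nat.le_of_ble_eq_true rfl) rfl

theorem c710 : Block F al 0 182016 112542 :=
  block_comb c709 b710 (Nat.zero_le _) (Nat.le_of_ble_eq_true rfl) rfl

theorem c711 : Block F al 0 182272 112636 :=
  block_comb c710 b711 (Nat.zero_le _) (Nat.le_of_ble_eq_true rfl) rfl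

theorem c712 : Block F al 0 182528 112708 :=
  block_comb c711 b712 (Nat.zero_le _) (Nat.le_of_ble_eq_true rfl) rfl

theorem c713 : Block F al 0 182784 112770 :=
  block_comb c712 b713 (Nat.zero_le _) (Nat.le_of_ble_eq_true rfl) rfl

theorem c714 : Block F al 0 183040 112828 :=
  block_comb c713 b714 (Nat.zero_le _) (Nat.le_of_ble_eq_true rfl) rfl

theorem c715 : Block F al 0 183296 112898 :=
  block_comb c714 b715 (Nat.zero_le _) (Nat.le_of_ble_eq_true rfl) rfl

theorem c716 : Block F al 0 183552 113012 :=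
  block_comb c715 b716 (Nat.zero_le _) (Nat.le_of_ble_eq_true rfl) rfl

theorem c717 : Block F al 0 183808 113083 :=
  block_comb c716 b717 (Nat.zero_le _) (Nat.le_of_ble_eq_true rfl) rfl

theorem c718 : Block F al 0 184064 113195 :=
  block_comb c717 b718 (Nat.zero_le _) (Nat.le_of_ble_eq_true rfl) rfl

theorem c719 : Block F al 0 184320 113300 :=
  block_comb c718 b719 (Nat.zero_le _) (Nat.le_of_ble_eq_true rfl) rfl

theorem c720 : Block F al 0 184576 113435 :=
  block_comb c719 b720 (Nat.zero_le _) (Nat.le_of_ble_eq_true rfl) rfl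

theorem c721 : Block F al 0 184832 113547 :=
  block_comb c720 b721 (Nat.zero_le _) (Nat.le_of_ble_eq_true rfl) rfl

theorem c722 : Block F al 0 185088 113654 :=
  block_comb c721 b722 (Nat.zero_le _) (Nat.le_of_ble_eq_true rfl) rfl

theorem c723 : Block F al 0 185344 113788 :=
  block_comb c722 b723 (Nat.zero_le _) (Nat.le_of_ble_eq_true rfl) rfl

theorem c724 : Block F al 0 185600 113934 :=
  block_comb c723 b724 (Nat.zero_le _) (Nat.le_of_ble_eq_true rfl) rfl

theorem c725 : Block F al 0 185856 114076 :=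
  block_comb c724 b725 (Nat.zero_le _) (Nat.le_of_ble_eq_true rfl) rfl

theorem c726 : Block F al 0 186112 114165 :=
  block_comb c725 b726 (Nat.zero_le _) (Nat.le_of_ble_eq_true rfl) rfl

theorem c727 : Block F al 0 186368 114272 :=
  block_comb c726 b727 (Nat.zero_le _) (Nat.le_of_ble_eq_true rfl) rfl

theorem c728 : Block F al 0 186624 114386 :=
  block_comb c727 b728 (Nat.zero_le _) (Nat.le_of_ble_eq_true rfl) rfl

theorem c729 : Block F al 0 186880 114483 :=
  block_comb c728 b729 (Nat.zero_le _) (Nat.le_of_ble_eq_true rfl) rfl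

theorem c730 : Block F al 0 187136 114560 :=
  block_comb c729 b730 (Nat.zero_le _) (Nat.le_of_ble_eq_true rfl) rfl

theorem c731 : Block F al 0 187392 114622 :=
  block_comb c730 b731 (Nat.zero_le _) (Nat.le_of_ble_eq_true rfl) rfl

theorem c732 : Block F al 0 187648 114700 :=
  block_comb c731 b732 (Nat.zero_le _) (Nat.le_of_ble_eq_true rfl) rfl

theorem c733 : Block F al 0 187904 114768 :=
  block_comb c732 b733 (Nat.zero_le _) (Nat.le_of_ble_eq_true rfl) rfl

theorem c734 : Block F al 0 188160 114835 :=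
  block_comb c733 b734 (Nat.zero_le _) (Nat.le_of_ble_eq_true rfl) rfl

theorem c735 : Block F al 0 188416 114878 :=
  block_comb c734 b735 (Nat.zero_le _) (Nat.le_of_ble_eq_true rfl) rfl

theorem c736 : Block F al 0 188672 114990 :=
  block_comb c735 b736 (Nat.zero_le _) (Nat.le_of_ble_eq_true rfl) rfl

theorem c737 : Block F al 0 188928 115089 :=
  block_comb c736 b737 (Nat.zero_le _) (Nat.le_of_ble_eq_true rfl) rfl

theorem c738 : Block F al 0 189184 115194 :=
  block_comb c737 b738 (Nat.zero_le _) (Nat.le_of_ble_eq_true rfl) rfl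

theorem c739 : Block F al 0 189440 115230 :=
  block_comb c738 b739 (Nat.zero_le _) (Nat.le_of_ble_eq_true rfl) rfl

theorem c740 : Block F al 0 189696 115316 :=
  block_comb c739 b740 (Nat.zero_le _) (Nat.le_of_ble_eq_true rfl) rfl

theorem c741 : Block F al 0 189952 115461 :=
  block_comb c740 b741 (Nat.zero_le _) (Nat.le_of_ble_eq_true rfl) rfl

theorem c742 : Block F al 0 190208 115606 :=
  block_comb c741 b742 (Nat.zero_le _) (Nat.le_of_ble_eq_true rfl) rfl

theorem c743 : Block F al 0 190464 115700 :=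
  block_comb c742 b743 (Nat.zero_le _) (Nat.le_of_ble_eq_true rfl) rfl

theorem c744 : Block F al 0 190720 115729 :=
  block_comb c743 b744 (Nat.zero_le _) (Nat.le_of_ble_eq_true rfl) rfl

theorem c745 : Block F al 0 190976 115792 :=
  block_comb c744 b745 (Nat.zero_le _) (Nat.le_of_ble_eq_true rfl) rfl

theorem c746 : Block F al 0 191232 115862 :=
  block_comb c745 b746 (Nat.zero_le _) (Nat.le_of_ble_eq_true rfl) rfl

theorem c747 : Block F al 0 191488 115938 :=
  block_comb c746 b747 (Nat.zero_le _) (Nat.le_of_ble_eq_true rfl) rfl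

theorem c748 : Block F al 0 191744 116079 :=
  block_comb c747 b748 (Nat.zero_le _) (Nat.le_of_ble_eq_true rfl) rfl

theorem c749 : Block F al 0 192000 116156 :=
  block_comb c748 b749 (Nat.zero_le _) (Nat.le_of_ble_eq_true rfl) rfl

theorem c750 : Block F al 0 192256 116252 :=
  block_comb c749 b750 (Nat.zero_le _) (Nat.le_of_ble_eq_true rfl) rfl

theorem c751 : Block F al 0 192512 116362 :=
  block_comb c750 b751 (Nat.zero_le _) (Nat.le_of_ble_eq_true rfl) rfl

theorem c752 : Block F al 0 192768 116446 :=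
  block_comb c751 b752 (Nat.zero_le _) (Nat.le_of_ble_eq_true rfl) rfl

theorem c753 : Block F al 0 193024 116602 :=
  block_comb c752 b753 (Nat.zero_le _) (Nat.le_of_ble_eq_true rfl) rfl

theorem c754 : Block F al 0 193280 116726 :=
  block_comb c753 b754 (Nat.zero_le _) (Nat.le_of_ble_eq_true rfl) rfl

theorem c755 : Block F al 0 193536 116844 :=
  block_comb c754 b755 (Nat.zero_le _) (Nat.le_of_ble_eq_true rfl) rfl

theorem c756 : Block F al 0 193792 116982 :=
  block_comb c755 b756 (Nat.zero_le _) (Nat.le_of_ble_eq_true rfl) rfl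

theorem c757 : Block F al 0 194048 117082 :=
  block_comb c756 b757 (Nat.zero_le _) (Nat.le_of_ble_eq_true rfl) rfl

theorem c758 : Block F al 0 194304 117158 :=
  block_comb c757 b758 (Nat.zero_le _) (Nat.le_of_ble_eq_true rfl) rfl

theorem c759 : Block F al 0 194560 117223 :=
  block_comb c758 b759 (Nat.zero_le _) (Nat.le_of_ble_eq_true rfl) rfl

theorem c760 : Block F al 0 194816 117258 :=
  block_comb c759 b760 (Nat.zero_le _) (Nat.le_of_ble_eq_true rfl) rfl

theorem c761 : Block F al 0 195072 117344 :=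
  block_comb c760 b761 (Nat.zero_le _) (Nat.le_of_ble_eq_true rfl) rfl

theorem c762 : Block F al 0 195328 117410 :=
  block_comb c761 b762 (Nat.zero_le _) (Nat.le_of_ble_eq_true rfl) rfl

theorem c763 : Block F al 0 195584 117484 :=
  block_comb c762 b763 (Nat.zero_le _) (Nat.le_of_ble_eq_true rfl) rfl

theorem c764 : Block F al 0 195840 117546 :=
  block_comb c763 b764 (Nat.zero_le _) (Nat.le_of_ble_eq_true rfl) rfl

theorem c765 : Block F al 0 196096 117592 :=
  block_comb c764 b765 (Nat.zero_le _) (Nat.le_of_ble_eq_true rfl) rfl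

theorem c766 : Block F al 0 196352 117691 :=
  block_comb c765 b766 (Nat.zero_le _) (Nat.le_of_ble_eq_true rfl) rfl

theorem c767 : Block F al 0 196608 117788 :=
  block_comb c766 b767 (Nat.zero_le _) (Nat.le_of_ble_eq_true rfl) rfl

theorem c768 : Block F al 0 196864 117878 :=
  block_comb c767 b768 (Nat.zero_le _) (Nat.le_of_ble_eq_true rfl) rfl

theorem c769 : Block F al 0 197120 117930 :=
  block_comb c768 b769 (Nat.zero_le _) (Nat.le_of_ble_eq_true rfl) rfl

theorem c770 : Block F al 0 197376 118016 :=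
  block_comb c769 b770 (Nat.zero_le _) (Nat.le_of_ble_eq_true rfl) rfl

theorem c771 : Block F al 0 197632 118152 :=
  block_comb c770 b771 (Nat.zero_le _) (Nat.le_of_ble_eq_true rfl) rfl

theorem c772 : Block F al 0 197888 118258 :=
  block_comb c771 b772 (Nat.zero_le _) (Nat.le_of_ble_eq_true rfl) rfl

theorem c773 : Block F al 0 198144 118438 :=
  block_comb c772 b773 (Nat.zero_le _) (Nat.le_of_ble_eq_true rfl) rfl

theorem c774 : Block F al 0 198400 118536 :=
  block_comb c773 b774 (Nat.zero_le _) (Nat.le_of_ble_eq_true rfl) rfl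

theorem c775 : Block F al 0 198656 118654 :=
  block_comb c774 b775 (Nat.zero_le _) (Nat.le_of_ble_eq_true rfl) rfl

theorem c776 : Block F al 0 198912 118716 :=
  block_comb c775 b776 (Nat.zero_le _) (Nat.le_of_ble_eq_true rfl) rfl

theorem c777 : Block F al 0 199168 118806 :=
  block_comb c776 b777 (Nat.zero_le _) (Nat.le_of_ble_eq_true rfl) rfl

theorem c778 : Block F al 0 199424 118872 :=
  block_comb c777 b778 (Nat.zero_le _) (Nat.le_of_ble_eq_true rfl) rfl

theorem c779 : Block F al 0 199680 118976 :=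
  block_comb c778 b779 (Nat.zero_le _) (Nat.le_of_ble_eq_true rfl) rfl

theorem c780 : Block F al 0 199936 119071 :=
  block_comb c779 b780 (Nat.zero_le _) (Nat.le_of_ble_eq_true rfl) rfl

theorem c781 : Block F al 0 200192 119196 :=
  block_comb c780 b781 (Nat.zero_le _) (Nat.le_of_ble_eq_true rfl) rfl

theorem c782 : Block F al 0 200448 119240 :=
  block_comb c781 b782 (Nat.zero_le _) (Nat.le_of_ble_eq_true rfl) rfl

theorem c783 : Block F al 0 200704 119318 :=
  block_comb c782 b783 (Nat.zero_le _) (Nat.le_of_ble_eq_true rfl) rfl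

theorem c784 : Block F al 0 200960 119403 :=
  block_comb c783 b784 (Nat.zero_le _) (Nat.le_of_ble_eq_true rfl) rfl

theorem c785 : Block F al 0 201216 119448 :=
  block_comb c784 b785 (Nat.zero_le _) (Nat.le_of_ble_eq_true rfl) rfl

theorem c786 : Block F al 0 201472 119537 :=
  block_comb c785 b786 (Nat.zero_le _) (Nat.le_of_ble_eq_true rfl) rfl

theorem c787 : Block F al 0 201728 119632 :=
  block_comb c786 b787 (Nat.zero_le _) (Nat.le_of_ble_eq_true rfl) rfl

theorem c788 : Block F al 0 201984 119759 :=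
  block_comb c787 b788 (Nat.zero_le _) (Nat.le_of_ble_eq_true rfl) rfl

theorem c789 : Block F al 0 202240 119848 :=
  block_comb c788 b789 (Nat.zero_le _) (Nat.le_of_ble_eq_true rfl) rfl

theorem c790 : Block F al 0 202496 119920 :=
  block_comb c789 b790 (Nat.zero_le _) (Nat.le_of_ble_eq_true rfl) rfl

theorem c791 : Block F al 0 202752 120034 :=
  block_comb c790 b791 (Nat.zero_le _) (Nat.le_of_ble_eq_true rfl) rfl

theorem c792 : Block F al 0 203008 120150 :=
  block_comb c791 b792 (Nat.zero_le _) (Nat.le_of_ble_eq_true rfl) rfl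

theorem c793 : Block F al 0 203264 120209 :=
  block_comb c792 b793 (Nat.zero_le _) (Nat.le_of_ble_eq_true rfl) rfl

theorem c794 : Block F al 0 203520 120341 :=
  block_comb c793 b794 (Nat.zero_le _) (Nat.le_of_ble_eq_true rfl) rfl

theorem c795 : Block F al 0 203776 120456 :=
  block_comb c794 b795 (Nat.zero_le _) (Nat.le_of_ble_eq_true rfl) rfl

theorem c796 : Block F al 0 204032 120550 :=
  block_comb c795 b796 (Nat.zero_le _) (Nat.le_of_ble_eq_true rfl) rfl

theorem c797 : Block F al 0 204288 120655 :=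
  block_comb c796 b797 (Nat.zero_le _) (Nat.le_of_ble_eq_true rfl) rfl

theorem c798 : Block F al 0 204544 120718 :=
  block_comb c797 b798 (Nat.zero_le _) (Nat.le_of_ble_eq_true rfl) rfl

theorem c799 : Block F al 0 204800 120806 :=
  block_comb c798 b799 (Nat.zero_le _) (Nat.le_of_ble_eq_true rfl) rfl

theorem c800 : Block F al 0 205056 120938 :=
  block_comb c799 b800 (Nat.zero_le _) (Nat.le_of_ble_eq_true rfl) rfl

theorem c801 : Block F al 0 205312 121006 :=
  block_comb c800 b801 (Nat.zero_le _) (Nat.le_of_ble_eq_true rfl) rfl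

theorem c802 : Block F al 0 205568 121062 :=
  block_comb c801 b802 (Nat.zero_le _) (Nat.le_of_ble_eq_true rfl) rfl

theorem c803 : Block F al 0 205824 121160 :=
  block_comb c802 b803 (Nat.zero_le _) (Nat.le_of_ble_eq_true rfl) rfl

theorem c804 : Block F al 0 206080 121222 :=
  block_comb c803 b804 (Nat.zero_le _) (Nat.le_of_ble_eq_true rfl) rfl

theorem c805 : Block F al 0 206336 121339 :=
  block_comb c804 b805 (Nat.zero_le _) (Nat.le_of_ble_eq_true rfl) rfl

theorem c806 : Block F al 0 206592 121356 :=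
  block_comb c805 b806 (Nat.zero_le _) (Nat.le_of_ble_eq_true rfl) rfl

theorem c807 : Block F al 0 206848 121397 :=
  block_comb c806 b807 (Nat.zero_le _) (Nat.le_of_ble_eq_true rfl) rfl

theorem c808 : Block F al 0 207104 121474 :=
  block_comb c807 b808 (Nat.zero_le _) (Nat.le_of_ble_eq_true rfl) rfl

theorem c809 : Block F al 0 207360 121622 :=
  block_comb c808 b809 (Nat.zero_le _) (Nat.le_of_ble_eq_true rfl) rfl

theorem c810 : Block F al 0 207616 121662 :=
  block_comb c809 b810 (Nat.zero_le _) (Nat.le_of_ble_eq_true rfl) rfl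

theorem c811 : Block F al 0 207872 121724 :=
  block_comb c810 b811 (Nat.zero_le _) (Nat.le_of_ble_eq_true rfl) rfl

theorem c812 : Block F al 0 208128 121812 :=
  block_comb c811 b812 (Nat.zero_le _) (Nat.le_of_ble_eq_true rfl) rfl

theorem c813 : Block F al 0 208384 121912 :=
  block_comb c812 b813 (Nat.zero_le _) (Nat.le_of_ble_eq_true rfl) rfl

theorem c814 : Block F al 0 208640 122028 :=
  block_comb c813 b814 (Nat.zero_le _) (Nat.le_of_ble_eq_true rfl) rfl

theorem c815 : Block F al 0 208896 122056 :=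
  block_comb c814 b815 (Nat.zero_le _) (Nat.le_of_ble_eq_true rfl) rfl

theorem c816 : Block F al 0 209152 122124 :=
  block_comb c815 b816 (Nat.zero_le _) (Nat.le_of_ble_eq_true rfl) rfl

theorem c817 : Block F al 0 209408 122192 :=
  block_comb c816 b817 (Nat.zero_le _) (Nat.le_of_ble_eq_true rfl) rfl

theorem c818 : Block F al 0 209664 122290 :=
  block_comb c817 b818 (Nat.zero_le _) (Nat.le_of_ble_eq_true rfl) rfl

theorem c819 : Block F al 0 209920 122424 :=
  block_comb c818 b819 (Nat.zero_le _) (Nat.le_of_ble_eq_true rfl) rfl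

theorem c820 : Block F al 0 210176 122538 :=
  block_comb c819 b820 (Nat.zero_le _) (Nat.le_of_ble_eq_true rfl) rfl

theorem c821 : Block F al 0 210432 122604 :=
  block_comb c820 b821 (Nat.zero_le _) (Nat.le_of_ble_eq_true rfl) rfl

theorem c822 : Block F al 0 210688 122682 :=
  block_comb c821 b822 (Nat.zero_le _) (Nat.le_of_ble_eq_true rfl) rfl

theorem c823 : Block F al 0 210944 122742 :=
  block_comb c822 b823 (Nat.zero_le _) (Nat.le_of_ble_eq_true rfl) rfl

theorem c824 : Block F al 0 211200 122771 :=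
  block_comb c823 b824 (Nat.zero_le _) (Nat.le_of_ble_eq_true rfl) rfl

theorem c825 : Block F al 0 211456 122836 :=
  block_comb c824 b825 (Nat.zero_le _) (Nat.le_of_ble_eq_true rfl) rfl

theorem c826 : Block F al 0 211712 122927 :=
  block_comb c825 b826 (Nat.zero_le _) (Nat.le_of_ble_eq_true rfl) rfl

theorem c827 : Block F al 0 211968 122958 :=
  block_comb c826 b827 (Nat.zero_le _) (Nat.le_of_ble_eq_true rfl) rfl

theorem c828 : Block F al 0 212224 123019 :=
  block_comb c827 b828 (Nat.zero_le _) (Nat.le_of_ble_eq_true rfl) rfl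

theorem c829 : Block F al 0 212480 123132 :=
  block_comb c828 b829 (Nat.zero_le _) (Nat.le_of_ble_eq_true rfl) rfl

theorem c830 : Block F al 0 212736 123234 :=
  block_comb c829 b830 (Nat.zero_le _) (Nat.le_of_ble_eq_true rfl) rfl

theorem c831 : Block F al 0 212992 123296 :=
  block_comb c830 b831 (Nat.zero_le _) (Nat.le_of_ble_eq_true rfl) rfl

theorem c832 : Block F al 0 213248 123360 :=
  block_comb c831 b832 (Nat.zero_le _) (Nat.le_of_ble_eq_true rfl) rfl

theorem c833 : Block F al 0 213504 123453 :=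
  block_comb c832 b833 (Nat.zero_le _) (Nat.le_of_ble_eq_true rfl) rfl

theorem c834 : Block F al 0 213760 123522 :=
  block_comb c833 b834 (Nat.zero_le _) (Nat.le_of_ble_eq_true rfl) rfl

theorem c835 : Block F al 0 214016 123654 :=
  block_comb c834 b835 (Nat.zero_le _) (Nat.le_of_ble_eq_true rfl) rfl

theorem c836 : Block F al 0 214272 123806 :=
  block_comb c835 b836 (Nat.zero_le _) (Nat.le_of_ble_eq_true rfl) rfl

theorem c837 : Block F al 0 214528 123930 :=
  block_comb c836 b837 (Nat.zero_le _) (Nat.le_of_ble_eq_true rfl) rfl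

theorem c838 : Block F al 0 214784 124027 :=
  block_comb c837 b838 (Nat.zero_le _) (Nat.le_of_ble_eq_true rfl) rfl

theorem c839 : Block F al 0 215040 124141 :=
  block_comb c838 b839 (Nat.zero_le _) (Nat.le_of_ble_eq_true rfl) rfl

theorem c840 : Block F al 0 215296 124202 :=
  block_comb c839 b840 (Nat.zero_le _) (Nat.le_of_ble_eq_true rfl) rfl

theorem c841 : Block F al 0 215552 124258 :=
  block_comb c840 b841 (Nat.zero_le _) (Nat.le_of_ble_eq_true rfl) rfl

theorem c842 : Block F al 0 215808 124335 :=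
  block_comb c841 b842 (Nat.zero_le _) (Nat.le_of_ble_eq_true rfl) rfl

theorem c843 : Block F al 0 216064 124458 :=
  block_comb c842 b843 (Nat.zero_le _) (Nat.le_of_ble_eq_true rfl) rfl

theorem c844 : Block F al 0 216320 124546 :=
  block_comb c843 b844 (Nat.zero_le _) (Nat.le_of_ble_eq_true rfl) rfl

theorem c845 : Block F al 0 216576 124661 :=
  block_comb c844 b845 (Nat.zero_le _) (Nat.le_of_ble_eq_true rfl) rfl

theorem c846 : Block F al 0 216832 124796 :=
  block_comb c845 b846 (Nat.zero_le _) (Nat.le_of_ble_eq_true rfl) rfl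

theorem c847 : Block F al 0 217088 124932 :=
  block_comb c846 b847 (Nat.zero_le _) (Nat.le_of_ble_eq_true rfl) rfl

theorem c848 : Block F al 0 217344 125048 :=
  block_comb c847 b848 (Nat.zero_le _) (Nat.le_of_ble_eq_true rfl) rfl

theorem c849 : Block F al 0 217600 125179 :=
  block_comb c848 b849 (Nat.zero_le _) (Nat.le_of_ble_eq_true rfl) rfl

theorem c850 : Block F al 0 217856 125337 :=
  block_comb c849 b850 (Nat.zero_le _) (Nat.le_of_ble_eq_true rfl) rfl

theorem c851 : Block F al 0 218112 125421 :=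
  block_comb c850 b851 (Nat.zero_le _) (Nat.le_of_ble_eq_true rfl) rfl

theorem c852 : Block F al 0 218368 125554 :=
  block_comb c851 b852 (Nat.zero_le _) (Nat.le_of_ble_eq_true rfl) rfl

theorem c853 : Block F al 0 218624 125602 :=
  block_comb c852 b853 (Nat.zero_le _) (Nat.le_of_ble_eq_true rfl) rfl

theorem c854 : Block F al 0 218880 125701 :=
  block_comb c853 b854 (Nat.zero_le _) (Nat.le_of_ble_eq_true rfl) rfl

theorem c855 : Block F al 0 219136 125836 :=
  block_comb c854 b855 (Nat.zero_le _) (Nat.le_of_ble_eq_true rfl) rfl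

theorem c856 : Block F al 0 219392 125924 :=
  block_comb c855 b856 (Nat.zero_le _) (Nat.le_of_ble_eq_true rfl) rfl

theorem c857 : Block F al 0 219648 126044 :=
  block_comb c856 b857 (Nat.zero_le _) (Nat.le_of_ble_eq_true rfl) rfl

theorem c858 : Block F al 0 219904 126120 :=
  block_comb c857 b858 (Nat.zero_le _) (Nat.le_of_ble_eq_true rfl) rfl

theorem c859 : Block F al 0 220160 126170 :=
  block_comb c858 b859 (Nat.zero_le _) (Nat.le_of_ble_eq_true rfl) rfl

theorem c860 : Block F al 0 220416 126275 :=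
  block_comb c859 b860 (Nat.zero_le _) (Nat.le_of_ble_eq_true rfl) rfl

theorem c861 : Block F al 0 220672 126386 :=
  block_comb c860 b861 (Nat.zero_le _) (Nat.le_of_ble_eq_true rfl) rfl

theorem c862 : Block F al 0 220928 126446 :=
  block_comb c861 b862 (Nat.zero_le _) (Nat.le_of_ble_eq_true rfl) rfl

theorem c863 : Block F al 0 221184 126480 :=
  block_comb c862 b863 (Nat.zero_le _) (Nat.le_of_ble_eq_true rfl) rfl

theorem c864 : Block F al 0 221440 126590 :=
  block_comb c863 b864 (Nat.zero_le _) (Nat.le_of_ble_eq_true rfl) rfl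

theorem c865 : Block F al 0 221696 126716 :=
  block_comb c864 b865 (Nat.zero_le _) (Nat.le_of_ble_eq_true rfl) rfl

theorem c866 : Block F al 0 221952 126826 :=
  block_comb c865 b866 (Nat.zero_le _) (Nat.le_of_ble_eq_true rfl) rfl

theorem c867 : Block F al 0 222208 126939 :=
  block_comb c866 b867 (Nat.zero_le _) (Nat.le_of_ble_eq_true rfl) rfl

theorem c868 : Block F al 0 222464 127061 :=
  block_comb c867 b868 (Nat.zero_le _) (Nat.le_of_ble_eq_true rfl) rfl

theorem c869 : Block F al 0 222720 127134 :=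
  block_comb c868 b869 (Nat.zero_le _) (Nat.le_of_ble_eq_true rfl) rfl

theorem c870 : Block F al 0 222976 127205 :=
  block_comb c869 b870 (Nat.zero_le _) (Nat.le_of_ble_eq_true rfl) rfl

theorem c871 : Block F al 0 223232 127313 :=
  block_comb c870 b871 (Nat.zero_le _) (Nat.le_of_ble_eq_true rfl) rfl

theorem c872 : Block F al 0 223488 127336 :=
  block_comb c871 b872 (Nat.zero_le _) (Nat.le_of_ble_eq_true rfl) rfl

theorem c873 : Block F al 0 223744 127359 :=
  block_comb c872 b873 (Nat.zero_le _) (Nat.le_of_ble_eq_true rfl) rfl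

theorem c874 : Block F al 0 224000 127466 :=
  block_comb c873 b874 (Nat.zero_le _) (Nat.le_of_ble_eq_true rfl) rfl

theorem c875 : Block F al 0 224256 127567 :=
  block_comb c874 b875 (Nat.zero_le _) (Nat.le_of_ble_eq_true rfl) rfl

theorem c876 : Block F al 0 224512 127670 :=
  block_comb c875 b876 (Nat.zero_le _) (Nat.le_of_ble_eq_true rfl) rfl

theorem c877 : Block F al 0 224768 127776 :=
  block_comb c876 b877 (Nat.zero_le _) (Nat.le_of_ble_eq_true rfl) rfl

theorem c878 : Block F al 0 225024 127886 :=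
  block_comb c877 b878 (Nat.zero_le _) (Nat.le_of_ble_eq_true rfl) rfl

theorem c879 : Block F al 0 225280 128030 :=
  block_comb c878 b879 (Nat.zero_le _) (Nat.le_of_ble_eq_true rfl) rfl

theorem c880 : Block F al 0 225536 128165 :=
  block_comb c879 b880 (Nat.zero_le _) (Nat.le_of_ble_eq_true rfl) rfl

theorem c881 : Block F al 0 225792 128226 :=
  block_comb c880 b881 (Nat.zero_le _) (Nat.le_of_ble_eq_true rfl) rfl

theorem c882 : Block F al 0 226048 128314 :=
  block_comb c881 b882 (Nat.zero_le _) (Nat.le_of_ble_eq_true rfl) rfl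

theorem c883 : Block F al 0 226304 128404 :=
  block_comb c882 b883 (Nat.zero_le _) (Nat.le_of_ble_eq_true rfl) rfl

theorem c884 : Block F al 0 226560 128468 :=
  block_comb c883 b884 (Nat.zero_le _) (Nat.le_of_ble_eq_true rfl) rfl

theorem c885 : Block F al 0 226816 128581 :=
  block_comb c884 b885 (Nat.zero_le _) (Nat.le_of_ble_eq_true rfl) rfl

theorem c886 : Block F al 0 227072 128652 :=
  block_comb c885 b886 (Nat.zero_le _) (Nat.le_of_ble_eq_true rfl) rfl

theorem c887 : Block F al 0 227328 128744 :=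
  block_comb c886 b887 (Nat.zero_le _) (Nat.le_of_ble_eq_true rfl) rfl

theorem c888 : Block F al 0 227584 128855 :=
  block_comb c887 b888 (Nat.zero_le _) (Nat.le_of_ble_eq_true rfl) rfl

theorem c889 : Block F al 0 227840 128890 :=
  block_comb c888 b889 (Nat.zero_le _) (Nat.le_of_ble_eq_true rfl) rfl

theorem c890 : Block F al 0 228096 129001 :=
  block_comb c889 b890 (Nat.zero_le _) (Nat.le_of_ble_eq_true rfl) rfl

theorem c891 : Block F al 0 228352 129084 :=
  block_comb c890 b891 (Nat.zero_le _) (Nat.le_of_ble_eq_true rfl) rfl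

theorem c892 : Block F al 0 228608 129164 :=
  block_comb c891 b892 (Nat.zero_le _) (Nat.le_of_ble_eq_true rfl) rfl

theorem c893 : Block F al 0 228864 129230 :=
  block_comb c892 b893 (Nat.zero_le _) (Nat.le_of_ble_eq_true rfl) rfl

theorem c894 : Block F al 0 229120 129319 :=
  block_comb c893 b894 (Nat.zero_le _) (Nat.le_of_ble_eq_true rfl) rfl

theorem c895 : Block F al 0 229376 129460 :=
  block_comb c894 b895 (Nat.zero_le _) (Nat.le_of_ble_eq_true rfl) rfl

theorem c896 : Block F al 0 229632 129582 :=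
  block_comb c895 b896 (Nat.zero_le _) (Nat.le_of_ble_eq_true rfl) rfl

theorem c897 : Block F al 0 229888 129694 :=
  block_comb c896 b897 (Nat.zero_le _) (Nat.le_of_ble_eq_true rfl) rfl

theorem c898 : Block F al 0 230144 129842 :=
  block_comb c897 b898 (Nat.zero_le _) (Nat.le_of_ble_eq_true rfl) rfl

theorem c899 : Block F al 0 230400 129974 :=
  block_comb c898 b899 (Nat.zero_le _) (Nat.le_of_ble_eq_true rfl) rfl

theorem c900 : Block F al 0 230656 130098 :=
  block_comb c899 b900 (Nat.zero_le _) (Nat.le_of_ble_eq_true rfl) rfl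

theorem c901 : Block F al 0 230912 130196 :=
  block_comb c900 b901 (Nat.zero_le _) (Nat.le_of_ble_eq_true rfl) rfl

theorem c902 : Block F al 0 231168 130255 :=
  block_comb c901 b902 (Nat.zero_le _) (Nat.le_of_ble_eq_true rfl) rfl

theorem c903 : Block F al 0 231424 130336 :=
  block_comb c902 b903 (Nat.zero_le _) (Nat.le_of_ble_eq_true rfl) rfl

theorem c904 : Block F al 0 231680 130440 :=
  block_comb c903 b904 (Nat.zero_le _) (Nat.le_of_ble_eq_true rfl) rfl

theorem c905 : Block F al 0 231936 130519 :=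
  block_comb c904 b905 (Nat.zero_le _) (Nat.le_of_ble_eq_true rfl) rfl

theorem c906 : Block F al 0 232192 130624 :=
  block_comb c905 b906 (Nat.zero_le _) (Nat.le_of_ble_eq_true rfl) rfl

theorem c907 : Block F al 0 232448 130718 :=
  block_comb c906 b907 (Nat.zero_le _) (Nat.le_of_ble_eq_true rfl) rfl

theorem c908 : Block F al 0 232704 130787 :=
  block_comb c907 b908 (Nat.zero_le _) (Nat.le_of_ble_eq_true rfl) rfl

theorem c909 : Block F al 0 232960 130840 :=
  block_comb c908 b909 (Nat.zero_le _) (Nat.le_of_ble_eq_true rfl) rfl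

theorem c910 : Block F al 0 233216 130906 :=
  block_comb c909 b910 (Nat.zero_le _) (Nat.le_of_ble_eq_true rfl) rfl

theorem c911 : Block F al 0 233472 130970 :=
  block_comb c910 b911 (Nat.zero_le _) (Nat.le_of_ble_eq_true rfl) rfl

theorem c912 : Block F al 0 233728 131010 :=
  block_comb c911 b912 (Nat.zero_le _) (Nat.le_of_ble_eq_true rfl) rfl

theorem c913 : Block F al 0 233984 131060 :=
  block_comb c912 b913 (Nat.zero_le _) (Nat.le_of_ble_eq_true rfl) rfl

theorem c914 : Block F al 0 234240 131149 :=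
  block_comb c913 b914 (Nat.zero_le _) (Nat.le_of_ble_eq_true rfl) rfl

theorem c915 : Block F al 0 234496 131216 :=
  block_comb c914 b915 (Nat.zero_le _) (Nat.le_of_ble_eq_true rfl) rfl

theorem c916 : Block F al 0 234752 131322 :=
  block_comb c915 b916 (Nat.zero_le _) (Nat.le_of_ble_eq_true rfl) rfl

theorem c917 : Block F al 0 235008 131427 :=
  block_comb c916 b917 (Nat.zero_le _) (Nat.le_of_ble_eq_true rfl) rfl

theorem c918 : Block F al 0 235264 131582 :=
  block_comb c917 b918 (Nat.zero_le _) (Nat.le_of_ble_eq_true rfl) rfl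

theorem c919 : Block F al 0 235520 131734 :=
  block_comb c918 b919 (Nat.zero_le _) (Nat.le_of_ble_eq_true rfl) rfl

theorem c920 : Block F al 0 235776 131880 :=
  block_comb c919 b920 (Nat.zero_le _) (Nat.le_of_ble_eq_true rfl) rfl

theorem c921 : Block F al 0 236032 132004 :=
  block_comb c920 b921 (Nat.zero_le _) (Nat.le_of_ble_eq_true rfl) rfl

theorem c922 : Block F al 0 236288 132128 :=
  block_comb c921 b922 (Nat.zero_le _) (Nat.le_of_ble_eq_true rfl) rfl

theorem c923 : Block F al 0 236544 132168 :=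
  block_comb c922 b923 (Nat.zero_le _) (Nat.le_of_ble_eq_true rfl) rfl

theorem c924 : Block F al 0 236800 132259 :=
  block_comb c923 b924 (Nat.zero_le _) (Nat.le_of_ble_eq_true rfl) rfl

theorem c925 : Block F al 0 237056 132346 :=
  block_comb c924 b925 (Nat.zero_le _) (Nat.le_of_ble_eq_true rfl) rfl

theorem c926 : Block F al 0 237312 132478 :=
  block_comb c925 b926 (Nat.zero_le _) (Nat.le_of_ble_eq_true rfl) rfl

theorem c927 : Block F al 0 237568 132620 :=
  block_comb c926 b927 (Nat.zero_le _) (Nat.le_of_ble_eq_true rfl) rfl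

theorem c928 : Block F al 0 237824 132688 :=
  block_comb c927 b928 (Nat.zero_le _) (Nat.le_of_ble_eq_true rfl) rfl

theorem c929 : Block F al 0 238080 132784 :=
  block_comb c928 b929 (Nat.zero_le _) (Nat.le_of_ble_eq_true rfl) rfl

theorem c930 : Block F al 0 238336 132904 :=
  block_comb c929 b930 (Nat.zero_le _) (Nat.le_of_ble_eq_true rfl) rfl

theorem c931 : Block F al 0 238592 133020 :=
  block_comb c930 b931 (Nat.zero_le _) (Nat.le_of_ble_eq_true rfl) rfl

theorem c932 : Block F al 0 238848 133098 :=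
  block_comb c931 b932 (Nat.zero_le _) (Nat.le_of_ble_eq_true rfl) rfl

theorem c933 : Block F al 0 239104 133182 :=
  block_comb c932 b933 (Nat.zero_le _) (Nat.le_of_ble_eq_true rfl) rfl

theorem c934 : Block F al 0 239360 133276 :=
  block_comb c933 b934 (Nat.zero_le _) (Nat.le_of_ble_eq_true rfl) rfl

theorem c935 : Block F al 0 239616 133385 :=
  block_comb c934 b935 (Nat.zero_le _) (Nat.le_of_ble_eq_true rfl) rfl

theorem c936 : Block F al 0 239872 133490 :=
  block_comb c935 b936 (Nat.zero_le _) (Nat.le_of_ble_eq_true rfl) rfl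

theorem c937 : Block F al 0 240128 133600 :=
  block_comb c936 b937 (Nat.zero_le _) (Nat.le_of_ble_eq_true rfl) rfl

theorem c938 : Block F al 0 240384 133692 :=
  block_comb c937 b938 (Nat.zero_le _) (Nat.le_of_ble_eq_true rfl) rfl

theorem c939 : Block F al 0 240640 133812 :=
  block_comb c938 b939 (Nat.zero_le _) (Nat.le_of_ble_eq_true rfl) rfl

theorem c940 : Block F al 0 240896 133898 :=
  block_comb c939 b940 (Nat.zero_le _) (Nat.le_of_ble_eq_true rfl) rfl

theorem c941 : Block F al 0 241152 133966 :=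
  block_comb c940 b941 (Nat.zero_le _) (Nat.le_of_ble_eq_true rfl) rfl

theorem c942 : Block F al 0 241408 134018 :=
  block_comb c941 b942 (Nat.zero_le _) (Nat.le_of_ble_eq_true rfl) rfl

theorem c943 : Block F al 0 241664 134080 :=
  block_comb c942 b943 (Nat.zero_le _) (Nat.le_of_ble_eq_true rfl) rfl

theorem c944 : Block F al 0 241920 134162 :=
  block_comb c943 b944 (Nat.zero_le _) (Nat.le_of_ble_eq_true rfl) rfl

theorem c945 : Block F al 0 242176 134236 :=
  block_comb c944 b945 (Nat.zero_le _) (Nat.le_of_ble_eq_true rfl) rfl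

theorem c946 : Block F al 0 242432 134310 :=
  block_comb c945 b946 (Nat.zero_le _) (Nat.le_of_ble_eq_true rfl) rfl

theorem c947 : Block F al 0 242688 134446 :=
  block_comb c946 b947 (Nat.zero_le _) (Nat.le_of_ble_eq_true rfl) rfl

theorem c948 : Block F al 0 242944 134572 :=
  block_comb c947 b948 (Nat.zero_le _) (Nat.le_of_ble_eq_true rfl) rfl

theorem c949 : Block F al 0 243200 134672 :=
  block_comb c948 b949 (Nat.zero_le _) (Nat.le_of_ble_eq_true rfl) rfl

theorem c950 : Block F al 0 243456 134778 :=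
  block_comb c949 b950 (Nat.zero_le _) (Nat.le_of_ble_eq_true rfl) rfl

theorem c951 : Block F al 0 243712 134875 :=
  block_comb c950 b951 (Nat.zero_le _) (Nat.le_of_ble_eq_true rfl) rfl

theorem c952 : Block F al 0 243968 134985 :=
  block_comb c951 b952 (Nat.zero_le _) (Nat.le_of_ble_eq_true rfl) rfl

theorem c953 : Block F al 0 244224 135126 :=
  block_comb c952 b953 (Nat.zero_le _) (Nat.le_of_ble_eq_true rfl) rfl

theorem c954 : Block F al 0 244480 135190 :=
  block_comb c953 b954 (Nat.zero_le _) (Nat.le_of_ble_eq_true rfl) rfl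

theorem c955 : Block F al 0 244736 135240 :=
  block_comb c954 b955 (Nat.zero_le _) (Nat.le_of_ble_eq_true rfl) rfl

theorem c956 : Block F al 0 244992 135278 :=
  block_comb c955 b956 (Nat.zero_le _) (Nat.le_of_ble_eq_true rfl) rfl

theorem c957 : Block F al 0 245248 135386 :=
  block_comb c956 b957 (Nat.zero_le _) (Nat.le_of_ble_eq_true rfl) rfl

theorem c958 : Block F al 0 245504 135442 :=
  block_comb c957 b958 (Nat.zero_le _) (Nat.le_of_ble_eq_true rfl) rfl

theorem c959 : Block F al 0 245760 135563 :=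
  block_comb c958 b959 (Nat.zero_le _) (Nat.le_of_ble_eq_true rfl) rfl

theorem c960 : Block F al 0 246016 135675 :=
  block_comb c959 b960 (Nat.zero_le _) (Nat.le_of_ble_eq_true rfl) rfl

theorem c961 : Block F al 0 246272 135808 :=
  block_comb c960 b961 (Nat.zero_le _) (Nat.le_of_ble_eq_true rfl) rfl

theorem c962 : Block F al 0 246528 135934 :=
  block_comb c961 b962 (Nat.zero_le _) (Nat.le_of_ble_eq_true rfl) rfl

theorem c963 : Block F al 0 246784 136004 :=
  block_comb c962 b963 (Nat.zero_le _) (Nat.le_of_ble_eq_true rfl) rfl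

theorem c964 : Block F al 0 247040 136070 :=
  block_comb c963 b964 (Nat.zero_le _) (Nat.le_of_ble_eq_true rfl) rfl

theorem c965 : Block F al 0 247296 136194 :=
  block_comb c964 b965 (Nat.zero_le _) (Nat.le_of_ble_eq_true rfl) rfl

theorem c966 : Block F al 0 247552 136283 :=
  block_comb c965 b966 (Nat.zero_le _) (Nat.le_of_ble_eq_true rfl) rfl

theorem c967 : Block F al 0 247808 136333 :=
  block_comb c966 b967 (Nat.zero_le _) (Nat.le_of_ble_eq_true rfl) rfl

theorem c968 : Block F al 0 248064 136490 :=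
  block_comb c967 b968 (Nat.zero_le _) (Nat.le_of_ble_eq_true rfl) rfl

theorem c969 : Block F al 0 248320 136560 :=
  block_comb c968 b969 (Nat.zero_le _) (Nat.le_of_ble_eq_true rfl) rfl

theorem c970 : Block F al 0 248576 136666 :=
  block_comb c969 b970 (Nat.zero_le _) (Nat.le_of_ble_eq_true rfl) rfl

theorem c971 : Block F al 0 248832 136746 :=
  block_comb c970 b971 (Nat.zero_le _) (Nat.le_of_ble_eq_true rfl) rfl

theorem c972 : Block F al 0 249088 136792 :=
  block_comb c971 b972 (Nat.zero_le _) (Nat.le_of_ble_eq_true rfl) rfl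

theorem c973 : Block F al 0 249344 136862 :=
  block_comb c972 b973 (Nat.zero_le _) (Nat.le_of_ble_eq_true rfl) rfl

theorem c974 : Block F al 0 249600 136945 :=
  block_comb c973 b974 (Nat.zero_le _) (Nat.le_of_ble_eq_true rfl) rfl

theorem c975 : Block F al 0 249856 137059 :=
  block_comb c974 b975 (Nat.zero_le _) (Nat.le_of_ble_eq_true rfl) rfl

theorem c976 : Block F al 0 250112 137138 :=
  block_comb c975 b976 (Nat.zero_le _) (Nat.le_of_ble_eq_true rfl) rfl

theorem c977 : Block F al 0 250368 137256 :=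
  block_comb c976 b977 (Nat.zero_le _) (Nat.le_of_ble_eq_true rfl) rfl

theorem c978 : Block F al 0 250624 137356 :=
  block_comb c977 b978 (Nat.zero_le _) (Nat.le_of_ble_eq_true rfl) rfl

theorem c979 : Block F al 0 250880 137464 :=
  block_comb c978 b979 (Nat.zero_le _) (Nat.le_of_ble_eq_true rfl) rfl

theorem c980 : Block F al 0 251136 137535 :=
  block_comb c979 b980 (Nat.zero_le _) (Nat.le_of_ble_eq_true rfl) rfl

theorem c981 : Block F al 0 251392 137580 :=
  block_comb c980 b981 (Nat.zero_le _) (Nat.le_of_ble_eq_true rfl) rfl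

theorem c982 : Block F al 0 251648 137606 :=
  block_comb c981 b982 (Nat.zero_le _) (Nat.le_of_ble_eq_true rfl) rfl

theorem c983 : Block F al 0 251904 137722 :=
  block_comb c982 b983 (Nat.zero_le _) (Nat.le_of_ble_eq_true rfl) rfl

theorem c984 : Block F al 0 252160 137780 :=
  block_comb c983 b984 (Nat.zero_le _) (Nat.le_of_ble_eq_true rfl) rfl

theorem c985 : Block F al 0 252416 137829 :=
  block_comb c984 b985 (Nat.zero_le _) (Nat.le_of_ble_eq_true rfl) rfl

theorem c986 : Block F al 0 252672 137910 :=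
  block_comb c985 b986 (Nat.zero_le _) (Nat.le_of_ble_eq_true rfl) rfl

theorem c987 : Block F al 0 252928 138004 :=
  block_comb c986 b987 (Nat.zero_le _) (Nat.le_of_ble_eq_true rfl) rfl

theorem c988 : Block F al 0 253184 138092 :=
  block_comb c987 b988 (Nat.zero_le _) (Nat.le_of_ble_eq_true rfl) rfl

theorem c989 : Block F al 0 253440 138160 :=
  block_comb c988 b989 (Nat.zero_le _) (Nat.le_of_ble_eq_true rfl) rfl

theorem c990 : Block F al 0 253696 138254 :=
  block_comb c989 b990 (Nat.zero_le _) (Nat.le_of_ble_eq_true rfl) rfl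

theorem c991 : Block F al 0 253952 138408 :=
  block_comb c990 b991 (Nat.zero_le _) (Nat.le_of_ble_eq_true rfl) rfl

theorem c992 : Block F al 0 254208 138456 :=
  block_comb c991 b992 (Nat.zero_le _) (Nat.le_of_ble_eq_true rfl) rfl

theorem c993 : Block F al 0 254464 138571 :=
  block_comb c992 b993 (Nat.zero_le _) (Nat.le_of_ble_eq_true rfl) rfl

theorem c994 : Block F al 0 254720 138698 :=
  block_comb c993 b994 (Nat.zero_le _) (Nat.le_of_ble_eq_true rfl) rfl

theorem c995 : Block F al 0 254976 138792 :=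
  block_comb c994 b995 (Nat.zero_le _) (Nat.le_of_ble_eq_true rfl) rfl

theorem c996 : Block F al 0 255232 138888 :=
  block_comb c995 b996 (Nat.zero_le _) (Nat.le_of_ble_eq_true rfl) rfl

theorem c997 : Block F al 0 255488 138991 :=
  block_comb c996 b997 (Nat.zero_le _) (Nat.le_of_ble_eq_true rfl) rfl

theorem c998 : Block F al 0 255744 139016 :=
  block_comb c997 b998 (Nat.zero_le _) (Nat.le_of_ble_eq_true rfl) rfl

theorem c999 : Block F al 0 256000 139108 :=
  block_comb c998 b999 (Nat.zero_le _) (Nat.le_of_ble_eq_true rfl) rfl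

theorem c1000 : Block F al 0 256256 139234 :=
  block_comb c999 b1000 (Nat.zero_le _) (Nat.le_of_ble_eq_true rfl) rfl

theorem c1001 : Block F al 0 256512 139297 :=
  block_comb c1000 b1001 (Nat.zero_le _) (Nat.le_of_ble_eq_true rfl) rfl

theorem c1002 : Block F al 0 256768 139411 :=
  block_comb c1001 b1002 (Nat.zero_le _) (Nat.le_of_ble_eq_true rfl) rfl

theorem c1003 : Block F al 0 257024 139522 :=
  block_comb c1002 b1003 (Nat.zero_le _) (Nat.le_of_ble_eq_true rfl) rfl

theorem c1004 : Block F al 0 257280 139654 :=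
  block_comb c1003 b1004 (Nat.zero_le _) (Nat.le_of_ble_eq_true rfl) rfl

theorem c1005 : Block F al 0 257536 139696 :=
  block_comb c1004 b1005 (Nat.zero_le _) (Nat.le_of_ble_eq_true rfl) rfl

theorem c1006 : Block F al 0 257792 139786 :=
  block_comb c1005 b1006 (Nat.zero_le _) (Nat.le_of_ble_eq_true rfl) rfl

theorem c1007 : Block F al 0 258048 139836 :=
  block_comb c1006 b1007 (Nat.zero_le _) (Nat.le_of_ble_eq_true rfl) rfl

theorem c1008 : Block F al 0 258304 139914 :=
  block_comb c1007 b1008 (Nat.zero_le _) (Nat.le_of_ble_eq_true rfl) rfl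

theorem c1009 : Block F al 0 258560 140002 :=
  block_comb c1008 b1009 (Nat.zero_le _) (Nat.le_of_ble_eq_true rfl) rfl

theorem c1010 : Block F al 0 258816 140106 :=
  block_comb c1009 b1010 (Nat.zero_le _) (Nat.le_of_ble_eq_true rfl) rfl

theorem c1011 : Block F al 0 259072 140195 :=
  block_comb c1010 b1011 (Nat.zero_le _) (Nat.le_of_ble_eq_true rfl) rfl

theorem c1012 : Block F al 0 259328 140250 :=
  block_comb c1011 b1012 (Nat.zero_le _) (Nat.le_of_ble_eq_true rfl) rfl

theorem c1013 : Block F al 0 259584 140332 :=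
  block_comb c1012 b1013 (Nat.zero_le _) (Nat.le_of_ble_eq_true rfl) rfl

theorem c1014 : Block F al 0 259840 140370 :=
  block_comb c1013 b1014 (Nat.zero_le _) (Nat.le_of_ble_eq_true rfl) rfl

theorem c1015 : Block F al 0 260096 140421 :=
  block_comb c1014 b1015 (Nat.zero_le _) (Nat.le_of_ble_eq_true rfl) rfl

theorem c1016 : Block F al 0 260352 140501 :=
  block_comb c1015 b1016 (Nat.zero_le _) (Nat.le_of_ble_eq_true rfl) rfl

theorem c1017 : Block F al 0 260608 140596 :=
  block_comb c1016 b1017 (Nat.zero_le _) (Nat.le_of_ble_eq_true rfl) rfl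

theorem c1018 : Block F al 0 260864 140731 :=
  block_comb c1017 b1018 (Nat.zero_le _) (Nat.le_of_ble_eq_true rfl) rfl

theorem c1019 : Block F al 0 261120 140818 :=
  block_comb c1018 b1019 (Nat.zero_le _) (Nat.le_of_ble_eq_true rfl) rfl

theorem c1020 : Block F al 0 261376 140913 :=
  block_comb c1019 b1020 (Nat.zero_le _) (Nat.le_of_ble_eq_true rfl) rfl

theorem c1021 : Block F al 0 261632 141020 :=
  block_comb c1020 b1021 (Nat.zero_le _) (Nat.le_of_ble_eq_true rfl) rfl

theorem c1022 : Block F al 0 261888 141060 :=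
  block_comb c1021 b1022 (Nat.zero_le _) (Nat.le_of_ble_eq_true rfl) rfl

theorem c1023 : Block F al 0 262144 141158 :=
  block_comb c1022 b1023 (Nat.zero_le _) (Nat.le_of_ble_eq_true rfl) rfl

theorem c1024 : Block F al 0 262400 141226 :=
  block_comb c1023 b1024 (Nat.zero_le _) (Nat.le_of_ble_eq_true rfl) rfl

theorem c1025 : Block F al 0 262656 141276 :=
  block_comb c1024 b1025 (Nat.zero_le _) (Nat.le_of_ble_eq_true rfl) rfl

theorem c1026 : Block F al 0 262912 141340 :=
  block_comb c1025 b1026 (Nat.zero_le _) (Nat.le_of_ble_eq_true rfl) rfl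

theorem c1027 : Block F al 0 263168 141402 :=
  block_comb c1026 b1027 (Nat.zero_le _) (Nat.le_of_ble_eq_true rfl) rfl

theorem c1028 : Block F al 0 263424 141458 :=
  block_comb c1027 b1028 (Nat.zero_le _) (Nat.le_of_ble_eq_true rfl) rfl

theorem c1029 : Block F al 0 263680 141508 :=
  block_comb c1028 b1029 (Nat.zero_le _) (Nat.le_of_ble_eq_true rfl) rfl

theorem c1030 : Block F al 0 263936 141607 :=
  block_comb c1029 b1030 (Nat.zero_le _) (Nat.le_of_ble_eq_true rfl) rfl

theorem c1031 : Block F al 0 264192 141692 :=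
  block_comb c1030 b1031 (Nat.zero_le _) (Nat.le_of_ble_eq_true rfl) rfl

theorem c1032 : Block F al 0 264448 141783 :=
  block_comb c1031 b1032 (Nat.zero_le _) (Nat.le_of_ble_eq_true rfl) rfl

theorem c1033 : Block F al 0 264704 141854 :=
  block_comb c1032 b1033 (Nat.zero_le _) (Nat.le_of_ble_eq_true rfl) rfl

theorem c1034 : Block F al 0 264960 141978 :=
  block_comb c1033 b1034 (Nat.zero_le _) (Nat.le_of_ble_eq_true rfl) rfl

theorem c1035 : Block F al 0 265216 142048 :=
  block_comb c1034 b1035 (Nat.zero_le _) (Nat.le_of_ble_eq_true rfl) rfl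

theorem c1036 : Block F al 0 265472 142128 :=
  block_comb c1035 b1036 (Nat.zero_le _) (Nat.le_of_ble_eq_true rfl) rfl

theorem c1037 : Block F al 0 265728 142198 :=
  block_comb c1036 b1037 (Nat.zero_le _) (Nat.le_of_ble_eq_true rfl) rfl

theorem c1038 : Block F al 0 265984 142260 :=
  block_comb c1037 b1038 (Nat.zero_le _) (Nat.le_of_ble_eq_true rfl) rfl

theorem c1039 : Block F al 0 266240 142313 :=
  block_comb c1038 b1039 (Nat.zero_le _) (Nat.le_of_ble_eq_true rfl) rfl

theorem c1040 : Block F al 0 266496 142392 :=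
  block_comb c1039 b1040 (Nat.zero_le _) (Nat.le_of_ble_eq_true rfl) rfl

theorem c1041 : Block F al 0 266752 142423 :=
  block_comb c1040 b1041 (Nat.zero_le _) (Nat.le_of_ble_eq_true rfl) rfl

theorem c1042 : Block F al 0 267008 142496 :=
  block_comb c1041 b1042 (Nat.zero_le _) (Nat.le_of_ble_eq_true rfl) rfl

theorem c1043 : Block F al 0 267264 142606 :=
  block_comb c1042 b1043 (Nat.zero_le _) (Nat.le_of_ble_eq_true rfl) rfl

theorem c1044 : Block F al 0 267520 142680 :=
  block_comb c1043 b1044 (Nat.zero_le _) (Nat.le_of_ble_eq_true rfl) rfl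

theorem c1045 : Block F al 0 267776 142784 :=
  block_comb c1044 b1045 (Nat.zero_le _) (Nat.le_of_ble_eq_true rfl) rfl

theorem c1046 : Block F al 0 268032 142918 :=
  block_comb c1045 b1046 (Nat.zero_le _) (Nat.le_of_ble_eq_true rfl) rfl

theorem c1047 : Block F al 0 268288 143064 :=
  block_comb c1046 b1047 (Nat.zero_le _) (Nat.le_of_ble_eq_true rfl) rfl

theorem c1048 : Block F al 0 268544 143164 :=
  block_comb c1047 b1048 (Nat.zero_le _) (Nat.le_of_ble_eq_true rfl) rfl

theorem c1049 : Block F al 0 268800 143267 :=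
  block_comb c1048 b1049 (Nat.zero_le _) (Nat.le_of_ble_eq_true rfl) rfl

theorem c1050 : Block F al 0 269056 143352 :=
  block_comb c1049 b1050 (Nat.zero_le _) (Nat.le_of_ble_eq_true rfl) rfl

theorem c1051 : Block F al 0 269312 143416 :=
  block_comb c1050 b1051 (Nat.zero_le _) (Nat.le_of_ble_eq_true rfl) rfl

theorem c1052 : Block F al 0 269568 143460 :=
  block_comb c1051 b1052 (Nat.zero_le _) (Nat.le_of_ble_eq_true rfl) rfl

theorem c1053 : Block F al 0 269824 143550 :=
  block_comb c1052 b1053 (Nat.zero_le _) (Nat.le_of_ble_eq_true rfl) rfl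

theorem c1054 : Block F al 0 270080 143596 :=
  block_comb c1053 b1054 (Nat.zero_le _) (Nat.le_of_ble_eq_true rfl) rfl

theorem c1055 : Block F al 0 270336 143693 :=
  block_comb c1054 b1055 (Nat.zero_le _) (Nat.le_of_ble_eq_true rfl) rfl

theorem c1056 : Block F al 0 270592 143820 :=
  block_comb c1055 b1056 (Nat.zero_le _) (Nat.le_of_ble_eq_true rfl) rfl

theorem c1057 : Block F al 0 270848 143878 :=
  block_comb c1056 b1057 (Nat.zero_le _) (Nat.le_of_ble_eq_true rfl) rfl

theorem c1058 : Block F al 0 271104 143974 :=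
  block_comb c1057 b1058 (Nat.zero_le _) (Nat.le_of_ble_eq_true rfl) rfl

theorem c1059 : Block F al 0 271360 144063 :=
  block_comb c1058 b1059 (Nat.zero_le _) (Nat.le_of_ble_eq_true rfl) rfl

theorem c1060 : Block F al 0 271616 144150 :=
  block_comb c1059 b1060 (Nat.zero_le _) (Nat.le_of_ble_eq_true rfl) rfl

theorem c1061 : Block F al 0 271872 144274 :=
  block_comb c1060 b1061 (Nat.zero_le _) (Nat.le_of_ble_eq_true rfl) rfl

theorem c1062 : Block F al 0 272128 144341 :=
  block_comb c1061 b1062 (Nat.zero_le _) (Nat.le_of_ble_eq_true rfl) rfl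

theorem c1063 : Block F al 0 272384 144434 :=
  block_comb c1062 b1063 (Nat.zero_le _) (Nat.le_of_ble_eq_true rfl) rfl

theorem c1064 : Block F al 0 272640 144520 :=
  block_comb c1063 b1064 (Nat.zero_le _) (Nat.le_of_ble_eq_true rfl) rfl

theorem c1065 : Block F al 0 272896 144610 :=
  block_comb c1064 b1065 (Nat.zero_le _) (Nat.le_of_ble_eq_true rfl) rfl

theorem c1066 : Block F al 0 273152 144696 :=
  block_comb c1065 b1066 (Nat.zero_le _) (Nat.le_of_ble_eq_true rfl) rfl

theorem c1067 : Block F al 0 273408 144736 :=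
  block_comb c1066 b1067 (Nat.zero_le _) (Nat.le_of_ble_eq_true rfl) rfl

theorem c1068 : Block F al 0 273664 144779 :=
  block_comb c1067 b1068 (Nat.zero_le _) (Nat.le_of_ble_eq_true rfl) rfl

theorem c1069 : Block F al 0 273920 144875 :=
  block_comb c1068 b1069 (Nat.zero_le _) (Nat.le_of_ble_eq_true rfl) rfl

theorem c1070 : Block F al 0 274176 144967 :=
  block_comb c1069 b1070 (Nat.zero_le _) (Nat.le_of_ble_eq_true rfl) rfl

theorem c1071 : Block F al 0 274432 145016 :=
  block_comb c1070 b1071 (Nat.zero_le _) (Nat.le_of_ble_eq_true rfl) rfl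

theorem c1072 : Block F al 0 274688 145054 :=
  block_comb c1071 b1072 (Nat.zero_le _) (Nat.le_of_ble_eq_true rfl) rfl

theorem c1073 : Block F al 0 274944 145111 :=
  block_comb c1072 b1073 (Nat.zero_le _) (Nat.le_of_ble_eq_true rfl) rfl

theorem c1074 : Block F al 0 275200 145173 :=
  block_comb c1073 b1074 (Nat.zero_le _) (Nat.le_of_ble_eq_true rfl) rfl

theorem c1075 : Block F al 0 275456 145244 :=
  block_comb c1074 b1075 (Nat.zero_le _) (Nat.le_of_ble_eq_true rfl) rfl

theorem c1076 : Block F al 0 275712 145352 :=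
  block_comb c1075 b1076 (Nat.zero_le _) (Nat.le_of_ble_eq_true rfl) rfl

theorem c1077 : Block F al 0 275968 145449 :=
  block_comb c1076 b1077 (Nat.zero_le _) (Nat.le_of_ble_eq_true rfl) rfl

theorem c1078 : Block F al 0 276224 145555 :=
  block_comb c1077 b1078 (Nat.zero_le _) (Nat.le_of_ble_eq_true rfl) rfl

theorem c1079 : Block F al 0 276480 145632 :=
  block_comb c1078 b1079 (Nat.zero_le _) (Nat.le_of_ble_eq_true rfl) rfl

theorem c1080 : Block F al 0 276736 145702 :=
  block_comb c1079 b1080 (Nat.zero_le _) (Nat.le_of_ble_eq_true rfl) rfl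

theorem c1081 : Block F al 0 276992 145794 :=
  block_comb c1080 b1081 (Nat.zero_le _) (Nat.le_of_ble_eq_true rfl) rfl

theorem c1082 : Block F al 0 277248 145866 :=
  block_comb c1081 b1082 (Nat.zero_le _) (Nat.le_of_ble_eq_true rfl) rfl

theorem c1083 : Block F al 0 277504 145942 :=
  block_comb c1082 b1083 (Nat.zero_le _) (Nat.le_of_ble_eq_true rfl) rfl

theorem c1084 : Block F al 0 277760 146004 :=
  block_comb c1083 b1084 (Nat.zero_le _) (Nat.le_of_ble_eq_true rfl) rfl

theorem c1085 : Block F al 0 278016 146044 :=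
  block_comb c1084 b1085 (Nat.zero_le _) (Nat.le_of_ble_eq_true rfl) rfl

theorem c1086 : Block F al 0 278272 146116 :=
  block_comb c1085 b1086 (Nat.zero_le _) (Nat.le_of_ble_eq_true rfl) rfl

theorem c1087 : Block F al 0 278528 146174 :=
  block_comb c1086 b1087 (Nat.zero_le _) (Nat.le_of_ble_eq_true rfl) rfl

theorem c1088 : Block F al 0 278784 146240 :=
  block_comb c1087 b1088 (Nat.zero_le _) (Nat.le_of_ble_eq_true rfl) rfl

theorem c1089 : Block F al 0 279040 146286 :=
  block_comb c1088 b1089 (Nat.zero_le _) (Nat.le_of_ble_eq_true rfl) rfl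

theorem c1090 : Block F al 0 279296 146357 :=
  block_comb c1089 b1090 (Nat.zero_le _) (Nat.le_of_ble_eq_true rfl) rfl

theorem c1091 : Block F al 0 279552 146440 :=
  block_comb c1090 b1091 (Nat.zero_le _) (Nat.le_of_ble_eq_true rfl) rfl

theorem c1092 : Block F al 0 279808 146506 :=
  block_comb c1091 b1092 (Nat.zero_le _) (Nat.le_of_ble_eq_true rfl) rfl

theorem c1093 : Block F al 0 280064 146584 :=
  block_comb c1092 b1093 (Nat.zero_le _) (Nat.le_of_ble_eq_true rfl) rfl

theorem c1094 : Block F al 0 280320 146656 :=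
  block_comb c1093 b1094 (Nat.zero_le _) (Nat.le_of_ble_eq_true rfl) rfl

theorem c1095 : Block F al 0 280576 146697 :=
  block_comb c1094 b1095 (Nat.zero_le _) (Nat.le_of_ble_eq_true rfl) rfl

theorem c1096 : Block F al 0 280832 146744 :=
  block_comb c1095 b1096 (Nat.zero_le _) (Nat.le_of_ble_eq_true rfl) rfl

theorem c1097 : Block F al 0 281088 146806 :=
  block_comb c1096 b1097 (Nat.zero_le _) (Nat.le_of_ble_eq_true rfl) rfl

theorem c1098 : Block F al 0 281344 146850 :=
  block_comb c1097 b1098 (Nat.zero_le _) (Nat.le_of_ble_eq_true rfl) rfl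

theorem c1099 : Block F al 0 281600 146934 :=
  block_comb c1098 b1099 (Nat.zero_le _) (Nat.le_of_ble_eq_true rfl) rfl

theorem c1100 : Block F al 0 281856 146992 :=
  block_comb c1099 b1100 (Nat.zero_le _) (Nat.le_of_ble_eq_true rfl) rfl

theorem c1101 : Block F al 0 282112 147020 :=
  block_comb c1100 b1101 (Nat.zero_le _) (Nat.le_of_ble_eq_true rfl) rfl

theorem c1102 : Block F al 0 282368 147092 :=
  block_comb c1101 b1102 (Nat.zero_le _) (Nat.le_of_ble_eq_true rfl) rfl

theorem c1103 : Block F al 0 282624 147124 :=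
  block_comb c1102 b1103 (Nat.zero_le _) (Nat.le_of_ble_eq_true rfl) rfl

theorem c1104 : Block F al 0 282880 147182 :=
  block_comb c1103 b1104 (Nat.zero_le _) (Nat.le_of_ble_eq_true rfl) rfl

theorem c1105 : Block F al 0 283136 147250 :=
  block_comb c1104 b1105 (Nat.zero_le _) (Nat.le_of_ble_eq_true rfl) rfl

theorem c1106 : Block F al 0 283392 147340 :=
  block_comb c1105 b1106 (Nat.zero_le _) (Nat.le_of_ble_eq_true rfl) rfl

theorem c1107 : Block F al 0 283648 147437 :=
  block_comb c1106 b1107 (Nat.zero_le _) (Nat.le_of_ble_eq_true rfl) rfl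

theorem c1108 : Block F al 0 283904 147528 :=
  block_comb c1107 b1108 (Nat.zero_le _) (Nat.le_of_ble_eq_true rfl) rfl

theorem c1109 : Block F al 0 284160 147598 :=
  block_comb c1108 b1109 (Nat.zero_le _) (Nat.le_of_ble_eq_true rfl) rfl

theorem c1110 : Block F al 0 284416 147644 :=
  block_comb c1109 b1110 (Nat.zero_le _) (Nat.le_of_ble_eq_true rfl) rfl

theorem c1111 : Block F al 0 284672 147719 :=
  block_comb c1110 b1111 (Nat.zero_le _) (Nat.le_of_ble_eq_true rfl) rfl

theorem c1112 : Block F al 0 284928 147810 :=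
  block_comb c1111 b1112 (Nat.zero_le _) (Nat.le_of_ble_eq_true rfl) rfl

theorem c1113 : Block F al 0 285184 147930 :=
  block_comb c1112 b1113 (Nat.zero_le _) (Nat.le_of_ble_eq_true rfl) rfl

theorem c1114 : Block F al 0 285440 147996 :=
  block_comb c1113 b1114 (Nat.zero_le _) (Nat.le_of_ble_eq_true rfl) rfl

theorem c1115 : Block F al 0 285696 148091 :=
  block_comb c1114 b1115 (Nat.zero_le _) (Nat.le_of_ble_eq_true rfl) rfl

theorem c1116 : Block F al 0 285952 148210 :=
  block_comb c1115 b1116 (Nat.zero_le _) (Nat.le_of_ble_eq_true rfl) rfl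

theorem c1117 : Block F al 0 286208 148284 :=
  block_comb c1116 b1117 (Nat.zero_le _) (Nat.le_of_ble_eq_true rfl) rfl

theorem c1118 : Block F al 0 286464 148373 :=
  block_comb c1117 b1118 (Nat.zero_le _) (Nat.le_of_ble_eq_true rfl) rfl

theorem c1119 : Block F al 0 286720 148508 :=
  block_comb c1118 b1119 (Nat.zero_le _) (Nat.le_of_ble_eq_true rfl) rfl

theorem c1120 : Block F al 0 286976 148559 :=
  block_comb c1119 b1120 (Nat.zero_le _) (Nat.le_of_ble_eq_true rfl) rfl

theorem c1121 : Block F al 0 287232 148622 :=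
  block_comb c1120 b1121 (Nat.zero_le _) (Nat.le_of_ble_eq_true rfl) rfl

theorem c1122 : Block F al 0 287488 148762 :=
  block_comb c1121 b1122 (Nat.zero_le _) (Nat.le_of_ble_eq_true rfl) rfl

theorem c1123 : Block F al 0 287744 148817 :=
  block_comb c1122 b1123 (Nat.zero_le _) (Nat.le_of_ble_eq_true rfl) rfl

theorem c1124 : Block F al 0 288000 148886 :=
  block_comb c1123 b1124 (Nat.zero_le _) (Nat.le_of_ble_eq_true rfl) rfl

theorem c1125 : Block F al 0 288256 148952 :=
  block_comb c1124 b1125 (Nat.zero_le _) (Nat.le_of_ble_eq_true rfl) rfl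

theorem c1126 : Block F al 0 288512 149036 :=
  block_comb c1125 b1126 (Nat.zero_le _) (Nat.le_of_ble_eq_true rfl) rfl

theorem c1127 : Block F al 0 288768 149072 :=
  block_comb c1126 b1127 (Nat.zero_le _) (Nat.le_of_ble_eq_true rfl) rfl

theorem c1128 : Block F al 0 289024 149144 :=
  block_comb c1127 b1128 (Nat.zero_le _) (Nat.le_of_ble_eq_true rfl) rfl

theorem c1129 : Block F al 0 289280 149224 :=
  block_comb c1128 b1129 (Nat.zero_le _) (Nat.le_of_ble_eq_true rfl) rfl

theorem c1130 : Block F al 0 289536 149298 :=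
  block_comb c1129 b1130 (Nat.zero_le _) (Nat.le_of_ble_eq_true rfl) rfl

theorem c1131 : Block F al 0 289792 149407 :=
  block_comb c1130 b1131 (Nat.zero_le _) (Nat.le_of_ble_eq_true rfl) rfl

theorem c1132 : Block F al 0 290048 149494 :=
  block_comb c1131 b1132 (Nat.zero_le _) (Nat.le_of_ble_eq_true rfl) rfl

theorem c1133 : Block F al 0 290304 149550 :=
  block_comb c1132 b1133 (Nat.zero_le _) (Nat.le_of_ble_eq_true rfl) rfl

theorem c1134 : Block F al 0 290560 149611 :=
  block_comb c1133 b1134 (Nat.zero_le _) (Nat.le_of_ble_eq_true rfl) rfl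

theorem c1135 : Block F al 0 290816 149684 :=
  block_comb c1134 b1135 (Nat.zero_le _) (Nat.le_of_ble_eq_true rfl) rfl

theorem c1136 : Block F al 0 291072 149786 :=
  block_comb c1135 b1136 (Nat.zero_le _) (Nat.le_of_ble_eq_true rfl) rfl

theorem c1137 : Block F al 0 291328 149872 :=
  block_comb c1136 b1137 (Nat.zero_le _) (Nat.le_of_ble_eq_true rfl) rfl

theorem c1138 : Block F al 0 291584 149959 :=
  block_comb c1137 b1138 (Nat.zero_le _) (Nat.le_of_ble_eq_true rfl) rfl

theorem c1139 : Block F al 0 291840 150054 :=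
  block_comb c1138 b1139 (Nat.zero_le _) (Nat.le_of_ble_eq_true rfl) rfl

theorem c1140 : Block F al 0 292096 150100 :=
  block_comb c1139 b1140 (Nat.zero_le _) (Nat.le_of_ble_eq_true rfl) rfl

theorem c1141 : Block F al 0 292352 150144 :=
  block_comb c1140 b1141 (Nat.zero_le _) (Nat.le_of_ble_eq_true rfl) rfl

theorem c1142 : Block F al 0 292608 150220 :=
  block_comb c1141 b1142 (Nat.zero_le _) (Nat.le_of_ble_eq_true rfl) rfl

theorem c1143 : Block F al 0 292864 150272 :=
  block_comb c1142 b1143 (Nat.zero_le _) (Nat.le_of_ble_eq_true rfl) rfl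

theorem c1144 : Block F al 0 293120 150384 :=
  block_comb c1143 b1144 (Nat.zero_le _) (Nat.le_of_ble_eq_true rfl) rfl

theorem c1145 : Block F al 0 293376 150468 :=
  block_comb c1144 b1145 (Nat.zero_le _) (Nat.le_of_ble_eq_true rfl) rfl

theorem c1146 : Block F al 0 293632 150563 :=
  block_comb c1145 b1146 (Nat.zero_le _) (Nat.le_of_ble_eq_true rfl) rfl

theorem c1147 : Block F al 0 293888 150608 :=
  block_comb c1146 b1147 (Nat.zero_le _) (Nat.le_of_ble_eq_true rfl) rfl

theorem c1148 : Block F al 0 294144 150674 :=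
  block_comb c1147 b1148 (Nat.zero_le _) (Nat.le_of_ble_eq_true rfl) rfl

theorem c1149 : Block F al 0 294400 150722 :=
  block_comb c1148 b1149 (Nat.zero_le _) (Nat.le_of_ble_eq_true rfl) rfl

theorem c1150 : Block F al 0 294656 150833 :=
  block_comb c1149 b1150 (Nat.zero_le _) (Nat.le_of_ble_eq_true rfl) rfl

theorem c1151 : Block F al 0 294912 150886 :=
  block_comb c1150 b1151 (Nat.zero_le _) (Nat.le_of_ble_eq_true rfl) rfl

theorem c1152 : Block F al 0 295168 150930 :=
  block_comb c1151 b1152 (Nat.zero_le _) (Nat.le_of_ble_eq_true rfl) rfl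

theorem c1153 : Block F al 0 295424 150951 :=
  block_comb c1152 b1153 (Nat.zero_le _) (Nat.le_of_ble_eq_true rfl) rfl

theorem c1154 : Block F al 0 295680 151057 :=
  block_comb c1153 b1154 (Nat.zero_le _) (Nat.le_of_ble_eq_true rfl) rfl

theorem c1155 : Block F al 0 295936 151183 :=
  block_comb c1154 b1155 (Nat.zero_le _) (Nat.le_of_ble_eq_true rfl) rfl

theorem c1156 : Block F al 0 296192 151252 :=
  block_comb c1155 b1156 (Nat.zero_le _) (Nat.le_of_ble_eq_true rfl) rfl

theorem c1157 : Block F al 0 296448 151282 :=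
  block_comb c1156 b1157 (Nat.zero_le _) (Nat.le_of_ble_eq_true rfl) rfl

theorem c1158 : Block F al 0 296704 151366 :=
  block_comb c1157 b1158 (Nat.zero_le _) (Nat.le_of_ble_eq_true rfl) rfl

theorem c1159 : Block F al 0 296960 151459 :=
  block_comb c1158 b1159 (Nat.zero_le _) (Nat.le_of_ble_eq_true rfl) rfl

theorem c1160 : Block F al 0 297216 151578 :=
  block_comb c1159 b1160 (Nat.zero_le _) (Nat.le_of_ble_eq_true rfl) rfl

theorem c1161 : Block F al 0 297472 151644 :=
  block_comb c1160 b1161 (Nat.zero_le _) (Nat.le_of_ble_eq_true rfl) rfl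

theorem c1162 : Block F al 0 297728 151686 :=
  block_comb c1161 b1162 (Nat.zero_le _) (Nat.le_of_ble_eq_true rfl) rfl

theorem c1163 : Block F al 0 297984 151734 :=
  block_comb c1162 b1163 (Nat.zero_le _) (Nat.le_of_ble_eq_true rfl) rfl

theorem c1164 : Block F al 0 298240 151762 :=
  block_comb c1163 b1164 (Nat.zero_le _) (Nat.le_of_ble_eq_true rfl) rfl

theorem c1165 : Block F al 0 298496 151838 :=
  block_comb c1164 b1165 (Nat.zero_le _) (Nat.le_of_ble_eq_true rfl) rfl

theorem c1166 : Block F al 0 298752 151882 :=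
  block_comb c1165 b1166 (Nat.zero_le _) (Nat.le_of_ble_eq_true rfl) rfl

theorem c1167 : Block F al 0 299008 151938 :=
  block_comb c1166 b1167 (Nat.zero_le _) (Nat.le_of_ble_eq_true rfl) rfl

theorem c1168 : Block F al 0 299264 151974 :=
  block_comb c1167 b1168 (Nat.zero_le _) (Nat.le_of_ble_eq_true rfl) rfl

theorem c1169 : Block F al 0 299520 152000 :=
  block_comb c1168 b1169 (Nat.zero_le _) (Nat.le_of_ble_eq_true rfl) rfl

theorem c1170 : Block F al 0 299776 152046 :=
  block_comb c1169 b1170 (Nat.zero_le _) (Nat.le_of_ble_eq_true rfl) rfl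

theorem c1171 : Block F al 0 300032 152096 :=
  block_comb c1170 b1171 (Nat.zero_le _) (Nat.le_of_ble_eq_true rfl) rfl

theorem c1172 : Block F al 0 300288 152151 :=
  block_comb c1171 b1172 (Nat.zero_le _) (Nat.le_of_ble_eq_true rfl) rfl

theorem c1173 : Block F al 0 300544 152230 :=
  block_comb c1172 b1173 (Nat.zero_le _) (Nat.le_of_ble_eq_true rfl) rfl

theorem c1174 : Block F al 0 300800 152286 :=
  block_comb c1173 b1174 (Nat.zero_le _) (Nat.le_of_ble_eq_true rfl) rfl

theorem c1175 : Block F al 0 301056 152329 :=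
  block_comb c1174 b1175 (Nat.zero_le _) (Nat.le_of_ble_eq_true rfl) rfl

theorem c1176 : Block F al 0 301312 152416 :=
  block_comb c1175 b1176 (Nat.zero_le _) (Nat.le_of_ble_eq_true rfl) rfl

theorem c1177 : Block F al 0 301568 152517 :=
  block_comb c1176 b1177 (Nat.zero_le _) (Nat.le_of_ble_eq_true rfl) rfl

theorem c1178 : Block F al 0 301824 152572 :=
  block_comb c1177 b1178 (Nat.zero_le _) (Nat.le_of_ble_eq_true rfl) rfl

theorem c1179 : Block F al 0 302080 152648 :=
  block_comb c1178 b1179 (Nat.zero_le _) (Nat.le_of_ble_eq_true rfl) rfl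

theorem c1180 : Block F al 0 302336 152728 :=
  block_comb c1179 b1180 (Nat.zero_le _) (Nat.le_of_ble_eq_true rfl) rfl

theorem c1181 : Block F al 0 302592 152842 :=
  block_comb c1180 b1181 (Nat.zero_le _) (Nat.le_of_ble_eq_true rfl) rfl

theorem c1182 : Block F al 0 302848 152898 :=
  block_comb c1181 b1182 (Nat.zero_le _) (Nat.le_of_ble_eq_true rfl) rfl

theorem c1183 : Block F al 0 303104 153006 :=
  block_comb c1182 b1183 (Nat.zero_le _) (Nat.le_of_ble_eq_true rfl) rfl

theorem c1184 : Block F al 0 303360 153084 :=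
  block_comb c1183 b1184 (Nat.zero_le _) (Nat.le_of_ble_eq_true rfl) rfl

theorem c1185 : Block F al 0 303616 153196 :=
  block_comb c1184 b1185 (Nat.zero_le _) (Nat.le_of_ble_eq_true rfl) rfl

theorem c1186 : Block F al 0 303872 153296 :=
  block_comb c1185 b1186 (Nat.zero_le _) (Nat.le_of_ble_eq_true rfl) rfl

theorem c1187 : Block F al 0 304128 153407 :=
  block_comb c1186 b1187 (Nat.zero_le _) (Nat.le_of_ble_eq_true rfl) rfl

theorem c1188 : Block F al 0 304384 153452 :=
  block_comb c1187 b1188 (Nat.zero_le _) (Nat.le_of_ble_eq_true rfl) rfl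

theorem c1189 : Block F al 0 304640 153518 :=
  block_comb c1188 b1189 (Nat.zero_le _) (Nat.le_of_ble_eq_true rfl) rfl

theorem c1190 : Block F al 0 304896 153590 :=
  block_comb c1189 b1190 (Nat.zero_le _) (Nat.le_of_ble_eq_true rfl) rfl

theorem c1191 : Block F al 0 305152 153684 :=
  block_comb c1190 b1191 (Nat.zero_le _) (Nat.le_of_ble_eq_true rfl) rfl

theorem c1192 : Block F al 0 305408 153774 :=
  block_comb c1191 b1192 (Nat.zero_le _) (Nat.le_of_ble_eq_true rfl) rfl

theorem c1193 : Block F al 0 305664 153842 :=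
  block_comb c1192 b1193 (Nat.zero_le _) (Nat.le_of_ble_eq_true rfl) rfl

theorem c1194 : Block F al 0 305920 153909 :=
  block_comb c1193 b1194 (Nat.zero_le _) (Nat.le_of_ble_eq_true rfl) rfl

theorem c1195 : Block F al 0 306176 153946 :=
  block_comb c1194 b1195 (Nat.zero_le _) (Nat.le_of_ble_eq_true rfl) rfl

theorem c1196 : Block F al 0 306432 154011 :=
  block_comb c1195 b1196 (Nat.zero_le _) (Nat.le_of_ble_eq_true rfl) rfl

theorem c1197 : Block F al 0 306688 154024 :=
  block_comb c1196 b1197 (Nat.zero_le _) (Nat.le_of_ble_eq_true rfl) rfl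

theorem c1198 : Block F al 0 306944 154088 :=
  block_comb c1197 b1198 (Nat.zero_le _) (Nat.le_of_ble_eq_true rfl) rfl

theorem c1199 : Block F al 0 307200 154120 :=
  block_comb c1198 b1199 (Nat.zero_le _) (Nat.le_of_ble_eq_true rfl) rfl

theorem c1200 : Block F al 0 307456 154180 :=
  block_comb c1199 b1200 (Nat.zero_le _) (Nat.le_of_ble_eq_true rfl) rfl

theorem c1201 : Block F al 0 307712 154212 :=
  block_comb c1200 b1201 (Nat.zero_le _) (Nat.le_of_ble_eq_true rfl) rfl

theorem c1202 : Block F al 0 307968 154230 :=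
  block_comb c1201 b1202 (Nat.zero_le _) (Nat.le_of_ble_eq_true rfl) rfl

theorem c1203 : Block F al 0 308224 154280 :=
  block_comb c1202 b1203 (Nat.zero_le _) (Nat.le_of_ble_eq_true rfl) rfl

theorem c1204 : Block F al 0 308480 154365 :=
  block_comb c1203 b1204 (Nat.zero_le _) (Nat.le_of_ble_eq_true rfl) rfl

theorem c1205 : Block F al 0 308736 154431 :=
  block_comb c1204 b1205 (Nat.zero_le _) (Nat.le_of_ble_eq_true rfl) rfl

theorem c1206 : Block F al 0 308992 154538 :=
  block_comb c1205 b1206 (Nat.zero_le _) (Nat.le_of_ble_eq_true rfl) rfl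

theorem c1207 : Block F al 0 309248 154598 :=
  block_comb c1206 b1207 (Nat.zero_le _) (Nat.le_of_ble_eq_true rfl) rfl

theorem c1208 : Block F al 0 309504 154636 :=
  block_comb c1207 b1208 (Nat.zero_le _) (Nat.le_of_ble_eq_true rfl) rfl

theorem c1209 : Block F al 0 309760 154648 :=
  block_comb c1208 b1209 (Nat.zero_le _) (Nat.le_of_ble_eq_true rfl) rfl

theorem c1210 : Block F al 0 310016 154710 :=
  block_comb c1209 b1210 (Nat.zero_le _) (Nat.le_of_ble_eq_true rfl) rfl

theorem c1211 : Block F al 0 310272 154812 :=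
  block_comb c1210 b1211 (Nat.zero_le _) (Nat.le_of_ble_eq_true rfl) rfl

theorem c1212 : Block F al 0 310528 154924 :=
  block_comb c1211 b1212 (Nat.zero_le _) (Nat.le_of_ble_eq_true rfl) rfl

theorem c1213 : Block F al 0 310784 155025 :=
  block_comb c1212 b1213 (Nat.zero_le _) (Nat.le_of_ble_eq_true rfl) rfl

theorem c1214 : Block F al 0 311040 155108 :=
  block_comb c1213 b1214 (Nat.zero_le _) (Nat.le_of_ble_eq_true rfl) rfl

theorem c1215 : Block F al 0 311296 155150 :=
  block_comb c1214 b1215 (Nat.zero_le _) (Nat.le_of_ble_eq_true rfl) rfl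

theorem c1216 : Block F al 0 311552 155166 :=
  block_comb c1215 b1216 (Nat.zero_le _) (Nat.le_of_ble_eq_true rfl) rfl

theorem c1217 : Block F al 0 311808 155212 :=
  block_comb c1216 b1217 (Nat.zero_le _) (Nat.le_of_ble_eq_true rfl) rfl

theorem c1218 : Block F al 0 312064 155248 :=
  block_comb c1217 b1218 (Nat.zero_le _) (Nat.le_of_ble_eq_true rfl) rfl

theorem c1219 : Block F al 0 312320 155290 :=
  block_comb c1218 b1219 (Nat.zero_le _) (Nat.le_of_ble_eq_true rfl) rfl

theorem c1220 : Block F al 0 312576 155348 :=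
  block_comb c1219 b1220 (Nat.zero_le _) (Nat.le_of_ble_eq_true rfl) rfl

theorem c1221 : Block F al 0 312832 155426 :=
  block_comb c1220 b1221 (Nat.zero_le _) (Nat.le_of_ble_eq_true rfl) rfl

theorem c1222 : Block F al 0 313088 155539 :=
  block_comb c1221 b1222 (Nat.zero_le _) (Nat.le_of_ble_eq_true rfl) rfl

theorem c1223 : Block F al 0 313344 155608 :=
  block_comb c1222 b1223 (Nat.zero_le _) (Nat.le_of_ble_eq_true rfl) rfl

theorem c1224 : Block F al 0 313600 155626 :=
  block_comb c1223 b1224 (Nat.zero_le _) (Nat.le_of_ble_eq_true rfl) rfl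

theorem c1225 : Block F al 0 313856 155717 :=
  block_comb c1224 b1225 (Nat.zero_le _) (Nat.le_of_ble_eq_true rfl) rfl

theorem c1226 : Block F al 0 314112 155837 :=
  block_comb c1225 b1226 (Nat.zero_le _) (Nat.le_of_ble_eq_true rfl) rfl

theorem c1227 : Block F al 0 314368 155886 :=
  block_comb c1226 b1227 (Nat.zero_le _) (Nat.le_of_ble_eq_true rfl) rfl

theorem c1228 : Block F al 0 314624 155956 :=
  block_comb c1227 b1228 (Nat.zero_le _) (Nat.le_of_ble_eq_true rfl) rfl

theorem c1229 : Block F al 0 314880 156042 :=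
  block_comb c1228 b1229 (Nat.zero_le _) (Nat.le_of_ble_eq_true rfl) rfl

theorem c1230 : Block F al 0 315136 156164 :=
  block_comb c1229 b1230 (Nat.zero_le _) (Nat.le_of_ble_eq_true rfl) rfl

theorem c1231 : Block F al 0 315392 156222 :=
  block_comb c1230 b1231 (Nat.zero_le _) (Nat.le_of_ble_eq_true rfl) rfl

theorem c1232 : Block F al 0 315648 156299 :=
  block_comb c1231 b1232 (Nat.zero_le _) (Nat.le_of_ble_eq_true rfl) rfl

theorem c1233 : Block F al 0 315904 156406 :=
  block_comb c1232 b1233 (Nat.zero_le _) (Nat.le_of_ble_eq_true rfl) rfl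

theorem c1234 : Block F al 0 316160 156501 :=
  block_comb c1233 b1234 (Nat.zero_le _) (Nat.le_of_ble_eq_true rfl) rfl

theorem c1235 : Block F al 0 316416 156606 :=
  block_comb c1234 b1235 (Nat.zero_le _) (Nat.le_of_ble_eq_true rfl) rfl

theorem c1236 : Block F al 0 316672 156678 :=
  block_comb c1235 b1236 (Nat.zero_le _) (Nat.le_of_ble_eq_true rfl) rfl

theorem c1237 : Block F al 0 316928 156730 :=
  block_comb c1236 b1237 (Nat.zero_le _) (Nat.le_of_ble_eq_true rfl) rfl

theorem c1238 : Block F al 0 317184 156772 :=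
  block_comb c1237 b1238 (Nat.zero_le _) (Nat.le_of_ble_eq_true rfl) rfl

theorem c1239 : Block F al 0 317440 156810 :=
  block_comb c1238 b1239 (Nat.zero_le _) (Nat.le_of_ble_eq_true rfl) rfl

theorem c1240 : Block F al 0 317696 156844 :=
  block_comb c1239 b1240 (Nat.zero_le _) (Nat.le_of_ble_eq_true rfl) rfl

theorem c1241 : Block F al 0 317952 156876 :=
  block_comb c1240 b1241 (Nat.zero_le _) (Nat.le_of_ble_eq_true rfl) rfl

theorem c1242 : Block F al 0 318208 156956 :=
  block_comb c1241 b1242 (Nat.zero_le _) (Nat.le_of_ble_eq_true rfl) rfl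

theorem c1243 : Block F al 0 318464 156980 :=
  block_comb c1242 b1243 (Nat.zero_le _) (Nat.le_of_ble_eq_true rfl) rfl

theorem c1244 : Block F al 0 318720 157050 :=
  block_comb c1243 b1244 (Nat.zero_le _) (Nat.le_of_ble_eq_true rfl) rfl

theorem c1245 : Block F al 0 318976 157098 :=
  block_comb c1244 b1245 (Nat.zero_le _) (Nat.le_of_ble_eq_true rfl) rfl

theorem c1246 : Block F al 0 319232 157154 :=
  block_comb c1245 b1246 (Nat.zero_le _) (Nat.le_of_ble_eq_true rfl) rfl

theorem c1247 : Block F al 0 319488 157172 :=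
  block_comb c1246 b1247 (Nat.zero_le _) (Nat.le_of_ble_eq_true rfl) rfl

theorem c1248 : Block F al 0 319744 157212 :=
  block_comb c1247 b1248 (Nat.zero_le _) (Nat.le_of_ble_eq_true rfl) rfl

theorem c1249 : Block F al 0 320000 157308 :=
  block_comb c1248 b1249 (Nat.zero_le _) (Nat.le_of_ble_eq_true rfl) rfl

theorem c1250 : Block F al 0 320256 157386 :=
  block_comb c1249 b1250 (Nat.zero_le _) (Nat.le_of_ble_eq_true rfl) rfl

theorem c1251 : Block F al 0 320512 157444 :=
  block_comb c1250 b1251 (Nat.zero_le _) (Nat.le_of_ble_eq_true rfl) rfl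

theorem c1252 : Block F al 0 320768 157521 :=
  block_comb c1251 b1252 (Nat.zero_le _) (Nat.le_of_ble_eq_true rfl) rfl

theorem c1253 : Block F al 0 321024 157558 :=
  block_comb c1252 b1253 (Nat.zero_le _) (Nat.le_of_ble_eq_true rfl) rfl

theorem c1254 : Block F al 0 321280 157588 :=
  block_comb c1253 b1254 (Nat.zero_le _) (Nat.le_of_ble_eq_true rfl) rfl

theorem c1255 : Block F al 0 321536 157630 :=
  block_comb c1254 b1255 (Nat.zero_le _) (Nat.le_of_ble_eq_true rfl) rfl

theorem c1256 : Block F al 0 321792 157724 :=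
  block_comb c1255 b1256 (Nat.zero_le _) (Nat.le_of_ble_eq_true rfl) rfl

theorem c1257 : Block F al 0 322048 157819 :=
  block_comb c1256 b1257 (Nat.zero_le _) (Nat.le_of_ble_eq_true rfl) rfl

theorem c1258 : Block F al 0 322304 157884 :=
  block_comb c1257 b1258 (Nat.zero_le _) (Nat.le_of_ble_eq_true rfl) rfl

theorem c1259 : Block F al 0 322560 157963 :=
  block_comb c1258 b1259 (Nat.zero_le _) (Nat.le_of_ble_eq_true rfl) rfl

theorem c1260 : Block F al 0 322816 158113 :=
  block_comb c1259 b1260 (Nat.zero_le _) (Nat.le_of_ble_eq_true rfl) rfl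

theorem c1261 : Block F al 0 323072 158204 :=
  block_comb c1260 b1261 (Nat.zero_le _) (Nat.le_of_ble_eq_true rfl) rfl

theorem c1262 : Block F al 0 323328 158272 :=
  block_comb c1261 b1262 (Nat.zero_le _) (Nat.le_of_ble_eq_true rfl) rfl

theorem c1263 : Block F al 0 323584 158330 :=
  block_comb c1262 b1263 (Nat.zero_le _) (Nat.le_of_ble_eq_true rfl) rfl

theorem c1264 : Block F al 0 323840 158422 :=
  block_comb c1263 b1264 (Nat.zero_le _) (Nat.le_of_ble_eq_true rfl) rfl

theorem c1265 : Block F al 0 324096 158474 :=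
  block_comb c1264 b1265 (Nat.zero_le _) (Nat.le_of_ble_eq_true rfl) rfl

theorem c1266 : Block F al 0 324352 158532 :=
  block_comb c1265 b1266 (Nat.zero_le _) (Nat.le_of_ble_eq_true rfl) rfl

theorem c1267 : Block F al 0 324608 158564 :=
  block_comb c1266 b1267 (Nat.zero_le _) (Nat.le_of_ble_eq_true rfl) rfl

theorem c1268 : Block F al 0 324864 158624 :=
  block_comb c1267 b1268 (Nat.zero_le _) (Nat.le_of_ble_eq_true rfl) rfl

theorem c1269 : Block F al 0 325120 158720 :=
  block_comb c1268 b1269 (Nat.zero_le _) (Nat.le_of_ble_eq_true rfl) rfl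

theorem c1270 : Block F al 0 325376 158785 :=
  block_comb c1269 b1270 (Nat.zero_le _) (Nat.le_of_ble_eq_true rfl) rfl

theorem c1271 : Block F al 0 325632 158846 :=
  block_comb c1270 b1271 (Nat.zero_le _) (Nat.le_of_ble_eq_true rfl) rfl

theorem c1272 : Block F al 0 325888 158932 :=
  block_comb c1271 b1272 (Nat.zero_le _) (Nat.le_of_ble_eq_true rfl) rfl

theorem c1273 : Block F al 0 326144 159010 :=
  block_comb c1272 b1273 (Nat.zero_le _) (Nat.le_of_ble_eq_true rfl) rfl

theorem c1274 : Block F al 0 326400 159032 :=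
  block_comb c1273 b1274 (Nat.zero_le _) (Nat.le_of_ble_eq_true rfl) rfl

theorem c1275 : Block F al 0 326656 159096 :=
  block_comb c1274 b1275 (Nat.zero_le _) (Nat.le_of_ble_eq_true rfl) rfl

theorem c1276 : Block F al 0 326912 159176 :=
  block_comb c1275 b1276 (Nat.zero_le _) (Nat.le_of_ble_eq_true rfl) rfl

theorem c1277 : Block F al 0 327168 159216 :=
  block_comb c1276 b1277 (Nat.zero_le _) (Nat.le_of_ble_eq_true rfl) rfl

theorem c1278 : Block F al 0 327424 159248 :=
  block_comb c1277 b1278 (Nat.zero_le _) (Nat.le_of_ble_eq_true rfl) rfl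

theorem c1279 : Block F al 0 327680 159278 :=
  block_comb c1278 b1279 (Nat.zero_le _) (Nat.le_of_ble_eq_true rfl) rfl

theorem c1280 : Block F al 0 327936 159359 :=
  block_comb c1279 b1280 (Nat.zero_le _) (Nat.le_of_ble_eq_true rfl) rfl

theorem c1281 : Block F al 0 328192 159394 :=
  block_comb c1280 b1281 (Nat.zero_le _) (Nat.le_of_ble_eq_true rfl) rfl

theorem c1282 : Block F al 0 328448 159480 :=
  block_comb c1281 b1282 (Nat.zero_le _) (Nat.le_of_ble_eq_true rfl) rfl

theorem c1283 : Block F al 0 328704 159572 :=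
  block_comb c1282 b1283 (Nat.zero_le _) (Nat.le_of_ble_eq_true rfl) rfl

theorem c1284 : Block F al 0 328960 159650 :=
  block_comb c1283 b1284 (Nat.zero_le _) (Nat.le_of_ble_eq_true rfl) rfl

theorem c1285 : Block F al 0 329216 159684 :=
  block_comb c1284 b1285 (Nat.zero_le _) (Nat.le_of_ble_eq_true rfl) rfl

theorem c1286 : Block F al 0 329472 159735 :=
  block_comb c1285 b1286 (Nat.zero_le _) (Nat.le_of_ble_eq_true rfl) rfl

theorem c1287 : Block F al 0 329728 159814 :=
  block_comb c1286 b1287 (Nat.zero_le _) (Nat.le_of_ble_eq_true rfl) rfl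

theorem c1288 : Block F al 0 329984 159868 :=
  block_comb c1287 b1288 (Nat.zero_le _) (Nat.le_of_ble_eq_true rfl) rfl

theorem c1289 : Block F al 0 330240 159958 :=
  block_comb c1288 b1289 (Nat.zero_le _) (Nat.le_of_ble_eq_true rfl) rfl

theorem c1290 : Block F al 0 330496 159996 :=
  block_comb c1289 b1290 (Nat.zero_le _) (Nat.le_of_ble_eq_true rfl) rfl

theorem c1291 : Block F al 0 330752 160072 :=
  block_comb c1290 b1291 (Nat.zero_le _) (Nat.le_of_ble_eq_true rfl) rfl

theorem c1292 : Block F al 0 331008 160172 :=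
  block_comb c1291 b1292 (Nat.zero_le _) (Nat.le_of_ble_eq_true rfl) rfl

theorem c1293 : Block F al 0 331264 160240 :=
  block_comb c1292 b1293 (Nat.zero_le _) (Nat.le_of_ble_eq_true rfl) rfl

theorem c1294 : Block F al 0 331520 160316 :=
  block_comb c1293 b1294 (Nat.zero_le _) (Nat.le_of_ble_eq_true rfl) rfl

theorem c1295 : Block F al 0 331776 160402 :=
  block_comb c1294 b1295 (Nat.zero_le _) (Nat.le_of_ble_eq_true rfl) rfl

theorem c1296 : Block F al 0 332032 160471 :=
  block_comb c1295 b1296 (Nat.zero_le _) (Nat.le_of_ble_eq_true rfl) rfl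

theorem c1297 : Block F al 0 332288 160536 :=
  block_comb c1296 b1297 (Nat.zero_le _) (Nat.le_of_ble_eq_true rfl) rfl

theorem c1298 : Block F al 0 332544 160578 :=
  block_comb c1297 b1298 (Nat.zero_le _) (Nat.le_of_ble_eq_true rfl) rfl

theorem c1299 : Block F al 0 332800 160628 :=
  block_comb c1298 b1299 (Nat.zero_le _) (Nat.le_of_ble_eq_true rfl) rfl

theorem c1300 : Block F al 0 333056 160691 :=
  block_comb c1299 b1300 (Nat.zero_le _) (Nat.le_of_ble_eq_true rfl) rfl

theorem c1301 : Block F al 0 333312 160786 :=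
  block_comb c1300 b1301 (Nat.zero_le _) (Nat.le_of_ble_eq_true rfl) rfl

theorem c1302 : Block F al 0 333568 160854 :=
  block_comb c1301 b1302 (Nat.zero_le _) (Nat.le_of_ble_eq_true rfl) rfl

theorem c1303 : Block F al 0 333824 160902 :=
  block_comb c1302 b1303 (Nat.zero_le _) (Nat.le_of_ble_eq_true rfl) rfl

theorem c1304 : Block F al 0 334080 160951 :=
  block_comb c1303 b1304 (Nat.zero_le _) (Nat.le_of_ble_eq_true rfl) rfl

theorem c1305 : Block F al 0 334336 161002 :=
  block_comb c1304 b1305 (Nat.zero_le _) (Nat.le_of_ble_eq_true rfl) rfl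

theorem c1306 : Block F al 0 334592 161076 :=
  block_comb c1305 b1306 (Nat.zero_le _) (Nat.le_of_ble_eq_true rfl) rfl

theorem c1307 : Block F al 0 334848 161106 :=
  block_comb c1306 b1307 (Nat.zero_le _) (Nat.le_of_ble_eq_true rfl) rfl

theorem c1308 : Block F al 0 335104 161158 :=
  block_comb c1307 b1308 (Nat.zero_le _) (Nat.le_of_ble_eq_true rfl) rfl

theorem c1309 : Block F al 0 335360 161241 :=
  block_comb c1308 b1309 (Nat.zero_le _) (Nat.le_of_ble_eq_true rfl) rfl

theorem c1310 : Block F al 0 335616 161252 :=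
  block_comb c1309 b1310 (Nat.zero_le _) (Nat.le_of_ble_eq_true rfl) rfl

theorem c1311 : Block F al 0 335872 161252 :=
  block_comb c1310 b1311 (Nat.zero_le _) (Nat.le_of_ble_eq_true rfl) rfl

theorem c1312 : Block F al 0 336128 161300 :=
  block_comb c1311 b1312 (Nat.zero_le _) (Nat.le_of_ble_eq_true rfl) rfl

theorem c1313 : Block F al 0 336384 161362 :=
  block_comb c1312 b1313 (Nat.zero_le _) (Nat.le_of_ble_eq_true rfl) rfl

theorem c1314 : Block F al 0 336640 161438 :=
  block_comb c1313 b1314 (Nat.zero_le _) (Nat.le_of_ble_eq_true rfl) rfl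

theorem c1315 : Block F al 0 336896 161534 :=
  block_comb c1314 b1315 (Nat.zero_le _) (Nat.le_of_ble_eq_true rfl) rfl

theorem c1316 : Block F al 0 337152 161568 :=
  block_comb c1315 b1316 (Nat.zero_le _) (Nat.le_of_ble_eq_true rfl) rfl

theorem c1317 : Block F al 0 337408 161642 :=
  block_comb c1316 b1317 (Nat.zero_le _) (Nat.le_of_ble_eq_true rfl) rfl

theorem c1318 : Block F al 0 337664 161658 :=
  block_comb c1317 b1318 (Nat.zero_le _) (Nat.le_of_ble_eq_true rfl) rfl

theorem c1319 : Block F al 0 337920 161744 :=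
  block_comb c1318 b1319 (Nat.zero_le _) (Nat.le_of_ble_eq_true rfl) rfl

theorem c1320 : Block F al 0 338176 161804 :=
  block_comb c1319 b1320 (Nat.zero_le _) (Nat.le_of_ble_eq_true rfl) rfl

theorem c1321 : Block F al 0 338432 161880 :=
  block_comb c1320 b1321 (Nat.zero_le _) (Nat.le_of_ble_eq_true rfl) rfl

theorem c1322 : Block F al 0 338688 161968 :=
  block_comb c1321 b1322 (Nat.zero_le _) (Nat.le_of_ble_eq_true rfl) rfl

theorem c1323 : Block F al 0 338944 162012 :=
  block_comb c1322 b1323 (Nat.zero_le _) (Nat.le_of_ble_eq_true rfl) rfl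

theorem c1324 : Block F al 0 339200 162055 :=
  block_comb c1323 b1324 (Nat.zero_le _) (Nat.le_of_ble_eq_true rfl) rfl

theorem c1325 : Block F al 0 339456 162096 :=
  block_comb c1324 b1325 (Nat.zero_le _) (Nat.le_of_ble_eq_true rfl) rfl

theorem c1326 : Block F al 0 339712 162142 :=
  block_comb c1325 b1326 (Nat.zero_le _) (Nat.le_of_ble_eq_true rfl) rfl

theorem c1327 : Block F al 0 339968 162185 :=
  block_comb c1326 b1327 (Nat.zero_le _) (Nat.le_of_ble_eq_true rfl) rfl

theorem c1328 : Block F al 0 340224 162274 :=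
  block_comb c1327 b1328 (Nat.zero_le _) (Nat.le_of_ble_eq_true rfl) rfl

theorem c1329 : Block F al 0 340480 162386 :=
  block_comb c1328 b1329 (Nat.zero_le _) (Nat.le_of_ble_eq_true rfl) rfl

theorem c1330 : Block F al 0 340736 162468 :=
  block_comb c1329 b1330 (Nat.zero_le _) (Nat.le_of_ble_eq_true rfl) rfl

theorem c1331 : Block F al 0 340992 162556 :=
  block_comb c1330 b1331 (Nat.zero_le _) (Nat.le_of_ble_eq_true rfl) rfl

theorem c1332 : Block F al 0 341248 162620 :=
  block_comb c1331 b1332 (Nat.zero_le _) (Nat.le_of_ble_eq_true rfl) rfl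

theorem c1333 : Block F al 0 341504 162640 :=
  block_comb c1332 b1333 (Nat.zero_le _) (Nat.le_of_ble_eq_true rfl) rfl

theorem c1334 : Block F al 0 341760 162696 :=
  block_comb c1333 b1334 (Nat.zero_le _) (Nat.le_of_ble_eq_true rfl) rfl

theorem c1335 : Block F al 0 342016 162760 :=
  block_comb c1334 b1335 (Nat.zero_le _) (Nat.le_of_ble_eq_true rfl) rfl

theorem c1336 : Block F al 0 342272 162762 :=
  block_comb c1335 b1336 (Nat.zero_le _) (Nat.le_of_ble_eq_true rfl) rfl

theorem c1337 : Block F al 0 342528 162798 :=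
  block_comb c1336 b1337 (Nat.zero_le _) (Nat.le_of_ble_eq_true rfl) rfl

theorem c1338 : Block F al 0 342784 162834 :=
  block_comb c1337 b1338 (Nat.zero_le _) (Nat.le_of_ble_eq_true rfl) rfl

theorem c1339 : Block F al 0 343040 162882 :=
  block_comb c1338 b1339 (Nat.zero_le _) (Nat.le_of_ble_eq_true rfl) rfl

theorem c1340 : Block F al 0 343296 162968 :=
  block_comb c1339 b1340 (Nat.zero_le _) (Nat.le_of_ble_eq_true rfl) rfl

theorem c1341 : Block F al 0 343552 162978 :=
  block_comb c1340 b1341 (Nat.zero_le _) (Nat.le_of_ble_eq_true rfl) rfl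

theorem c1342 : Block F al 0 343808 162988 :=
  block_comb c1341 b1342 (Nat.zero_le _) (Nat.le_of_ble_eq_true rfl) rfl

theorem c1343 : Block F al 0 344064 163082 :=
  block_comb c1342 b1343 (Nat.zero_le _) (Nat.le_of_ble_eq_true rfl) rfl

theorem c1344 : Block F al 0 344320 163152 :=
  block_comb c1343 b1344 (Nat.zero_le _) (Nat.le_of_ble_eq_true rfl) rfl

theorem c1345 : Block F al 0 344576 163217 :=
  block_comb c1344 b1345 (Nat.zero_le _) (Nat.le_of_ble_eq_true rfl) rfl

theorem c1346 : Block F al 0 344832 163290 :=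
  block_comb c1345 b1346 (Nat.zero_le _) (Nat.le_of_ble_eq_true rfl) rfl

theorem c1347 : Block F al 0 345088 163324 :=
  block_comb c1346 b1347 (Nat.zero_le _) (Nat.le_of_ble_eq_true rfl) rfl

theorem c1348 : Block F al 0 345344 163350 :=
  block_comb c1347 b1348 (Nat.zero_le _) (Nat.le_of_ble_eq_true rfl) rfl

theorem c1349 : Block F al 0 345600 163394 :=
  block_comb c1348 b1349 (Nat.zero_le _) (Nat.le_of_ble_eq_true rfl) rfl

theorem c1350 : Block F al 0 345856 163481 :=
  block_comb c1349 b1350 (Nat.zero_le _) (Nat.le_of_ble_eq_true rfl) rfl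

theorem c1351 : Block F al 0 346112 163532 :=
  block_comb c1350 b1351 (Nat.zero_le _) (Nat.le_of_ble_eq_true rfl) rfl

theorem c1352 : Block F al 0 346368 163583 :=
  block_comb c1351 b1352 (Nat.zero_le _) (Nat.le_of_ble_eq_true rfl) rfl

theorem c1353 : Block F al 0 346624 163659 :=
  block_comb c1352 b1353 (Nat.zero_le _) (Nat.le_of_ble_eq_true rfl) rfl

theorem c1354 : Block F al 0 346880 163782 :=
  block_comb c1353 b1354 (Nat.zero_le _) (Nat.le_of_ble_eq_true rfl) rfl

theorem c1355 : Block F al 0 347136 163885 :=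
  block_comb c1354 b1355 (Nat.zero_le _) (Nat.le_of_ble_eq_true rfl) rfl

theorem c1356 : Block F al 0 347392 163956 :=
  block_comb c1355 b1356 (Nat.zero_le _) (Nat.le_of_ble_eq_true rfl) rfl

theorem c1357 : Block F al 0 347648 164016 :=
  block_comb c1356 b1357 (Nat.zero_le _) (Nat.le_of_ble_eq_true rfl) rfl

theorem c1358 : Block F al 0 347904 164096 :=
  block_comb c1357 b1358 (Nat.zero_le _) (Nat.le_of_ble_eq_true rfl) rfl

theorem c1359 : Block F al 0 348160 164169 :=
  block_comb c1358 b1359 (Nat.zero_le _) (Nat.le_of_ble_eq_true rfl) rfl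

theorem c1360 : Block F al 0 348416 164218 :=
  block_comb c1359 b1360 (Nat.zero_le _) (Nat.le_of_ble_eq_true rfl) rfl

theorem c1361 : Block F al 0 348672 164254 :=
  block_comb c1360 b1361 (Nat.zero_le _) (Nat.le_of_ble_eq_true rfl) rfl

theorem c1362 : Block F al 0 348928 164288 :=
  block_comb c1361 b1362 (Nat.zero_le _) (Nat.le_of_ble_eq_true rfl) rfl

theorem c1363 : Block F al 0 349184 164338 :=
  block_comb c1362 b1363 (Nat.zero_le _) (Nat.le_of_ble_eq_true rfl) rfl

theorem c1364 : Block F al 0 349440 164428 :=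
  block_comb c1363 b1364 (Nat.zero_le _) (Nat.le_of_ble_eq_true rfl) rfl

theorem c1365 : Block F al 0 349696 164506 :=
  block_comb c1364 b1365 (Nat.zero_le _) (Nat.le_of_ble_eq_true rfl) rfl

theorem c1366 : Block F al 0 349952 164582 :=
  block_comb c1365 b1366 (Nat.zero_le _) (Nat.le_of_ble_eq_true rfl) rfl

theorem c1367 : Block F al 0 350208 164650 :=
  block_comb c1366 b1367 (Nat.zero_le _) (Nat.le_of_ble_eq_true rfl) rfl

theorem c1368 : Block F al 0 350464 164704 :=
  block_comb c1367 b1368 (Nat.zero_le _) (Nat.le_of_ble_eq_true rfl) rfl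

theorem c1369 : Block F al 0 350720 164833 :=
  block_comb c1368 b1369 (Nat.zero_le _) (Nat.le_of_ble_eq_true rfl) rfl

theorem c1370 : Block F al 0 350976 164906 :=
  block_comb c1369 b1370 (Nat.zero_le _) (Nat.le_of_ble_eq_true rfl) rfl

theorem c1371 : Block F al 0 351232 164992 :=
  block_comb c1370 b1371 (Nat.zero_le _) (Nat.le_of_ble_eq_true rfl) rfl

theorem c1372 : Block F al 0 351488 165062 :=
  block_comb c1371 b1372 (Nat.zero_le _) (Nat.le_of_ble_eq_true rfl) rfl

theorem c1373 : Block F al 0 351744 165111 :=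
  block_comb c1372 b1373 (Nat.zero_le _) (Nat.le_of_ble_eq_true rfl) rfl

theorem c1374 : Block F al 0 352000 165216 :=
  block_comb c1373 b1374 (Nat.zero_le _) (Nat.le_of_ble_eq_true rfl) rfl

theorem c1375 : Block F al 0 352256 165324 :=
  block_comb c1374 b1375 (Nat.zero_le _) (Nat.le_of_ble_eq_true rfl) rfl

theorem c1376 : Block F al 0 352512 165446 :=
  block_comb c1375 b1376 (Nat.zero_le _) (Nat.le_of_ble_eq_true rfl) rfl

theorem c1377 : Block F al 0 352768 165484 :=
  block_comb c1376 b1377 (Nat.zero_le _) (Nat.le_of_ble_eq_true rfl) rfl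

theorem c1378 : Block F al 0 353024 165545 :=
  block_comb c1377 b1378 (Nat.zero_le _) (Nat.le_of_ble_eq_true rfl) rfl

theorem c1379 : Block F al 0 353280 165668 :=
  block_comb c1378 b1379 (Nat.zero_le _) (Nat.le_of_ble_eq_true rfl) rfl

theorem c1380 : Block F al 0 353536 165690 :=
  block_comb c1379 b1380 (Nat.zero_le _) (Nat.le_of_ble_eq_true rfl) rfl

theorem c1381 : Block F al 0 353792 165737 :=
  block_comb c1380 b1381 (Nat.zero_le _) (Nat.le_of_ble_eq_true rfl) rfl

theorem c1382 : Block F al 0 354048 165788 :=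
  block_comb c1381 b1382 (Nat.zero_le _) (Nat.le_of_ble_eq_true rfl) rfl

theorem c1383 : Block F al 0 354304 165873 :=
  block_comb c1382 b1383 (Nat.zero_le _) (Nat.le_of_ble_eq_true rfl) rfl

theorem c1384 : Block F al 0 354560 165988 :=
  block_comb c1383 b1384 (Nat.zero_le _) (Nat.le_of_ble_eq_true rfl) rfl

theorem c1385 : Block F al 0 354816 166058 :=
  block_comb c1384 b1385 (Nat.zero_le _) (Nat.le_of_ble_eq_true rfl) rfl

theorem c1386 : Block F al 0 355072 166164 :=
  block_comb c1385 b1386 (Nat.zero_le _) (Nat.le_of_ble_eq_true rfl) rfl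

theorem c1387 : Block F al 0 355328 166212 :=
  block_comb c1386 b1387 (Nat.zero_le _) (Nat.le_of_ble_eq_true rfl) rfl

theorem c1388 : Block F al 0 355584 166250 :=
  block_comb c1387 b1388 (Nat.zero_le _) (Nat.le_of_ble_eq_true rfl) rfl

theorem c1389 : Block F al 0 355840 166278 :=
  block_comb c1388 b1389 (Nat.zero_le _) (Nat.le_of_ble_eq_true rfl) rfl

theorem c1390 : Block F al 0 356096 166318 :=
  block_comb c1389 b1390 (Nat.zero_le _) (Nat.le_of_ble_eq_true rfl) rfl

theorem c1391 : Block F al 0 356352 166408 :=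
  block_comb c1390 b1391 (Nat.zero_le _) (Nat.le_of_ble_eq_true rfl) rfl

theorem c1392 : Block F al 0 356608 166476 :=
  block_comb c1391 b1392 (Nat.zero_le _) (Nat.le_of_ble_eq_true rfl) rfl

theorem c1393 : Block F al 0 356864 166542 :=
  block_comb c1392 b1393 (Nat.zero_le _) (Nat.le_of_ble_eq_true rfl) rfl

theorem c1394 : Block F al 0 357120 166586 :=
  block_comb c1393 b1394 (Nat.zero_le _) (Nat.le_of_ble_eq_true rfl) rfl

theorem c1395 : Block F al 0 357376 166599 :=
  block_comb c1394 b1395 (Nat.zero_le _) (Nat.le_of_ble_eq_true rfl) rfl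

theorem c1396 : Block F al 0 357632 166676 :=
  block_comb c1395 b1396 (Nat.zero_le _) (Nat.le_of_ble_eq_true rfl) rfl

theorem c1397 : Block F al 0 357888 166752 :=
  block_comb c1396 b1397 (Nat.zero_le _) (Nat.le_of_ble_eq_true rfl) rfl

theorem c1398 : Block F al 0 358144 166850 :=
  block_comb c1397 b1398 (Nat.zero_le _) (Nat.le_of_ble_eq_true rfl) rfl

theorem c1399 : Block F al 0 358400 166934 :=
  block_comb c1398 b1399 (Nat.zero_le _) (Nat.le_of_ble_eq_true rfl) rfl

theorem c1400 : Block F al 0 358656 166978 :=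
  block_comb c1399 b1400 (Nat.zero_le _) (Nat.le_of_ble_eq_true rfl) rfl

theorem c1401 : Block F al 0 358912 167034 :=
  block_comb c1400 b1401 (Nat.zero_le _) (Nat.le_of_ble_eq_true rfl) rfl

theorem c1402 : Block F al 0 359168 167109 :=
  block_comb c1401 b1402 (Nat.zero_le _) (Nat.le_of_ble_eq_true rfl) rfl

theorem c1403 : Block F al 0 359424 167188 :=
  block_comb c1402 b1403 (Nat.zero_le _) (Nat.le_of_ble_eq_true rfl) rfl

theorem c1404 : Block F al 0 359680 167266 :=
  block_comb c1403 b1404 (Nat.zero_le _) (Nat.le_of_ble_eq_true rfl) rfl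

theorem c1405 : Block F al 0 359936 167306 :=
  block_comb c1404 b1405 (Nat.zero_le _) (Nat.le_of_ble_eq_true rfl) rfl

theorem c1406 : Block F al 0 360192 167368 :=
  block_comb c1405 b1406 (Nat.zero_le _) (Nat.le_of_ble_eq_true rfl) rfl

theorem c1407 : Block F al 0 360448 167432 :=
  block_comb c1406 b1407 (Nat.zero_le _) (Nat.le_of_ble_eq_true rfl) rfl

theorem c1408 : Block F al 0 360704 167452 :=
  block_comb c1407 b1408 (Nat.zero_le _) (Nat.le_of_ble_eq_true rfl) rfl

theorem c1409 : Block F al 0 360960 167452 :=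
  block_comb c1408 b1409 (Nat.zero_le _) (Nat.le_of_ble_eq_true rfl) rfl

theorem c1410 : Block F al 0 361216 167530 :=
  block_comb c1409 b1410 (Nat.zero_le _) (Nat.le_of_ble_eq_true rfl) rfl

theorem c1411 : Block F al 0 361472 167598 :=
  block_comb c1410 b1411 (Nat.zero_le _) (Nat.le_of_ble_eq_true rfl) rfl

theorem c1412 : Block F al 0 361728 167648 :=
  block_comb c1411 b1412 (Nat.zero_le _) (Nat.le_of_ble_eq_true rfl) rfl

theorem c1413 : Block F al 0 361984 167720 :=
  block_comb c1412 b1413 (Nat.zero_le _) (Nat.le_of_ble_eq_true rfl) rfl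

theorem c1414 : Block F al 0 362240 167824 :=
  block_comb c1413 b1414 (Nat.zero_le _) (Nat.le_of_ble_eq_true rfl) rfl

theorem c1415 : Block F al 0 362496 167892 :=
  block_comb c1414 b1415 (Nat.zero_le _) (Nat.le_of_ble_eq_true rfl) rfl

theorem c1416 : Block F al 0 362752 168008 :=
  block_comb c1415 b1416 (Nat.zero_le _) (Nat.le_of_ble_eq_true rfl) rfl

theorem c1417 : Block F al 0 363008 168092 :=
  block_comb c1416 b1417 (Nat.zero_le _) (Nat.le_of_ble_eq_true rfl) rfl

theorem c1418 : Block F al 0 363264 168184 :=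
  block_comb c1417 b1418 (Nat.zero_le _) (Nat.le_of_ble_eq_true rfl) rfl

theorem c1419 : Block F al 0 363520 168282 :=
  block_comb c1418 b1419 (Nat.zero_le _) (Nat.le_of_ble_eq_true rfl) rfl

theorem c1420 : Block F al 0 363776 168374 :=
  block_comb c1419 b1420 (Nat.zero_le _) (Nat.le_of_ble_eq_true rfl) rfl

theorem c1421 : Block F al 0 364032 168424 :=
  block_comb c1420 b1421 (Nat.zero_le _) (Nat.le_of_ble_eq_true rfl) rfl

theorem c1422 : Block F al 0 364288 168466 :=
  block_comb c1421 b1422 (Nat.zero_le _) (Nat.le_of_ble_eq_true rfl) rfl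

theorem c1423 : Block F al 0 364544 168540 :=
  block_comb c1422 b1423 (Nat.zero_le _) (Nat.le_of_ble_eq_true rfl) rfl

theorem c1424 : Block F al 0 364800 168568 :=
  block_comb c1423 b1424 (Nat.zero_le _) (Nat.le_of_ble_eq_true rfl) rfl

theorem c1425 : Block F al 0 365056 168634 :=
  block_comb c1424 b1425 (Nat.zero_le _) (Nat.le_of_ble_eq_true rfl) rfl

theorem c1426 : Block F al 0 365312 168686 :=
  block_comb c1425 b1426 (Nat.zero_le _) (Nat.le_of_ble_eq_true rfl) rfl

theorem c1427 : Block F al 0 365568 168793 :=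
  block_comb c1426 b1427 (Nat.zero_le _) (Nat.le_of_ble_eq_true rfl) rfl

theorem c1428 : Block F al 0 365824 168848 :=
  block_comb c1427 b1428 (Nat.zero_le _) (Nat.le_of_ble_eq_true rfl) rfl

theorem c1429 : Block F al 0 366080 168896 :=
  block_comb c1428 b1429 (Nat.zero_le _) (Nat.le_of_ble_eq_true rfl) rfl

theorem c1430 : Block F al 0 366336 168968 :=
  block_comb c1429 b1430 (Nat.zero_le _) (Nat.le_of_ble_eq_true rfl) rfl

theorem c1431 : Block F al 0 366592 169030 :=
  block_comb c1430 b1431 (Nat.zero_le _) (Nat.le_of_ble_eq_true rfl) rfl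

theorem c1432 : Block F al 0 366848 169066 :=
  block_comb c1431 b1432 (Nat.zero_le _) (Nat.le_of_ble_eq_true rfl) rfl

theorem c1433 : Block F al 0 367104 169131 :=
  block_comb c1432 b1433 (Nat.zero_le _) (Nat.le_of_ble_eq_true rfl) rfl

theorem c1434 : Block F al 0 367360 169178 :=
  block_comb c1433 b1434 (Nat.zero_le _) (Nat.le_of_ble_eq_true rfl) rfl

theorem c1435 : Block F al 0 367616 169258 :=
  block_comb c1434 b1435 (Nat.zero_le _) (Nat.le_of_ble_eq_true rfl) rfl

theorem c1436 : Block F al 0 367872 169326 :=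
  block_comb c1435 b1436 (Nat.zero_le _) (Nat.le_of_ble_eq_true rfl) rfl

theorem c1437 : Block F al 0 368128 169370 :=
  block_comb c1436 b1437 (Nat.zero_le _) (Nat.le_of_ble_eq_true rfl) rfl

theorem c1438 : Block F al 0 368384 169420 :=
  block_comb c1437 b1438 (Nat.zero_le _) (Nat.le_of_ble_eq_true rfl) rfl

theorem c1439 : Block F al 0 368640 169512 :=
  block_comb c1438 b1439 (Nat.zero_le _) (Nat.le_of_ble_eq_true rfl) rfl

theorem c1440 : Block F al 0 368896 169627 :=
  block_comb c1439 b1440 (Nat.zero_le _) (Nat.le_of_ble_eq_true rfl) rfl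

theorem c1441 : Block F al 0 369152 169706 :=
  block_comb c1440 b1441 (Nat.zero_le _) (Nat.le_of_ble_eq_true rfl) rfl

theorem c1442 : Block F al 0 369408 169800 :=
  block_comb c1441 b1442 (Nat.zero_le _) (Nat.le_of_ble_eq_true rfl) rfl

theorem c1443 : Block F al 0 369664 169905 :=
  block_comb c1442 b1443 (Nat.zero_le _) (Nat.le_of_ble_eq_true rfl) rfl

theorem c1444 : Block F al 0 369920 170008 :=
  block_comb c1443 b1444 (Nat.zero_le _) (Nat.le_of_ble_eq_true rfl) rfl

theorem c1445 : Block F al 0 370176 170116 :=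
  block_comb c1444 b1445 (Nat.zero_le _) (Nat.le_of_ble_eq_true rfl) rfl

theorem c1446 : Block F al 0 370432 170216 :=
  block_comb c1445 b1446 (Nat.zero_le _) (Nat.le_of_ble_eq_true rfl) rfl

theorem c1447 : Block F al 0 370688 170320 :=
  block_comb c1446 b1447 (Nat.zero_le _) (Nat.le_of_ble_eq_true rfl) rfl

theorem c1448 : Block F al 0 370944 170408 :=
  block_comb c1447 b1448 (Nat.zero_le _) (Nat.le_of_ble_eq_true rfl) rfl

theorem c1449 : Block F al 0 371200 170482 :=
  block_comb c1448 b1449 (Nat.zero_le _) (Nat.le_of_ble_eq_true rfl) rfl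

theorem c1450 : Block F al 0 371456 170516 :=
  block_comb c1449 b1450 (Nat.zero_le _) (Nat.le_of_ble_eq_true rfl) rfl

theorem c1451 : Block F al 0 371712 170588 :=
  block_comb c1450 b1451 (Nat.zero_le _) (Nat.le_of_ble_eq_true rfl) rfl

theorem c1452 : Block F al 0 371968 170636 :=
  block_comb c1451 b1452 (Nat.zero_le _) (Nat.le_of_ble_eq_true rfl) rfl

theorem c1453 : Block F al 0 372224 170727 :=
  block_comb c1452 b1453 (Nat.zero_le _) (Nat.le_of_ble_eq_true rfl) rfl

theorem c1454 : Block F al 0 372480 170784 :=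
  block_comb c1453 b1454 (Nat.zero_le _) (Nat.le_of_ble_eq_true rfl) rfl

theorem c1455 : Block F al 0 372736 170837 :=
  block_comb c1454 b1455 (Nat.zero_le _) (Nat.le_of_ble_eq_true rfl) rfl

theorem c1456 : Block F al 0 372992 170893 :=
  block_comb c1455 b1456 (Nat.zero_le _) (Nat.le_of_ble_eq_true rfl) rfl

theorem c1457 : Block F al 0 373248 170970 :=
  block_comb c1456 b1457 (Nat.zero_le _) (Nat.le_of_ble_eq_true rfl) rfl

theorem c1458 : Block F al 0 373504 171020 :=
  block_comb c1457 b1458 (Nat.zero_le _) (Nat.le_of_ble_eq_true rfl) rfl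

theorem c1459 : Block F al 0 373760 171090 :=
  block_comb c1458 b1459 (Nat.zero_le _) (Nat.le_of_ble_eq_true rfl) rfl

theorem c1460 : Block F al 0 374016 171122 :=
  block_comb c1459 b1460 (Nat.zero_le _) (Nat.le_of_ble_eq_true rfl) rfl

theorem c1461 : Block F al 0 374272 171170 :=
  block_comb c1460 b1461 (Nat.zero_le _) (Nat.le_of_ble_eq_true rfl) rfl

theorem c1462 : Block F al 0 374528 171204 :=
  block_comb c1461 b1462 (Nat.zero_le _) (Nat.le_of_ble_eq_true rfl) rfl

theorem c1463 : Block F al 0 374784 171236 :=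
  block_comb c1462 b1463 (Nat.zero_le _) (Nat.le_of_ble_eq_true rfl) rfl

theorem c1464 : Block F al 0 375040 171278 :=
  block_comb c1463 b1464 (Nat.zero_le _) (Nat.le_of_ble_eq_true rfl) rfl

theorem c1465 : Block F al 0 375296 171300 :=
  block_comb c1464 b1465 (Nat.zero_le _) (Nat.le_of_ble_eq_true rfl) rfl

theorem c1466 : Block F al 0 375552 171372 :=
  block_comb c1465 b1466 (Nat.zero_le _) (Nat.le_of_ble_eq_true rfl) rfl

theorem c1467 : Block F al 0 375808 171413 :=
  block_comb c1466 b1467 (Nat.zero_le _) (Nat.le_of_ble_eq_true rfl) rfl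

theorem c1468 : Block F al 0 376064 171474 :=
  block_comb c1467 b1468 (Nat.zero_le _) (Nat.le_of_ble_eq_true rfl) rfl

theorem c1469 : Block F al 0 376320 171562 :=
  block_comb c1468 b1469 (Nat.zero_le _) (Nat.le_of_ble_eq_true rfl) rfl

theorem c1470 : Block F al 0 376576 171623 :=
  block_comb c1469 b1470 (Nat.zero_le _) (Nat.le_of_ble_eq_true rfl) rfl

theorem c1471 : Block F al 0 376832 171731 :=
  block_comb c1470 b1471 (Nat.zero_le _) (Nat.le_of_ble_eq_true rfl) rfl

theorem c1472 : Block F al 0 377088 171843 :=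
  block_comb c1471 b1472 (Nat.zero_le _) (Nat.le_of_ble_eq_true rfl) rfl

theorem c1473 : Block F al 0 377344 171957 :=
  block_comb c1472 b1473 (Nat.zero_le _) (Nat.le_of_ble_eq_true rfl) rfl

theorem c1474 : Block F al 0 377600 172050 :=
  block_comb c1473 b1474 (Nat.zero_le _) (Nat.le_of_ble_eq_true rfl) rfl

theorem c1475 : Block F al 0 377856 172131 :=
  block_comb c1474 b1475 (Nat.zero_le _) (Nat.le_of_ble_eq_true rfl) rfl

theorem c1476 : Block F al 0 378112 172234 :=
  block_comb c1475 b1476 (Nat.zero_le _) (Nat.le_of_ble_eq_true rfl) rfl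

theorem c1477 : Block F al 0 378368 172324 :=
  block_comb c1476 b1477 (Nat.zero_le _) (Nat.le_of_ble_eq_true rfl) rfl

theorem c1478 : Block F al 0 378624 172412 :=
  block_comb c1477 b1478 (Nat.zero_le _) (Nat.le_of_ble_eq_true rfl) rfl

theorem c1479 : Block F al 0 378880 172448 :=
  block_comb c1478 b1479 (Nat.zero_le _) (Nat.le_of_ble_eq_true rfl) rfl

theorem c1480 : Block F al 0 379136 172502 :=
  block_comb c1479 b1480 (Nat.zero_le _) (Nat.le_of_ble_eq_true rfl) rfl

theorem c1481 : Block F al 0 379392 172542 :=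
  block_comb c1480 b1481 (Nat.zero_le _) (Nat.le_of_ble_eq_true rfl) rfl

theorem c1482 : Block F al 0 379648 172600 :=
  block_comb c1481 b1482 (Nat.zero_le _) (Nat.le_of_ble_eq_true rfl) rfl

theorem c1483 : Block F al 0 379904 172693 :=
  block_comb c1482 b1483 (Nat.zero_le _) (Nat.le_of_ble_eq_true rfl) rfl

theorem c1484 : Block F al 0 380160 172782 :=
  block_comb c1483 b1484 (Nat.zero_le _) (Nat.le_of_ble_eq_true rfl) rfl

theorem c1485 : Block F al 0 380416 172876 :=
  block_comb c1484 b1485 (Nat.zero_le _) (Nat.le_of_ble_eq_true rfl) rfl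

theorem c1486 : Block F al 0 380672 172934 :=
  block_comb c1485 b1486 (Nat.zero_le _) (Nat.le_of_ble_eq_true rfl) rfl

theorem c1487 : Block F al 0 380928 172980 :=
  block_comb c1486 b1487 (Nat.zero_le _) (Nat.le_of_ble_eq_true rfl) rfl

theorem c1488 : Block F al 0 381184 173068 :=
  block_comb c1487 b1488 (Nat.zero_le _) (Nat.le_of_ble_eq_true rfl) rfl

theorem c1489 : Block F al 0 381440 173156 :=
  block_comb c1488 b1489 (Nat.zero_le _) (Nat.le_of_ble_eq_true rfl) rfl

theorem c1490 : Block F al 0 381696 173230 :=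
  block_comb c1489 b1490 (Nat.zero_le _) (Nat.le_of_ble_eq_true rfl) rfl

theorem c1491 : Block F al 0 381952 173310 :=
  block_comb c1490 b1491 (Nat.zero_le _) (Nat.le_of_ble_eq_true rfl) rfl

theorem c1492 : Block F al 0 382208 173372 :=
  block_comb c1491 b1492 (Nat.zero_le _) (Nat.le_of_ble_eq_true rfl) rfl

theorem c1493 : Block F al 0 382464 173410 :=
  block_comb c1492 b1493 (Nat.zero_le _) (Nat.le_of_ble_eq_true rfl) rfl

theorem c1494 : Block F al 0 382720 173454 :=
  block_comb c1493 b1494 (Nat.zero_le _) (Nat.le_of_ble_eq_true rfl) rfl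

theorem c1495 : Block F al 0 382976 173526 :=
  block_comb c1494 b1495 (Nat.zero_le _) (Nat.le_of_ble_eq_true rfl) rfl

theorem c1496 : Block F al 0 383232 173596 :=
  block_comb c1495 b1496 (Nat.zero_le _) (Nat.le_of_ble_eq_true rfl) rfl

theorem c1497 : Block F al 0 383488 173688 :=
  block_comb c1496 b1497 (Nat.zero_le _) (Nat.le_of_ble_eq_true rfl) rfl

theorem c1498 : Block F al 0 383744 173753 :=
  block_comb c1497 b1498 (Nat.zero_le _) (Nat.le_of_ble_eq_true rfl) rfl

theorem c1499 : Block F al 0 384000 173845 :=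
  block_comb c1498 b1499 (Nat.zero_le _) (Nat.le_of_ble_eq_true rfl) rfl

theorem c1500 : Block F al 0 384256 173903 :=
  block_comb c1499 b1500 (Nat.zero_le _) (Nat.le_of_ble_eq_true rfl) rfl

theorem c1501 : Block F al 0 384512 173976 :=
  block_comb c1500 b1501 (Nat.zero_le _) (Nat.le_of_ble_eq_true rfl) rfl

theorem c1502 : Block F al 0 384768 174074 :=
  block_comb c1501 b1502 (Nat.zero_le _) (Nat.le_of_ble_eq_true rfl) rfl

theorem c1503 : Block F al 0 385024 174122 :=
  block_comb c1502 b1503 (Nat.zero_le _) (Nat.le_of_ble_eq_true rfl) rfl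

theorem c1504 : Block F al 0 385280 174173 :=
  block_comb c1503 b1504 (Nat.zero_le _) (Nat.le_of_ble_eq_true rfl) rfl

theorem c1505 : Block F al 0 385536 174208 :=
  block_comb c1504 b1505 (Nat.zero_le _) (Nat.le_of_ble_eq_true rfl) rfl

theorem c1506 : Block F al 0 385792 174262 :=
  block_comb c1505 b1506 (Nat.zero_le _) (Nat.le_of_ble_eq_true rfl) rfl

theorem c1507 : Block F al 0 386048 174304 :=
  block_comb c1506 b1507 (Nat.zero_le _) (Nat.le_of_ble_eq_true rfl) rfl

theorem c1508 : Block F al 0 386304 174357 :=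
  block_comb c1507 b1508 (Nat.zero_le _) (Nat.le_of_ble_eq_true rfl) rfl

theorem c1509 : Block F al 0 386560 174438 :=
  block_comb c1508 b1509 (Nat.zero_le _) (Nat.le_of_ble_eq_true rfl) rfl

theorem c1510 : Block F al 0 386816 174466 :=
  block_comb c1509 b1510 (Nat.zero_le _) (Nat.le_of_ble_eq_true rfl) rfl

theorem c1511 : Block F al 0 387072 174500 :=
  block_comb c1510 b1511 (Nat.zero_le _) (Nat.le_of_ble_eq_true rfl) rfl

theorem c1512 : Block F al 0 387328 174598 :=
  block_comb c1511 b1512 (Nat.zero_le _) (Nat.le_of_ble_eq_true rfl) rfl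

theorem c1513 : Block F al 0 387584 174674 :=
  block_comb c1512 b1513 (Nat.zero_le _) (Nat.le_of_ble_eq_true rfl) rfl

theorem c1514 : Block F al 0 387840 174791 :=
  block_comb c1513 b1514 (Nat.zero_le _) (Nat.le_of_ble_eq_true rfl) rfl

theorem c1515 : Block F al 0 388096 174882 :=
  block_comb c1514 b1515 (Nat.zero_le _) (Nat.le_of_ble_eq_true rfl) rfl

theorem c1516 : Block F al 0 388352 174972 :=
  block_comb c1515 b1516 (Nat.zero_le _) (Nat.le_of_ble_eq_true rfl) rfl

theorem c1517 : Block F al 0 388608 175030 :=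
  block_comb c1516 b1517 (Nat.zero_le _) (Nat.le_of_ble_eq_true rfl) rfl

theorem c1518 : Block F al 0 388864 175112 :=
  block_comb c1517 b1518 (Nat.zero_le _) (Nat.le_of_ble_eq_true rfl) rfl

theorem c1519 : Block F al 0 389120 175202 :=
  block_comb c1518 b1519 (Nat.zero_le _) (Nat.le_of_ble_eq_true rfl) rfl

theorem c1520 : Block F al 0 389376 175264 :=
  block_comb c1519 b1520 (Nat.zero_le _) (Nat.le_of_ble_eq_true rfl) rfl

theorem c1521 : Block F al 0 389632 175364 :=
  block_comb c1520 b1521 (Nat.zero_le _) (Nat.le_of_ble_eq_true rfl) rfl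

theorem c1522 : Block F al 0 389888 175444 :=
  block_comb c1521 b1522 (Nat.zero_le _) (Nat.le_of_ble_eq_true rfl) rfl

theorem c1523 : Block F al 0 390144 175502 :=
  block_comb c1522 b1523 (Nat.zero_le _) (Nat.le_of_ble_eq_true rfl) rfl

theorem c1524 : Block F al 0 390400 175516 :=
  block_comb c1523 b1524 (Nat.zero_le _) (Nat.le_of_ble_eq_true rfl) rfl

theorem c1525 : Block F al 0 390656 175544 :=
  block_comb c1524 b1525 (Nat.zero_le _) (Nat.le_of_ble_eq_true rfl) rfl

theorem c1526 : Block F al 0 390912 175600 :=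
  block_comb c1525 b1526 (Nat.zero_le _) (Nat.le_of_ble_eq_true rfl) rfl

theorem c1527 : Block F al 0 391168 175668 :=
  block_comb c1526 b1527 (Nat.zero_le _) (Nat.le_of_ble_eq_true rfl) rfl

theorem c1528 : Block F al 0 391424 175713 :=
  block_comb c1527 b1528 (Nat.zero_le _) (Nat.le_of_ble_eq_true rfl) rfl

theorem c1529 : Block F al 0 391680 175780 :=
  block_comb c1528 b1529 (Nat.zero_le _) (Nat.le_of_ble_eq_true rfl) rfl

theorem c1530 : Block F al 0 391936 175845 :=
  block_comb c1529 b1530 (Nat.zero_le _) (Nat.le_of_ble_eq_true rfl) rfl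

theorem c1531 : Block F al 0 392192 175947 :=
  block_comb c1530 b1531 (Nat.zero_le _) (Nat.le_of_ble_eq_true rfl) rfl

theorem c1532 : Block F al 0 392448 176022 :=
  block_comb c1531 b1532 (Nat.zero_le _) (Nat.le_of_ble_eq_true rfl) rfl

theorem c1533 : Block F al 0 392704 176134 :=
  block_comb c1532 b1533 (Nat.zero_le _) (Nat.le_of_ble_eq_true rfl) rfl

theorem c1534 : Block F al 0 392960 176210 :=
  block_comb c1533 b1534 (Nat.zero_le _) (Nat.le_of_ble_eq_true rfl) rfl

theorem c1535 : Block F al 0 393216 176260 :=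
  block_comb c1534 b1535 (Nat.zero_le _) (Nat.le_of_ble_eq_true rfl) rfl

theorem c1536 : Block F al 0 393472 176313 :=
  block_comb c1535 b1536 (Nat.zero_le _) (Nat.le_of_ble_eq_true rfl) rfl

theorem c1537 : Block F al 0 393728 176410 :=
  block_comb c1536 b1537 (Nat.zero_le _) (Nat.le_of_ble_eq_true rfl) rfl

theorem c1538 : Block F al 0 393984 176486 :=
  block_comb c1537 b1538 (Nat.zero_le _) (Nat.le_of_ble_eq_true rfl) rfl

theorem c1539 : Block F al 0 394240 176544 :=
  block_comb c1538 b1539 (Nat.zero_le _) (Nat.le_of_ble_eq_true rfl) rfl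

theorem c1540 : Block F al 0 394496 176593 :=
  block_comb c1539 b1540 (Nat.zero_le _) (Nat.le_of_ble_eq_true rfl) rfl

theorem c1541 : Block F al 0 394752 176652 :=
  block_comb c1540 b1541 (Nat.zero_le _) (Nat.le_of_ble_eq_true rfl) rfl

theorem c1542 : Block F al 0 395008 176770 :=
  block_comb c1541 b1542 (Nat.zero_le _) (Nat.le_of_ble_eq_true rfl) rfl

theorem c1543 : Block F al 0 395264 176812 :=
  block_comb c1542 b1543 (Nat.zero_le _) (Nat.le_of_ble_eq_true rfl) rfl

theorem c1544 : Block F al 0 395520 176876 :=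
  block_comb c1543 b1544 (Nat.zero_le _) (Nat.le_of_ble_eq_true rfl) rfl

theorem c1545 : Block F al 0 395776 176958 :=
  block_comb c1544 b1545 (Nat.zero_le _) (Nat.le_of_ble_eq_true rfl) rfl

theorem c1546 : Block F al 0 396032 177004 :=
  block_comb c1545 b1546 (Nat.zero_le _) (Nat.le_of_ble_eq_true rfl) rfl

theorem c1547 : Block F al 0 396288 177040 :=
  block_comb c1546 b1547 (Nat.zero_le _) (Nat.le_of_ble_eq_true rfl) rfl

theorem c1548 : Block F al 0 396544 177098 :=
  block_comb c1547 b1548 (Nat.zero_le _) (Nat.le_of_ble_eq_true rfl) rfl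

theorem c1549 : Block F al 0 396800 177124 :=
  block_comb c1548 b1549 (Nat.zero_le _) (Nat.le_of_ble_eq_true rfl) rfl

theorem c1550 : Block F al 0 397056 177221 :=
  block_comb c1549 b1550 (Nat.zero_le _) (Nat.le_of_ble_eq_true rfl) rfl

theorem c1551 : Block F al 0 397312 177292 :=
  block_comb c1550 b1551 (Nat.zero_le _) (Nat.le_of_ble_eq_true rfl) rfl

theorem c1552 : Block F al 0 397568 177332 :=
  block_comb c1551 b1552 (Nat.zero_le _) (Nat.le_of_ble_eq_true rfl) rfl

theorem c1553 : Block F al 0 397824 177383 :=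
  block_comb c1552 b1553 (Nat.zero_le _) (Nat.le_of_ble_eq_true rfl) rfl

theorem c1554 : Block F al 0 398080 177468 :=
  block_comb c1553 b1554 (Nat.zero_le _) (Nat.le_of_ble_eq_true rfl) rfl

theorem c1555 : Block F al 0 398336 177564 :=
  block_comb c1554 b1555 (Nat.zero_le _) (Nat.le_of_ble_eq_true rfl) rfl

theorem c1556 : Block F al 0 398592 177627 :=
  block_comb c1555 b1556 (Nat.zero_le _) (Nat.le_of_ble_eq_true rfl) rfl

theorem c1557 : Block F al 0 398848 177692 :=
  block_comb c1556 b1557 (Nat.zero_le _) (Nat.le_of_ble_eq_true rfl) rfl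

theorem c1558 : Block F al 0 399104 177750 :=
  block_comb c1557 b1558 (Nat.zero_le _) (Nat.le_of_ble_eq_true rfl) rfl

theorem c1559 : Block F al 0 399360 177790 :=
  block_comb c1558 b1559 (Nat.zero_le _) (Nat.le_of_ble_eq_true rfl) rfl

theorem c1560 : Block F al 0 399616 177814 :=
  block_comb c1559 b1560 (Nat.zero_le _) (Nat.le_of_ble_eq_true rfl) rfl

theorem c1561 : Block F al 0 399872 177848 :=
  block_comb c1560 b1561 (Nat.zero_le _) (Nat.le_of_ble_eq_true rfl) rfl

theorem c1562 : Block F al 0 400128 177970 :=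
  block_comb c1561 b1562 (Nat.zero_le _) (Nat.le_of_ble_eq_true rfl) rfl

theorem c1563 : Block F al 0 400384 178019 :=
  block_comb c1562 b1563 (Nat.zero_le _) (Nat.le_of_ble_eq_true rfl) rfl

theorem c1564 : Block F al 0 400640 178066 :=
  block_comb c1563 b1564 (Nat.zero_le _) (Nat.le_of_ble_eq_true rfl) rfl

theorem c1565 : Block F al 0 400896 178112 :=
  block_comb c1564 b1565 (Nat.zero_le _) (Nat.le_of_ble_eq_true rfl) rfl

theorem c1566 : Block F al 0 401152 178197 :=
  block_comb c1565 b1566 (Nat.zero_le _) (Nat.le_of_ble_eq_true rfl) rfl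

theorem c1567 : Block F al 0 401408 178270 :=
  block_comb c1566 b1567 (Nat.zero_le _) (Nat.le_of_ble_eq_true rfl) rfl

theorem c1568 : Block F al 0 401664 178319 :=
  block_comb c1567 b1568 (Nat.zero_le _) (Nat.le_of_ble_eq_true rfl) rfl

theorem c1569 : Block F al 0 401920 178363 :=
  block_comb c1568 b1569 (Nat.zero_le _) (Nat.le_of_ble_eq_true rfl) rfl

theorem c1570 : Block F al 0 402176 178400 :=
  block_comb c1569 b1570 (Nat.zero_le _) (Nat.le_of_ble_eq_true rfl) rfl

theorem c1571 : Block F al 0 402432 178447 :=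
  block_comb c1570 b1571 (Nat.zero_le _) (Nat.le_of_ble_eq_true rfl) rfl

theorem c1572 : Block F al 0 402688 178547 :=
  block_comb c1571 b1572 (Nat.zero_le _) (Nat.le_of_ble_eq_true rfl) rfl

theorem c1573 : Block F al 0 402944 178644 :=
  block_comb c1572 b1573 (Nat.zero_le _) (Nat.le_of_ble_eq_true rfl) rfl

theorem c1574 : Block F al 0 403200 178678 :=
  block_comb c1573 b1574 (Nat.zero_le _) (Nat.le_of_ble_eq_true rfl) rfl

theorem c1575 : Block F al 0 403456 178738 :=
  block_comb c1574 b1575 (Nat.zero_le _) (Nat.le_of_ble_eq_true rfl) rfl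

theorem c1576 : Block F al 0 403712 178856 :=
  block_comb c1575 b1576 (Nat.zero_le _) (Nat.le_of_ble_eq_true rfl) rfl

theorem c1577 : Block F al 0 403968 178930 :=
  block_comb c1576 b1577 (Nat.zero_le _) (Nat.le_of_ble_eq_true rfl) rfl

theorem c1578 : Block F al 0 404224 178992 :=
  block_comb c1577 b1578 (Nat.zero_le _) (Nat.le_of_ble_eq_true rfl) rfl

theorem c1579 : Block F al 0 404480 179044 :=
  block_comb c1578 b1579 (Nat.zero_le _) (Nat.le_of_ble_eq_true rfl) rfl

theorem c1580 : Block F al 0 404736 179116 :=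
  block_comb c1579 b1580 (Nat.zero_le _) (Nat.le_of_ble_eq_true rfl) rfl

theorem c1581 : Block F al 0 404992 179204 :=
  block_comb c1580 b1581 (Nat.zero_le _) (Nat.le_of_ble_eq_true rfl) rfl

theorem c1582 : Block F al 0 405248 179228 :=
  block_comb c1581 b1582 (Nat.zero_le _) (Nat.le_of_ble_eq_true rfl) rfl

theorem c1583 : Block F al 0 405504 179274 :=
  block_comb c1582 b1583 (Nat.zero_le _) (Nat.le_of_ble_eq_true rfl) rfl

theorem c1584 : Block F al 0 405760 179358 :=
  block_comb c1583 b1584 (Nat.zero_le _) (Nat.le_of_ble_eq_true rfl) rfl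

theorem c1585 : Block F al 0 406016 179457 :=
  block_comb c1584 b1585 (Nat.zero_le _) (Nat.le_of_ble_eq_true rfl) rfl

theorem c1586 : Block F al 0 406272 179522 :=
  block_comb c1585 b1586 (Nat.zero_le _) (Nat.le_of_ble_eq_true rfl) rfl

theorem c1587 : Block F al 0 406528 179582 :=
  block_comb c1586 b1587 (Nat.zero_le _) (Nat.le_of_ble_eq_true rfl) rfl

theorem c1588 : Block F al 0 406784 179674 :=
  block_comb c1587 b1588 (Nat.zero_le _) (Nat.le_of_ble_eq_true rfl) rfl

theorem c1589 : Block F al 0 407040 179738 :=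
  block_comb c1588 b1589 (Nat.zero_le _) (Nat.le_of_ble_eq_true rfl) rfl

theorem c1590 : Block F al 0 407296 179828 :=
  block_comb c1589 b1590 (Nat.zero_le _) (Nat.le_of_ble_eq_true rfl) rfl

theorem c1591 : Block F al 0 407552 179914 :=
  block_comb c1590 b1591 (Nat.zero_le _) (Nat.le_of_ble_eq_true rfl) rfl

theorem c1592 : Block F al 0 407808 179940 :=
  block_comb c1591 b1592 (Nat.zero_le _) (Nat.le_of_ble_eq_true rfl) rfl

theorem c1593 : Block F al 0 408064 180026 :=
  block_comb c1592 b1593 (Nat.zero_le _) (Nat.le_of_ble_eq_true rfl) rfl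

theorem c1594 : Block F al 0 408320 180048 :=
  block_comb c1593 b1594 (Nat.zero_le _) (Nat.le_of_ble_eq_true rfl) rfl

theorem c1595 : Block F al 0 408576 180112 :=
  block_comb c1594 b1595 (Nat.zero_le _) (Nat.le_of_ble_eq_true rfl) rfl

theorem c1596 : Block F al 0 408832 180136 :=
  block_comb c1595 b1596 (Nat.zero_le _) (Nat.le_of_ble_eq_true rfl) rfl

theorem c1597 : Block F al 0 409088 180200 :=
  block_comb c1596 b1597 (Nat.zero_le _) (Nat.le_of_ble_eq_true rfl) rfl

theorem c1598 : Block F al 0 409344 180270 :=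
  block_comb c1597 b1598 (Nat.zero_le _) (Nat.le_of_ble_eq_true rfl) rfl

theorem c1599 : Block F al 0 409600 180314 :=
  block_comb c1598 b1599 (Nat.zero_le _) (Nat.le_of_ble_eq_true rfl) rfl

theorem c1600 : Block F al 0 409856 180378 :=
  block_comb c1599 b1600 (Nat.zero_le _) (Nat.le_of_ble_eq_true rfl) rfl

theorem c1601 : Block F al 0 410112 180424 :=
  block_comb c1600 b1601 (Nat.zero_le _) (Nat.le_of_ble_eq_true rfl) rfl

theorem c1602 : Block F al 0 410368 180483 :=
  block_comb c1601 b1602 (Nat.zero_le _) (Nat.le_of_ble_eq_true rfl) rfl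

theorem c1603 : Block F al 0 410624 180523 :=
  block_comb c1602 b1603 (Nat.zero_le _) (Nat.le_of_ble_eq_true rfl) rfl

theorem c1604 : Block F al 0 410880 180532 :=
  block_comb c1603 b1604 (Nat.zero_le _) (Nat.le_of_ble_eq_true rfl) rfl

theorem c1605 : Block F al 0 411136 180575 :=
  block_comb c1604 b1605 (Nat.zero_le _) (Nat.le_of_ble_eq_true rfl) rfl

theorem c1606 : Block F al 0 411392 180639 :=
  block_comb c1605 b1606 (Nat.zero_le _) (Nat.le_of_ble_eq_true rfl) rfl

theorem c1607 : Block F al 0 411648 180681 :=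
  block_comb c1606 b1607 (Nat.zero_le _) (Nat.le_of_ble_eq_true rfl) rfl

theorem c1608 : Block F al 0 411904 180756 :=
  block_comb c1607 b1608 (Nat.zero_le _) (Nat.le_of_ble_eq_true rfl) rfl

theorem c1609 : Block F al 0 412160 180883 :=
  block_comb c1608 b1609 (Nat.zero_le _) (Nat.le_of_ble_eq_true rfl) rfl

theorem c1610 : Block F al 0 412416 180967 :=
  block_comb c1609 b1610 (Nat.zero_le _) (Nat.le_of_ble_eq_true rfl) rfl

theorem c1611 : Block F al 0 412672 181028 :=
  block_comb c1610 b1611 (Nat.zero_le _) (Nat.le_of_ble_eq_true rfl) rfl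

theorem c1612 : Block F al 0 412928 181118 :=
  block_comb c1611 b1612 (Nat.zero_le _) (Nat.le_of_ble_eq_true rfl) rfl

theorem c1613 : Block F al 0 413184 181203 :=
  block_comb c1612 b1613 (Nat.zero_le _) (Nat.le_of_ble_eq_true rfl) rfl

theorem c1614 : Block F al 0 413440 181250 :=
  block_comb c1613 b1614 (Nat.zero_le _) (Nat.le_of_ble_eq_true rfl) rfl

theorem c1615 : Block F al 0 413696 181288 :=
  block_comb c1614 b1615 (Nat.zero_le _) (Nat.le_of_ble_eq_true rfl) rfl

theorem c1616 : Block F al 0 413952 181350 :=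
  block_comb c1615 b1616 (Nat.zero_le _) (Nat.le_of_ble_eq_true rfl) rfl

theorem c1617 : Block F al 0 414208 181384 :=
  block_comb c1616 b1617 (Nat.zero_le _) (Nat.le_of_ble_eq_true rfl) rfl

theorem c1618 : Block F al 0 414464 181404 :=
  block_comb c1617 b1618 (Nat.zero_le _) (Nat.le_of_ble_eq_true rfl) rfl

theorem c1619 : Block F al 0 414720 181438 :=
  block_comb c1618 b1619 (Nat.zero_le _) (Nat.le_of_ble_eq_true rfl) rfl

theorem c1620 : Block F al 0 414976 181480 :=
  block_comb c1619 b1620 (Nat.zero_le _) (Nat.le_of_ble_eq_true rfl) rfl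

theorem c1621 : Block F al 0 415232 181518 :=
  block_comb c1620 b1621 (Nat.zero_le _) (Nat.le_of_ble_eq_true rfl) rfl

theorem c1622 : Block F al 0 415488 181544 :=
  block_comb c1621 b1622 (Nat.zero_le _) (Nat.le_of_ble_eq_true rfl) rfl

theorem c1623 : Block F al 0 415744 181568 :=
  block_comb c1622 b1623 (Nat.zero_le _) (Nat.le_of_ble_eq_true rfl) rfl

theorem c1624 : Block F al 0 416000 181642 :=
  block_comb c1623 b1624 (Nat.zero_le _) (Nat.le_of_ble_eq_true rfl) rfl

theorem c1625 : Block F al 0 416256 181722 :=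
  block_comb c1624 b1625 (Nat.zero_le _) (Nat.le_of_ble_eq_true rfl) rfl

theorem c1626 : Block F al 0 416512 181760 :=
  block_comb c1625 b1626 (Nat.zero_le _) (Nat.le_of_ble_eq_true rfl) rfl

theorem c1627 : Block F al 0 416768 181816 :=
  block_comb c1626 b1627 (Nat.zero_le _) (Nat.le_of_ble_eq_true rfl) rfl

theorem c1628 : Block F al 0 417024 181894 :=
  block_comb c1627 b1628 (Nat.zero_le _) (Nat.le_of_ble_eq_true rfl) rfl

theorem c1629 : Block F al 0 417280 181959 :=
  block_comb c1628 b1629 (Nat.zero_le _) (Nat.le_of_ble_eq_true rfl) rfl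

theorem c1630 : Block F al 0 417536 182032 :=
  block_comb c1629 b1630 (Nat.zero_le _) (Nat.le_of_ble_eq_true rfl) rfl

theorem c1631 : Block F al 0 417792 182092 :=
  block_comb c1630 b1631 (Nat.zero_le _) (Nat.le_of_ble_eq_true rfl) rfl

theorem c1632 : Block F al 0 418048 182158 :=
  block_comb c1631 b1632 (Nat.zero_le _) (Nat.le_of_ble_eq_true rfl) rfl

theorem c1633 : Block F al 0 418304 182214 :=
  block_comb c1632 b1633 (Nat.zero_le _) (Nat.le_of_ble_eq_true rfl) rfl

theorem c1634 : Block F al 0 418560 182276 :=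
  block_comb c1633 b1634 (Nat.zero_le _) (Nat.le_of_ble_eq_true rfl) rfl

theorem c1635 : Block F al 0 418816 182324 :=
  block_comb c1634 b1635 (Nat.zero_le _) (Nat.le_of_ble_eq_true rfl) rfl

theorem c1636 : Block F al 0 419072 182348 :=
  block_comb c1635 b1636 (Nat.zero_le _) (Nat.le_of_ble_eq_true rfl) rfl

theorem c1637 : Block F al 0 419328 182390 :=
  block_comb c1636 b1637 (Nat.zero_le _) (Nat.le_of_ble_eq_true rfl) rfl

theorem c1638 : Block F al 0 419584 182433 :=
  block_comb c1637 b1638 (Nat.zero_le _) (Nat.le_of_ble_eq_true rfl) rfl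

theorem c1639 : Block F al 0 419840 182466 :=
  block_comb c1638 b1639 (Nat.zero_le _) (Nat.le_of_ble_eq_true rfl) rfl

theorem c1640 : Block F al 0 420096 182502 :=
  block_comb c1639 b1640 (Nat.zero_le _) (Nat.le_of_ble_eq_true rfl) rfl

theorem c1641 : Block F al 0 420352 182605 :=
  block_comb c1640 b1641 (Nat.zero_le _) (Nat.le_of_ble_eq_true rfl) rfl

theorem c1642 : Block F al 0 420608 182680 :=
  block_comb c1641 b1642 (Nat.zero_le _) (Nat.le_of_ble_eq_true rfl) rfl

theorem c1643 : Block F al 0 420864 182716 :=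
  block_comb c1642 b1643 (Nat.zero_le _) (Nat.le_of_ble_eq_true rfl) rfl

theorem c1644 : Block F al 0 421120 182814 :=
  block_comb c1643 b1644 (Nat.zero_le _) (Nat.le_of_ble_eq_true rfl) rfl

theorem c1645 : Block F al 0 421376 182870 :=
  block_comb c1644 b1645 (Nat.zero_le _) (Nat.le_of_ble_eq_true rfl) rfl

theorem c1646 : Block F al 0 421632 182969 :=
  block_comb c1645 b1646 (Nat.zero_le _) (Nat.le_of_ble_eq_true rfl) rfl

theorem c1647 : Block F al 0 421888 183062 :=
  block_comb c1646 b1647 (Nat.zero_le _) (Nat.le_of_ble_eq_true rfl) rfl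

theorem c1648 : Block F al 0 422144 183156 :=
  block_comb c1647 b1648 (Nat.zero_le _) (Nat.le_of_ble_eq_true rfl) rfl

theorem c1649 : Block F al 0 422400 183222 :=
  block_comb c1648 b1649 (Nat.zero_le _) (Nat.le_of_ble_eq_true rfl) rfl

theorem c1650 : Block F al 0 422656 183306 :=
  block_comb c1649 b1650 (Nat.zero_le _) (Nat.le_of_ble_eq_true rfl) rfl

theorem c1651 : Block F al 0 422912 183382 :=
  block_comb c1650 b1651 (Nat.zero_le _) (Nat.le_of_ble_eq_true rfl) rfl

theorem c1652 : Block F al 0 423168 183414 :=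
  block_comb c1651 b1652 (Nat.zero_le _) (Nat.le_of_ble_eq_true rfl) rfl

theorem c1653 : Block F al 0 423424 183454 :=
  block_comb c1652 b1653 (Nat.zero_le _) (Nat.le_of_ble_eq_true rfl) rfl

theorem c1654 : Block F al 0 423680 183468 :=
  block_comb c1653 b1654 (Nat.zero_le _) (Nat.le_of_ble_eq_true rfl) rfl

theorem c1655 : Block F al 0 423936 183509 :=
  block_comb c1654 b1655 (Nat.zero_le _) (Nat.le_of_ble_eq_true rfl) rfl

theorem c1656 : Block F al 0 424192 183600 :=
  block_comb c1655 b1656 (Nat.zero_le _) (Nat.le_of_ble_eq_true rfl) rfl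

theorem c1657 : Block F al 0 424448 183626 :=
  block_comb c1656 b1657 (Nat.zero_le _) (Nat.le_of_ble_eq_true rfl) rfl

theorem c1658 : Block F al 0 424704 183690 :=
  block_comb c1657 b1658 (Nat.zero_le _) (Nat.le_of_ble_eq_true rfl) rfl

theorem c1659 : Block F al 0 424960 183775 :=
  block_comb c1658 b1659 (Nat.zero_le _) (Nat.le_of_ble_eq_true rfl) rfl

theorem c1660 : Block F al 0 425216 183856 :=
  block_comb c1659 b1660 (Nat.zero_le _) (Nat.le_of_ble_eq_true rfl) rfl

theorem c1661 : Block F al 0 425472 183900 :=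
  block_comb c1660 b1661 (Nat.zero_le _) (Nat.le_of_ble_eq_true rfl) rfl

theorem c1662 : Block F al 0 425728 183952 :=
  block_comb c1661 b1662 (Nat.zero_le _) (Nat.le_of_ble_eq_true rfl) rfl

theorem c1663 : Block F al 0 425984 184026 :=
  block_comb c1662 b1663 (Nat.zero_le _) (Nat.le_of_ble_eq_true rfl) rfl

theorem c1664 : Block F al 0 426240 184076 :=
  block_comb c1663 b1664 (Nat.zero_le _) (Nat.le_of_ble_eq_true rfl) rfl

theorem c1665 : Block F al 0 426496 184144 :=
  block_comb c1664 b1665 (Nat.zero_le _) (Nat.le_of_ble_eq_true rfl) rfl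

theorem c1666 : Block F al 0 426752 184216 :=
  block_comb c1665 b1666 (Nat.zero_le _) (Nat.le_of_ble_eq_true rfl) rfl

theorem c1667 : Block F al 0 427008 184290 :=
  block_comb c1666 b1667 (Nat.zero_le _) (Nat.le_of_ble_eq_true rfl) rfl

theorem c1668 : Block F al 0 427264 184339 :=
  block_comb c1667 b1668 (Nat.zero_le _) (Nat.le_of_ble_eq_true rfl) rfl

theorem c1669 : Block F al 0 427520 184412 :=
  block_comb c1668 b1669 (Nat.zero_le _) (Nat.le_of_ble_eq_true rfl) rfl

theorem c1670 : Block F al 0 427776 184466 :=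
  block_comb c1669 b1670 (Nat.zero_le _) (Nat.le_of_ble_eq_true rfl) rfl

theorem c1671 : Block F al 0 428032 184532 :=
  block_comb c1670 b1671 (Nat.zero_le _) (Nat.le_of_ble_eq_true rfl) rfl

theorem c1672 : Block F al 0 428288 184602 :=
  block_comb c1671 b1672 (Nat.zero_le _) (Nat.le_of_ble_eq_true rfl) rfl

theorem c1673 : Block F al 0 428544 184658 :=
  block_comb c1672 b1673 (Nat.zero_le _) (Nat.le_of_ble_eq_true rfl) rfl

theorem c1674 : Block F al 0 428800 184706 :=
  block_comb c1673 b1674 (Nat.zero_le _) (Nat.le_of_ble_eq_true rfl) rfl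

theorem c1675 : Block F al 0 429056 184748 :=
  block_comb c1674 b1675 (Nat.zero_le _) (Nat.le_of_ble_eq_true rfl) rfl

theorem c1676 : Block F al 0 429312 184780 :=
  block_comb c1675 b1676 (Nat.zero_le _) (Nat.le_of_ble_eq_true rfl) rfl

theorem c1677 : Block F al 0 429568 184836 :=
  block_comb c1676 b1677 (Nat.zero_le _) (Nat.le_of_ble_eq_true rfl) rfl

theorem c1678 : Block F al 0 429824 184898 :=
  block_comb c1677 b1678 (Nat.zero_le _) (Nat.le_of_ble_eq_true rfl) rfl

theorem c1679 : Block F al 0 430080 184958 :=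
  block_comb c1678 b1679 (Nat.zero_le _) (Nat.le_of_ble_eq_true rfl) rfl

theorem c1680 : Block F al 0 430336 184982 :=
  block_comb c1679 b1680 (Nat.zero_le _) (Nat.le_of_ble_eq_true rfl) rfl

theorem c1681 : Block F al 0 430592 185026 :=
  block_comb c1680 b1681 (Nat.zero_le _) (Nat.le_of_ble_eq_true rfl) rfl

theorem c1682 : Block F al 0 430848 185054 :=
  block_comb c1681 b1682 (Nat.zero_le _) (Nat.le_of_ble_eq_true rfl) rfl

theorem c1683 : Block F al 0 431104 185096 :=
  block_comb c1682 b1683 (Nat.zero_le _) (Nat.le_of_ble_eq_true rfl) rfl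

theorem c1684 : Block F al 0 431360 185138 :=
  block_comb c1683 b1684 (Nat.zero_le _) (Nat.le_of_ble_eq_true rfl) rfl

theorem c1685 : Block F al 0 431616 185194 :=
  block_comb c1684 b1685 (Nat.zero_le _) (Nat.le_of_ble_eq_true rfl) rfl

theorem c1686 : Block F al 0 431872 185249 :=
  block_comb c1685 b1686 (Nat.zero_le _) (Nat.le_of_ble_eq_true rfl) rfl

theorem c1687 : Block F al 0 432128 185320 :=
  block_comb c1686 b1687 (Nat.zero_le _) (Nat.le_of_ble_eq_true rfl) rfl

theorem c1688 : Block F al 0 432384 185390 :=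
  block_comb c1687 b1688 (Nat.zero_le _) (Nat.le_of_ble_eq_true rfl) rfl

theorem c1689 : Block F al 0 432640 185462 :=
  block_comb c1688 b1689 (Nat.zero_le _) (Nat.le_of_ble_eq_true rfl) rfl

theorem c1690 : Block F al 0 432896 185494 :=
  block_comb c1689 b1690 (Nat.zero_le _) (Nat.le_of_ble_eq_true rfl) rfl

theorem c1691 : Block F al 0 433152 185588 :=
  block_comb c1690 b1691 (Nat.zero_le _) (Nat.le_of_ble_eq_true rfl) rfl

theorem c1692 : Block F al 0 433408 185646 :=
  block_comb c1691 b1692 (Nat.zero_le _) (Nat.le_of_ble_eq_true rfl) rfl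

theorem c1693 : Block F al 0 433664 185720 :=
  block_comb c1692 b1693 (Nat.zero_le _) (Nat.le_of_ble_eq_true rfl) rfl

theorem c1694 : Block F al 0 433920 185756 :=
  block_comb c1693 b1694 (Nat.zero_le _) (Nat.le_of_ble_eq_true rfl) rfl

theorem c1695 : Block F al 0 434176 185816 :=
  block_comb c1694 b1695 (Nat.zero_le _) (Nat.le_of_ble_eq_true rfl) rfl

theorem c1696 : Block F al 0 434432 185858 :=
  block_comb c1695 b1696 (Nat.zero_le _) (Nat.le_of_ble_eq_true rfl) rfl

theorem c1697 : Block F al 0 434688 185902 :=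
  block_comb c1696 b1697 (Nat.zero_le _) (Nat.le_of_ble_eq_true rfl) rfl

theorem c1698 : Block F al 0 434944 185926 :=
  block_comb c1697 b1698 (Nat.zero_le _) (Nat.le_of_ble_eq_true rfl) rfl

theorem c1699 : Block F al 0 435200 185958 :=
  block_comb c1698 b1699 (Nat.zero_le _) (Nat.le_of_ble_eq_true rfl) rfl

theorem c1700 : Block F al 0 435456 186028 :=
  block_comb c1699 b1700 (Nat.zero_le _) (Nat.le_of_ble_eq_true rfl) rfl

theorem c1701 : Block F al 0 435712 186056 :=
  block_comb c1700 b1701 (Nat.zero_le _) (Nat.le_of_ble_eq_true rfl) rfl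

theorem c1702 : Block F al 0 435968 186093 :=
  block_comb c1701 b1702 (Nat.zero_le _) (Nat.le_of_ble_eq_true rfl) rfl

theorem c1703 : Block F al 0 436224 186110 :=
  block_comb c1702 b1703 (Nat.zero_le _) (Nat.le_of_ble_eq_true rfl) rfl

theorem c1704 : Block F al 0 436480 186144 :=
  block_comb c1703 b1704 (Nat.zero_le _) (Nat.le_of_ble_eq_true rfl) rfl

theorem c1705 : Block F al 0 436736 186183 :=
  block_comb c1704 b1705 (Nat.zero_le _) (Nat.le_of_ble_eq_true rfl) rfl

theorem c1706 : Block F al 0 436992 186261 :=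
  block_comb c1705 b1706 (Nat.zero_le _) (Nat.le_of_ble_eq_true rfl) rfl

theorem c1707 : Block F al 0 437248 186292 :=
  block_comb c1706 b1707 (Nat.zero_le _) (Nat.le_of_ble_eq_true rfl) rfl

theorem c1708 : Block F al 0 437504 186356 :=
  block_comb c1707 b1708 (Nat.zero_le _) (Nat.le_of_ble_eq_true rfl) rfl

theorem c1709 : Block F al 0 437760 186392 :=
  block_comb c1708 b1709 (Nat.zero_le _) (Nat.le_of_ble_eq_true rfl) rfl

theorem c1710 : Block F al 0 438016 186444 :=
  block_comb c1709 b1710 (Nat.zero_le _) (Nat.le_of_ble_eq_true rfl) rfl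

theorem c1711 : Block F al 0 438272 186472 :=
  block_comb c1710 b1711 (Nat.zero_le _) (Nat.le_of_ble_eq_true rfl) rfl

theorem c1712 : Block F al 0 438528 186502 :=
  block_comb c1711 b1712 (Nat.zero_le _) (Nat.le_of_ble_eq_true rfl) rfl

theorem c1713 : Block F al 0 438784 186557 :=
  block_comb c1712 b1713 (Nat.zero_le _) (Nat.le_of_ble_eq_true rfl) rfl

theorem c1714 : Block F al 0 439040 186580 :=
  block_comb c1713 b1714 (Nat.zero_le _) (Nat.le_of_ble_eq_true rfl) rfl

theorem c1715 : Block F al 0 439296 186612 :=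
  block_comb c1714 b1715 (Nat.zero_le _) (Nat.le_of_ble_eq_true rfl) rfl

theorem c1716 : Block F al 0 439552 186662 :=
  block_comb c1715 b1716 (Nat.zero_le _) (Nat.le_of_ble_eq_true rfl) rfl

theorem c1717 : Block F al 0 439808 186720 :=
  block_comb c1716 b1717 (Nat.zero_le _) (Nat.le_of_ble_eq_true rfl) rfl

theorem c1718 : Block F al 0 440064 186732 :=
  block_comb c1717 b1718 (Nat.zero_le _) (Nat.le_of_ble_eq_true rfl) rfl

theorem c1719 : Block F al 0 440320 186766 :=
  block_comb c1718 b1719 (Nat.zero_le _) (Nat.le_of_ble_eq_true rfl) rfl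

theorem c1720 : Block F al 0 440576 186842 :=
  block_comb c1719 b1720 (Nat.zero_le _) (Nat.le_of_ble_eq_true rfl) rfl

theorem c1721 : Block F al 0 440832 186862 :=
  block_comb c1720 b1721 (Nat.zero_le _) (Nat.le_of_ble_eq_true rfl) rfl

theorem c1722 : Block F al 0 441088 186898 :=
  block_comb c1721 b1722 (Nat.zero_le _) (Nat.le_of_ble_eq_true rfl) rfl

theorem c1723 : Block F al 0 441344 186954 :=
  block_comb c1722 b1723 (Nat.zero_le _) (Nat.le_of_ble_eq_true rfl) rfl

theorem c1724 : Block F al 0 441600 186986 :=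
  block_comb c1723 b1724 (Nat.zero_le _) (Nat.le_of_ble_eq_true rfl) rfl

theorem c1725 : Block F al 0 441856 187050 :=
  block_comb c1724 b1725 (Nat.zero_le _) (Nat.le_of_ble_eq_true rfl) rfl

theorem c1726 : Block F al 0 442112 187108 :=
  block_comb c1725 b1726 (Nat.zero_le _) (Nat.le_of_ble_eq_true rfl) rfl

theorem c1727 : Block F al 0 442368 187188 :=
  block_comb c1726 b1727 (Nat.zero_le _) (Nat.le_of_ble_eq_true rfl) rfl

theorem c1728 : Block F al 0 442624 187230 :=
  block_comb c1727 b1728 (Nat.zero_le _) (Nat.le_of_ble_eq_true rfl) rfl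

theorem c1729 : Block F al 0 442880 187286 :=
  block_comb c1728 b1729 (Nat.zero_le _) (Nat.le_of_ble_eq_true rfl) rfl

theorem c1730 : Block F al 0 443136 187320 :=
  block_comb c1729 b1730 (Nat.zero_le _) (Nat.le_of_ble_eq_true rfl) rfl

theorem c1731 : Block F al 0 443392 187369 :=
  block_comb c1730 b1731 (Nat.zero_le _) (Nat.le_of_ble_eq_true rfl) rfl

theorem c1732 : Block F al 0 443648 187406 :=
  block_comb c1731 b1732 (Nat.zero_le _) (Nat.le_of_ble_eq_true rfl) rfl

theorem c1733 : Block F al 0 443904 187456 :=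
  block_comb c1732 b1733 (Nat.zero_le _) (Nat.le_of_ble_eq_true rfl) rfl

theorem c1734 : Block F al 0 444160 187532 :=
  block_comb c1733 b1734 (Nat.zero_le _) (Nat.le_of_ble_eq_true rfl) rfl

theorem c1735 : Block F al 0 444416 187596 :=
  block_comb c1734 b1735 (Nat.zero_le _) (Nat.le_of_ble_eq_true rfl) rfl

theorem c1736 : Block F al 0 444672 187630 :=
  block_comb c1735 b1736 (Nat.zero_le _) (Nat.le_of_ble_eq_true rfl) rfl

theorem c1737 : Block F al 0 444928 187688 :=
  block_comb c1736 b1737 (Nat.zero_le _) (Nat.le_of_ble_eq_true rfl) rfl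

theorem c1738 : Block F al 0 445184 187777 :=
  block_comb c1737 b1738 (Nat.zero_le _) (Nat.le_of_ble_eq_true rfl) rfl

theorem c1739 : Block F al 0 445440 187832 :=
  block_comb c1738 b1739 (Nat.zero_le _) (Nat.le_of_ble_eq_true rfl) rfl

theorem c1740 : Block F al 0 445696 187878 :=
  block_comb c1739 b1740 (Nat.zero_le _) (Nat.le_of_ble_eq_true rfl) rfl

theorem c1741 : Block F al 0 445952 187930 :=
  block_comb c1740 b1741 (Nat.zero_le _) (Nat.le_of_ble_eq_true rfl) rfl

theorem c1742 : Block F al 0 446208 188020 :=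
  block_comb c1741 b1742 (Nat.zero_le _) (Nat.le_of_ble_eq_true rfl) rfl

theorem c1743 : Block F al 0 446464 188100 :=
  block_comb c1742 b1743 (Nat.zero_le _) (Nat.le_of_ble_eq_true rfl) rfl

theorem c1744 : Block F al 0 446720 188124 :=
  block_comb c1743 b1744 (Nat.zero_le _) (Nat.le_of_ble_eq_true rfl) rfl

theorem c1745 : Block F al 0 446976 188192 :=
  block_comb c1744 b1745 (Nat.zero_le _) (Nat.le_of_ble_eq_true rfl) rfl

theorem c1746 : Block F al 0 447232 188254 :=
  block_comb c1745 b1746 (Nat.zero_le _) (Nat.le_of_ble_eq_true rfl) rfl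

theorem c1747 : Block F al 0 447488 188341 :=
  block_comb c1746 b1747 (Nat.zero_le _) (Nat.le_of_ble_eq_true rfl) rfl

theorem c1748 : Block F al 0 447744 188390 :=
  block_comb c1747 b1748 (Nat.zero_le _) (Nat.le_of_ble_eq_true rfl) rfl

theorem c1749 : Block F al 0 448000 188414 :=
  block_comb c1748 b1749 (Nat.zero_le _) (Nat.le_of_ble_eq_true rfl) rfl

theorem c1750 : Block F al 0 448256 188446 :=
  block_comb c1749 b1750 (Nat.zero_le _) (Nat.le_of_ble_eq_true rfl) rfl

theorem c1751 : Block F al 0 448512 188496 :=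
  block_comb c1750 b1751 (Nat.zero_le _) (Nat.le_of_ble_eq_true rfl) rfl

theorem c1752 : Block F al 0 448768 188558 :=
  block_comb c1751 b1752 (Nat.zero_le _) (Nat.le_of_ble_eq_true rfl) rfl

theorem c1753 : Block F al 0 449024 188594 :=
  block_comb c1752 b1753 (Nat.zero_le _) (Nat.le_of_ble_eq_true rfl) rfl

theorem c1754 : Block F al 0 449280 188621 :=
  block_comb c1753 b1754 (Nat.zero_le _) (Nat.le_of_ble_eq_true rfl) rfl

theorem c1755 : Block F al 0 449536 188684 :=
  block_comb c1754 b1755 (Nat.zero_le _) (Nat.le_of_ble_eq_true rfl) rfl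

theorem c1756 : Block F al 0 449792 188719 :=
  block_comb c1755 b1756 (Nat.zero_le _) (Nat.le_of_ble_eq_true rfl) rfl

theorem c1757 : Block F al 0 450048 188767 :=
  block_comb c1756 b1757 (Nat.zero_le _) (Nat.le_of_ble_eq_true rfl) rfl

theorem c1758 : Block F al 0 450304 188836 :=
  block_comb c1757 b1758 (Nat.zero_le _) (Nat.le_of_ble_eq_true rfl) rfl

theorem c1759 : Block F al 0 450560 188907 :=
  block_comb c1758 b1759 (Nat.zero_le _) (Nat.le_of_ble_eq_true rfl) rfl

theorem c1760 : Block F al 0 450816 188970 :=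
  block_comb c1759 b1760 (Nat.zero_le _) (Nat.le_of_ble_eq_true rfl) rfl

theorem c1761 : Block F al 0 451072 189010 :=
  block_comb c1760 b1761 (Nat.zero_le _) (Nat.le_of_ble_eq_true rfl) rfl

theorem c1762 : Block F al 0 451328 189058 :=
  block_comb c1761 b1762 (Nat.zero_le _) (Nat.le_of_ble_eq_true rfl) rfl

theorem c1763 : Block F al 0 451584 189096 :=
  block_comb c1762 b1763 (Nat.zero_le _) (Nat.le_of_ble_eq_true rfl) rfl

theorem c1764 : Block F al 0 451840 189128 :=
  block_comb c1763 b1764 (Nat.zero_le _) (Nat.le_of_ble_eq_true rfl) rfl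

theorem c1765 : Block F al 0 452096 189190 :=
  block_comb c1764 b1765 (Nat.zero_le _) (Nat.le_of_ble_eq_true rfl) rfl

theorem c1766 : Block F al 0 452352 189278 :=
  block_comb c1765 b1766 (Nat.zero_le _) (Nat.le_of_ble_eq_true rfl) rfl

theorem c1767 : Block F al 0 452608 189318 :=
  block_comb c1766 b1767 (Nat.zero_le _) (Nat.le_of_ble_eq_true rfl) rfl

theorem c1768 : Block F al 0 452864 189370 :=
  block_comb c1767 b1768 (Nat.zero_le _) (Nat.le_of_ble_eq_true rfl) rfl

theorem c1769 : Block F al 0 453120 189424 :=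
  block_comb c1768 b1769 (Nat.zero_le _) (Nat.le_of_ble_eq_true rfl) rfl

theorem c1770 : Block F al 0 453376 189502 :=
  block_comb c1769 b1770 (Nat.zero_le _) (Nat.le_of_ble_eq_true rfl) rfl

theorem c1771 : Block F al 0 453632 189526 :=
  block_comb c1770 b1771 (Nat.zero_le _) (Nat.le_of_ble_eq_true rfl) rfl

theorem c1772 : Block F al 0 453888 189548 :=
  block_comb c1771 b1772 (Nat.zero_le _) (Nat.le_of_ble_eq_true rfl) rfl

theorem c1773 : Block F al 0 454144 189614 :=
  block_comb c1772 b1773 (Nat.zero_le _) (Nat.le_of_ble_eq_true rfl) rfl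

theorem c1774 : Block F al 0 454400 189646 :=
  block_comb c1773 b1774 (Nat.zero_le _) (Nat.le_of_ble_eq_true rfl) rfl

theorem c1775 : Block F al 0 454656 189692 :=
  block_comb c1774 b1775 (Nat.zero_le _) (Nat.le_of_ble_eq_true rfl) rfl

theorem c1776 : Block F al 0 454912 189738 :=
  block_comb c1775 b1776 (Nat.zero_le _) (Nat.le_of_ble_eq_true rfl) rfl

theorem c1777 : Block F al 0 455168 189814 :=
  block_comb c1776 b1777 (Nat.zero_le _) (Nat.le_of_ble_eq_true rfl) rfl

theorem c1778 : Block F al 0 455424 189876 :=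
  block_comb c1777 b1778 (Nat.zero_le _) (Nat.le_of_ble_eq_true rfl) rfl

theorem c1779 : Block F al 0 455680 189920 :=
  block_comb c1778 b1779 (Nat.zero_le _) (Nat.le_of_ble_eq_true rfl) rfl

theorem c1780 : Block F al 0 455936 189966 :=
  block_comb c1779 b1780 (Nat.zero_le _) (Nat.le_of_ble_eq_true rfl) rfl

theorem c1781 : Block F al 0 456192 189999 :=
  block_comb c1780 b1781 (Nat.zero_le _) (Nat.le_of_ble_eq_true rfl) rfl

theorem c1782 : Block F al 0 456448 190034 :=
  block_comb c1781 b1782 (Nat.zero_le _) (Nat.le_of_ble_eq_true rfl) rfl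

theorem c1783 : Block F al 0 456704 190085 :=
  block_comb c1782 b1783 (Nat.zero_le _) (Nat.le_of_ble_eq_true rfl) rfl

theorem c1784 : Block F al 0 456960 190164 :=
  block_comb c1783 b1784 (Nat.zero_le _) (Nat.le_of_ble_eq_true rfl) rfl

theorem c1785 : Block F al 0 457216 190189 :=
  block_comb c1784 b1785 (Nat.zero_le _) (Nat.le_of_ble_eq_true rfl) rfl

theorem c1786 : Block F al 0 457472 190250 :=
  block_comb c1785 b1786 (Nat.zero_le _) (Nat.le_of_ble_eq_true rfl) rfl

theorem c1787 : Block F al 0 457728 190258 :=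
  block_comb c1786 b1787 (Nat.zero_le _) (Nat.le_of_ble_eq_true rfl) rfl

theorem c1788 : Block F al 0 457984 190294 :=
  block_comb c1787 b1788 (Nat.zero_le _) (Nat.le_of_ble_eq_true rfl) rfl

theorem c1789 : Block F al 0 458240 190362 :=
  block_comb c1788 b1789 (Nat.zero_le _) (Nat.le_of_ble_eq_true rfl) rfl

theorem c1790 : Block F al 0 458496 190445 :=
  block_comb c1789 b1790 (Nat.zero_le _) (Nat.le_of_ble_eq_true rfl) rfl

theorem c1791 : Block F al 0 458752 190530 :=
  block_comb c1790 b1791 (Nat.zero_le _) (Nat.le_of_ble_eq_true rfl) rfl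

theorem c1792 : Block F al 0 459008 190582 :=
  block_comb c1791 b1792 (Nat.zero_le _) (Nat.le_of_ble_eq_true rfl) rfl

theorem c1793 : Block F al 0 459264 190606 :=
  block_comb c1792 b1793 (Nat.zero_le _) (Nat.le_of_ble_eq_true rfl) rfl

theorem c1794 : Block F al 0 459520 190659 :=
  block_comb c1793 b1794 (Nat.zero_le _) (Nat.le_of_ble_eq_true rfl) rfl

theorem c1795 : Block F al 0 459776 190692 :=
  block_comb c1794 b1795 (Nat.zero_le _) (Nat.le_of_ble_eq_true rfl) rfl

theorem c1796 : Block F al 0 460032 190761 :=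
  block_comb c1795 b1796 (Nat.zero_le _) (Nat.le_of_ble_eq_true rfl) rfl

theorem c1797 : Block F al 0 460288 190835 :=
  block_comb c1796 b1797 (Nat.zero_le _) (Nat.le_of_ble_eq_true rfl) rfl

theorem c1798 : Block F al 0 460544 190913 :=
  block_comb c1797 b1798 (Nat.zero_le _) (Nat.le_of_ble_eq_true rfl) rfl

theorem c1799 : Block F al 0 460800 190944 :=
  block_comb c1798 b1799 (Nat.zero_le _) (Nat.le_of_ble_eq_true rfl) rfl

theorem c1800 : Block F al 0 461056 190971 :=
  block_comb c1799 b1800 (Nat.zero_le _) (Nat.le_of_ble_eq_true rfl) rfl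

theorem c1801 : Block F al 0 461312 190996 :=
  block_comb c1800 b1801 (Nat.zero_le _) (Nat.le_of_ble_eq_true rfl) rfl

theorem c1802 : Block F al 0 461568 191008 :=
  block_comb c1801 b1802 (Nat.zero_le _) (Nat.le_of_ble_eq_true rfl) rfl

theorem c1803 : Block F al 0 461824 191042 :=
  block_comb c1802 b1803 (Nat.zero_le _) (Nat.le_of_ble_eq_true rfl) rfl

theorem c1804 : Block F al 0 462080 191098 :=
  block_comb c1803 b1804 (Nat.zero_le _) (Nat.le_of_ble_eq_true rfl) rfl

theorem c1805 : Block F al 0 462336 191142 :=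
  block_comb c1804 b1805 (Nat.zero_le _) (Nat.le_of_ble_eq_true rfl) rfl

theorem c1806 : Block F al 0 462592 191198 :=
  block_comb c1805 b1806 (Nat.zero_le _) (Nat.le_of_ble_eq_true rfl) rfl

theorem c1807 : Block F al 0 462848 191222 :=
  block_comb c1806 b1807 (Nat.zero_le _) (Nat.le_of_ble_eq_true rfl) rfl

theorem c1808 : Block F al 0 463104 191242 :=
  block_comb c1807 b1808 (Nat.zero_le _) (Nat.le_of_ble_eq_true rfl) rfl

theorem c1809 : Block F al 0 463360 191278 :=
  block_comb c1808 b1809 (Nat.zero_le _) (Nat.le_of_ble_eq_true rfl) rfl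

theorem c1810 : Block F al 0 463616 191318 :=
  block_comb c1809 b1810 (Nat.zero_le _) (Nat.le_of_ble_eq_true rfl) rfl

theorem c1811 : Block F al 0 463872 191344 :=
  block_comb c1810 b1811 (Nat.zero_le _) (Nat.le_of_ble_eq_true rfl) rfl

theorem c1812 : Block F al 0 464128 191400 :=
  block_comb c1811 b1812 (Nat.zero_le _) (Nat.le_of_ble_eq_true rfl) rfl

theorem c1813 : Block F al 0 464384 191438 :=
  block_comb c1812 b1813 (Nat.zero_le _) (Nat.le_of_ble_eq_true rfl) rfl

theorem c1814 : Block F al 0 464640 191472 :=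
  block_comb c1813 b1814 (Nat.zero_le _) (Nat.le_of_ble_eq_true rfl) rfl

theorem c1815 : Block F al 0 464896 191510 :=
  block_comb c1814 b1815 (Nat.zero_le _) (Nat.le_of_ble_eq_true rfl) rfl

theorem c1816 : Block F al 0 465152 191544 :=
  block_comb c1815 b1816 (Nat.zero_le _) (Nat.le_of_ble_eq_true rfl) rfl

theorem c1817 : Block F al 0 465408 191592 :=
  block_comb c1816 b1817 (Nat.zero_le _) (Nat.le_of_ble_eq_true rfl) rfl

theorem c1818 : Block F al 0 465664 191656 :=
  block_comb c1817 b1818 (Nat.zero_le _) (Nat.le_of_ble_eq_true rfl) rfl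

theorem c1819 : Block F al 0 465920 191736 :=
  block_comb c1818 b1819 (Nat.zero_le _) (Nat.le_of_ble_eq_true rfl) rfl

theorem c1820 : Block F al 0 466176 191771 :=
  block_comb c1819 b1820 (Nat.zero_le _) (Nat.le_of_ble_eq_true rfl) rfl

theorem c1821 : Block F al 0 466432 191810 :=
  block_comb c1820 b1821 (Nat.zero_le _) (Nat.le_of_ble_eq_true rfl) rfl

theorem c1822 : Block F al 0 466688 191888 :=
  block_comb c1821 b1822 (Nat.zero_le _) (Nat.le_of_ble_eq_true rfl) rfl

theorem c1823 : Block F al 0 466944 191930 :=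
  block_comb c1822 b1823 (Nat.zero_le _) (Nat.le_of_ble_eq_true rfl) rfl

theorem c1824 : Block F al 0 467200 191996 :=
  block_comb c1823 b1824 (Nat.zero_le _) (Nat.le_of_ble_eq_true rfl) rfl

theorem c1825 : Block F al 0 467456 192028 :=
  block_comb c1824 b1825 (Nat.zero_le _) (Nat.le_of_ble_eq_true rfl) rfl

theorem c1826 : Block F al 0 467712 192096 :=
  block_comb c1825 b1826 (Nat.zero_le _) (Nat.le_of_ble_eq_true rfl) rfl

theorem c1827 : Block F al 0 467968 192180 :=
  block_comb c1826 b1827 (Nat.zero_le _) (Nat.le_of_ble_eq_true rfl) rfl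

theorem c1828 : Block F al 0 468224 192250 :=
  block_comb c1827 b1828 (Nat.zero_le _) (Nat.le_of_ble_eq_true rfl) rfl

theorem c1829 : Block F al 0 468480 192292 :=
  block_comb c1828 b1829 (Nat.zero_le _) (Nat.le_of_ble_eq_true rfl) rfl

theorem c1830 : Block F al 0 468736 192368 :=
  block_comb c1829 b1830 (Nat.zero_le _) (Nat.le_of_ble_eq_true rfl) rfl

theorem c1831 : Block F al 0 468992 192439 :=
  block_comb c1830 b1831 (Nat.zero_le _) (Nat.le_of_ble_eq_true rfl) rfl

theorem c1832 : Block F al 0 469248 192504 :=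
  block_comb c1831 b1832 (Nat.zero_le _) (Nat.le_of_ble_eq_true rfl) rfl

theorem c1833 : Block F al 0 469504 192548 :=
  block_comb c1832 b1833 (Nat.zero_le _) (Nat.le_of_ble_eq_true rfl) rfl

theorem c1834 : Block F al 0 469760 192582 :=
  block_comb c1833 b1834 (Nat.zero_le _) (Nat.le_of_ble_eq_true rfl) rfl

theorem c1835 : Block F al 0 470016 192616 :=
  block_comb c1834 b1835 (Nat.zero_le _) (Nat.le_of_ble_eq_true rfl) rfl

theorem c1836 : Block F al 0 470272 192676 :=
  block_comb c1835 b1836 (Nat.zero_le _) (Nat.le_of_ble_eq_true rfl) rfl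

theorem c1837 : Block F al 0 470528 192724 :=
  block_comb c1836 b1837 (Nat.zero_le _) (Nat.le_of_ble_eq_true rfl) rfl

theorem c1838 : Block F al 0 470784 192786 :=
  block_comb c1837 b1838 (Nat.zero_le _) (Nat.le_of_ble_eq_true rfl) rfl

theorem c1839 : Block F al 0 471040 192852 :=
  block_comb c1838 b1839 (Nat.zero_le _) (Nat.le_of_ble_eq_true rfl) rfl

theorem c1840 : Block F al 0 471296 192894 :=
  block_comb c1839 b1840 (Nat.zero_le _) (Nat.le_of_ble_eq_true rfl) rfl

theorem c1841 : Block F al 0 471552 192928 :=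
  block_comb c1840 b1841 (Nat.zero_le _) (Nat.le_of_ble_eq_true rfl) rfl

theorem c1842 : Block F al 0 471808 192984 :=
  block_comb c1841 b1842 (Nat.zero_le _) (Nat.le_of_ble_eq_true rfl) rfl

theorem c1843 : Block F al 0 472064 193000 :=
  block_comb c1842 b1843 (Nat.zero_le _) (Nat.le_of_ble_eq_true rfl) rfl

theorem c1844 : Block F al 0 472320 193028 :=
  block_comb c1843 b1844 (Nat.zero_le _) (Nat.le_of_ble_eq_true rfl) rfl

theorem c1845 : Block F al 0 472576 193046 :=
  block_comb c1844 b1845 (Nat.zero_le _) (Nat.le_of_ble_eq_true rfl) rfl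

theorem c1846 : Block F al 0 472832 193070 :=
  block_comb c1845 b1846 (Nat.zero_le _) (Nat.le_of_ble_eq_true rfl) rfl

theorem c1847 : Block F al 0 473088 193086 :=
  block_comb c1846 b1847 (Nat.zero_le _) (Nat.le_of_ble_eq_true rfl) rfl

theorem c1848 : Block F al 0 473344 193108 :=
  block_comb c1847 b1848 (Nat.zero_le _) (Nat.le_of_ble_eq_true rfl) rfl

theorem c1849 : Block F al 0 473600 193142 :=
  block_comb c1848 b1849 (Nat.zero_le _) (Nat.le_of_ble_eq_true rfl) rfl

theorem c1850 : Block F al 0 473856 193154 :=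
  block_comb c1849 b1850 (Nat.zero_le _) (Nat.le_of_ble_eq_true rfl) rfl

theorem c1851 : Block F al 0 474112 193176 :=
  block_comb c1850 b1851 (Nat.zero_le _) (Nat.le_of_ble_eq_true rfl) rfl

theorem c1852 : Block F al 0 474368 193180 :=
  block_comb c1851 b1852 (Nat.zero_le _) (Nat.le_of_ble_eq_true rfl) rfl

theorem c1853 : Block F al 0 474624 193234 :=
  block_comb c1852 b1853 (Nat.zero_le _) (Nat.le_of_ble_eq_true rfl) rfl

theorem c1854 : Block F al 0 474880 193278 :=
  block_comb c1853 b1854 (Nat.zero_le _) (Nat.le_of_ble_eq_true rfl) rfl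

theorem c1855 : Block F al 0 475136 193324 :=
  block_comb c1854 b1855 (Nat.zero_le _) (Nat.le_of_ble_eq_true rfl) rfl

theorem c1856 : Block F al 0 475392 193388 :=
  block_comb c1855 b1856 (Nat.zero_le _) (Nat.le_of_ble_eq_true rfl) rfl

theorem c1857 : Block F al 0 475648 193470 :=
  block_comb c1856 b1857 (Nat.zero_le _) (Nat.le_of_ble_eq_true rfl) rfl

theorem c1858 : Block F al 0 475904 193508 :=
  block_comb c1857 b1858 (Nat.zero_le _) (Nat.le_of_ble_eq_true rfl) rfl

theorem c1859 : Block F al 0 476160 193550 :=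
  block_comb c1858 b1859 (Nat.zero_le _) (Nat.le_of_ble_eq_true rfl) rfl

theorem c1860 : Block F al 0 476416 193556 :=
  block_comb c1859 b1860 (Nat.zero_le _) (Nat.le_of_ble_eq_true rfl) rfl

theorem c1861 : Block F al 0 476672 193568 :=
  block_comb c1860 b1861 (Nat.zero_le _) (Nat.le_of_ble_eq_true rfl) rfl

theorem c1862 : Block F al 0 476928 193625 :=
  block_comb c1861 b1862 (Nat.zero_le _) (Nat.le_of_ble_eq_true rfl) rfl

theorem c1863 : Block F al 0 477184 193696 :=
  block_comb c1862 b1863 (Nat.zero_le _) (Nat.le_of_ble_eq_true rfl) rfl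

theorem c1864 : Block F al 0 477440 193738 :=
  block_comb c1863 b1864 (Nat.zero_le _) (Nat.le_of_ble_eq_true rfl) rfl

theorem c1865 : Block F al 0 477696 193813 :=
  block_comb c1864 b1865 (Nat.zero_le _) (Nat.le_of_ble_eq_true rfl) rfl

theorem c1866 : Block F al 0 477952 193878 :=
  block_comb c1865 b1866 (Nat.zero_le _) (Nat.le_of_ble_eq_true rfl) rfl

theorem c1867 : Block F al 0 478208 193922 :=
  block_comb c1866 b1867 (Nat.zero_le _) (Nat.le_of_ble_eq_true rfl) rfl

theorem c1868 : Block F al 0 478464 193968 :=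
  block_comb c1867 b1868 (Nat.zero_le _) (Nat.le_of_ble_eq_true rfl) rfl

theorem c1869 : Block F al 0 478720 193986 :=
  block_comb c1868 b1869 (Nat.zero_le _) (Nat.le_of_ble_eq_true rfl) rfl

theorem c1870 : Block F al 0 478976 194000 :=
  block_comb c1869 b1870 (Nat.zero_le _) (Nat.le_of_ble_eq_true rfl) rfl

theorem c1871 : Block F al 0 479232 194031 :=
  block_comb c1870 b1871 (Nat.zero_le _) (Nat.le_of_ble_eq_true rfl) rfl

theorem c1872 : Block F al 0 479488 194050 :=
  block_comb c1871 b1872 (Nat.zero_le _) (Nat.le_of_ble_eq_true rfl) rfl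

theorem c1873 : Block F al 0 479744 194075 :=
  block_comb c1872 b1873 (Nat.zero_le _) (Nat.le_of_ble_eq_true rfl) rfl

theorem c1874 : Block F al 0 480000 194126 :=
  block_comb c1873 b1874 (Nat.zero_le _) (Nat.le_of_ble_eq_true rfl) rfl

theorem c1875 : Block F al 0 480256 194155 :=
  block_comb c1874 b1875 (Nat.zero_le _) (Nat.le_of_ble_eq_true rfl) rfl

theorem c1876 : Block F al 0 480512 194222 :=
  block_comb c1875 b1876 (Nat.zero_le _) (Nat.le_of_ble_eq_true rfl) rfl

theorem c1877 : Block F al 0 480768 194270 :=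
  block_comb c1876 b1877 (Nat.zero_le _) (Nat.le_of_ble_eq_true rfl) rfl

theorem c1878 : Block F al 0 481024 194348 :=
  block_comb c1877 b1878 (Nat.zero_le _) (Nat.le_of_ble_eq_true rfl) rfl

theorem c1879 : Block F al 0 481280 194390 :=
  block_comb c1878 b1879 (Nat.zero_le _) (Nat.le_of_ble_eq_true rfl) rfl

theorem c1880 : Block F al 0 481536 194424 :=
  block_comb c1879 b1880 (Nat.zero_le _) (Nat.le_of_ble_eq_true rfl) rfl

theorem c1881 : Block F al 0 481792 194482 :=
  block_comb c1880 b1881 (Nat.zero_le _) (Nat.le_of_ble_eq_true rfl) rfl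

theorem c1882 : Block F al 0 482048 194550 :=
  block_comb c1881 b1882 (Nat.zero_le _) (Nat.le_of_ble_eq_true rfl) rfl

theorem c1883 : Block F al 0 482304 194608 :=
  block_comb c1882 b1883 (Nat.zero_le _) (Nat.le_of_ble_eq_true rfl) rfl

theorem c1884 : Block F al 0 482560 194628 :=
  block_comb c1883 b1884 (Nat.zero_le _) (Nat.le_of_ble_eq_true rfl) rfl

theorem c1885 : Block F al 0 482816 194680 :=
  block_comb c1884 b1885 (Nat.zero_le _) (Nat.le_of_ble_eq_true rfl) rfl

theorem c1886 : Block F al 0 483072 194752 :=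
  block_comb c1885 b1886 (Nat.zero_le _) (Nat.le_of_ble_eq_true rfl) rfl

theorem c1887 : Block F al 0 483328 194800 :=
  block_comb c1886 b1887 (Nat.zero_le _) (Nat.le_of_ble_eq_true rfl) rfl

theorem c1888 : Block F al 0 483584 194874 :=
  block_comb c1887 b1888 (Nat.zero_le _) (Nat.le_of_ble_eq_true rfl) rfl

theorem c1889 : Block F al 0 483840 194914 :=
  block_comb c1888 b1889 (Nat.zero_le _) (Nat.le_of_ble_eq_true rfl) rfl

theorem c1890 : Block F al 0 484096 194962 :=
  block_comb c1889 b1890 (Nat.zero_le _) (Nat.le_of_ble_eq_true rfl) rfl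

theorem c1891 : Block F al 0 484352 195016 :=
  block_comb c1890 b1891 (Nat.zero_le _) (Nat.le_of_ble_eq_true rfl) rfl

theorem c1892 : Block F al 0 484608 195098 :=
  block_comb c1891 b1892 (Nat.zero_le _) (Nat.le_of_ble_eq_true rfl) rfl

theorem c1893 : Block F al 0 484864 195174 :=
  block_comb c1892 b1893 (Nat.zero_le _) (Nat.le_of_ble_eq_true rfl) rfl

theorem c1894 : Block F al 0 485120 195252 :=
  block_comb c1893 b1894 (Nat.zero_le _) (Nat.le_of_ble_eq_true rfl) rfl

theorem c1895 : Block F al 0 485376 195320 :=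
  block_comb c1894 b1895 (Nat.zero_le _) (Nat.le_of_ble_eq_true rfl) rfl

theorem c1896 : Block F al 0 485632 195362 :=
  block_comb c1895 b1896 (Nat.zero_le _) (Nat.le_of_ble_eq_true rfl) rfl

theorem c1897 : Block F al 0 485888 195390 :=
  block_comb c1896 b1897 (Nat.zero_le _) (Nat.le_of_ble_eq_true rfl) rfl

theorem c1898 : Block F al 0 486144 195422 :=
  block_comb c1897 b1898 (Nat.zero_le _) (Nat.le_of_ble_eq_true rfl) rfl

theorem c1899 : Block F al 0 486400 195450 :=
  block_comb c1898 b1899 (Nat.zero_le _) (Nat.le_of_ble_eq_true rfl) rfl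

theorem c1900 : Block F al 0 486656 195480 :=
  block_comb c1899 b1900 (Nat.zero_le _) (Nat.le_of_ble_eq_true rfl) rfl

theorem c1901 : Block F al 0 486912 195494 :=
  block_comb c1900 b1901 (Nat.zero_le _) (Nat.le_of_ble_eq_true rfl) rfl

theorem c1902 : Block F al 0 487168 195523 :=
  block_comb c1901 b1902 (Nat.zero_le _) (Nat.le_of_ble_eq_true rfl) rfl

theorem c1903 : Block F al 0 487424 195590 :=
  block_comb c1902 b1903 (Nat.zero_le _) (Nat.le_of_ble_eq_true rfl) rfl

theorem c1904 : Block F al 0 487680 195606 :=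
  block_comb c1903 b1904 (Nat.zero_le _) (Nat.le_of_ble_eq_true rfl) rfl

theorem c1905 : Block F al 0 487936 195648 :=
  block_comb c1904 b1905 (Nat.zero_le _) (Nat.le_of_ble_eq_true rfl) rfl

theorem c1906 : Block F al 0 488192 195700 :=
  block_comb c1905 b1906 (Nat.zero_le _) (Nat.le_of_ble_eq_true rfl) rfl

theorem c1907 : Block F al 0 488448 195730 :=
  block_comb c1906 b1907 (Nat.zero_le _) (Nat.le_of_ble_eq_true rfl) rfl

theorem c1908 : Block F al 0 488704 195772 :=
  block_comb c1907 b1908 (Nat.zero_le _) (Nat.le_of_ble_eq_true rfl) rfl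

theorem c1909 : Block F al 0 488960 195790 :=
  block_comb c1908 b1909 (Nat.zero_le _) (Nat.le_of_ble_eq_true rfl) rfl

theorem c1910 : Block F al 0 489216 195808 :=
  block_comb c1909 b1910 (Nat.zero_le _) (Nat.le_of_ble_eq_true rfl) rfl

theorem c1911 : Block F al 0 489472 195871 :=
  block_comb c1910 b1911 (Nat.zero_le _) (Nat.le_of_ble_eq_true rfl) rfl

theorem c1912 : Block F al 0 489728 195916 :=
  block_comb c1911 b1912 (Nat.zero_le _) (Nat.le_of_ble_eq_true rfl) rfl

theorem c1913 : Block F al 0 489984 195968 :=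
  block_comb c1912 b1913 (Nat.zero_le _) (Nat.le_of_ble_eq_true rfl) rfl

theorem c1914 : Block F al 0 490240 196002 :=
  block_comb c1913 b1914 (Nat.zero_le _) (Nat.le_of_ble_eq_true rfl) rfl

theorem c1915 : Block F al 0 490496 196046 :=
  block_comb c1914 b1915 (Nat.zero_le _) (Nat.le_of_ble_eq_true rfl) rfl

theorem c1916 : Block F al 0 490752 196100 :=
  block_comb c1915 b1916 (Nat.zero_le _) (Nat.le_of_ble_eq_true rfl) rfl

theorem c1917 : Block F al 0 491008 196116 :=
  block_comb c1916 b1917 (Nat.zero_le _) (Nat.le_of_ble_eq_true rfl) rfl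

theorem c1918 : Block F al 0 491264 196136 :=
  block_comb c1917 b1918 (Nat.zero_le _) (Nat.le_of_ble_eq_true rfl) rfl

theorem c1919 : Block F al 0 491520 196180 :=
  block_comb c1918 b1919 (Nat.zero_le _) (Nat.le_of_ble_eq_true rfl) rfl

theorem c1920 : Block F al 0 491776 196243 :=
  block_comb c1919 b1920 (Nat.zero_le _) (Nat.le_of_ble_eq_true rfl) rfl

theorem c1921 : Block F al 0 492032 196306 :=
  block_comb c1920 b1921 (Nat.zero_le _) (Nat.le_of_ble_eq_true rfl) rfl

theorem c1922 : Block F al 0 492288 196366 :=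
  block_comb c1921 b1922 (Nat.zero_le _) (Nat.le_of_ble_eq_true rfl) rfl

theorem c1923 : Block F al 0 492544 196410 :=
  block_comb c1922 b1923 (Nat.zero_le _) (Nat.le_of_ble_eq_true rfl) rfl

theorem c1924 : Block F al 0 492800 196434 :=
  block_comb c1923 b1924 (Nat.zero_le _) (Nat.le_of_ble_eq_true rfl) rfl

theorem c1925 : Block F al 0 493056 196516 :=
  block_comb c1924 b1925 (Nat.zero_le _) (Nat.le_of_ble_eq_true rfl) rfl

theorem c1926 : Block F al 0 493312 196614 :=
  block_comb c1925 b1926 (Nat.zero_le _) (Nat.le_of_ble_eq_true rfl) rfl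

theorem c1927 : Block F al 0 493568 196670 :=
  block_comb c1926 b1927 (Nat.zero_le _) (Nat.le_of_ble_eq_true rfl) rfl

theorem c1928 : Block F al 0 493824 196724 :=
  block_comb c1927 b1928 (Nat.zero_le _) (Nat.le_of_ble_eq_true rfl) rfl

theorem c1929 : Block F al 0 494080 196762 :=
  block_comb c1928 b1929 (Nat.zero_le _) (Nat.le_of_ble_eq_true rfl) rfl

theorem c1930 : Block F al 0 494336 196793 :=
  block_comb c1929 b1930 (Nat.zero_le _) (Nat.le_of_ble_eq_true rfl) rfl

theorem c1931 : Block F al 0 494592 196862 :=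
  block_comb c1930 b1931 (Nat.zero_le _) (Nat.le_of_ble_eq_true rfl) rfl

theorem c1932 : Block F al 0 494848 196904 :=
  block_comb c1931 b1932 (Nat.zero_le _) (Nat.le_of_ble_eq_true rfl) rfl

theorem c1933 : Block F al 0 495104 196932 :=
  block_comb c1932 b1933 (Nat.zero_le _) (Nat.le_of_ble_eq_true rfl) rfl

theorem c1934 : Block F al 0 495360 196964 :=
  block_comb c1933 b1934 (Nat.zero_le _) (Nat.le_of_ble_eq_true rfl) rfl

theorem c1935 : Block F al 0 495616 196986 :=
  block_comb c1934 b1935 (Nat.zero_le _) (Nat.le_of_ble_eq_true rfl) rfl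

theorem c1936 : Block F al 0 495872 197012 :=
  block_comb c1935 b1936 (Nat.zero_le _) (Nat.le_of_ble_eq_true rfl) rfl

theorem c1937 : Block F al 0 496128 197078 :=
  block_comb c1936 b1937 (Nat.zero_le _) (Nat.le_of_ble_eq_true rfl) rfl

theorem c1938 : Block F al 0 496384 197120 :=
  block_comb c1937 b1938 (Nat.zero_le _) (Nat.le_of_ble_eq_true rfl) rfl

theorem c1939 : Block F al 0 496640 197184 :=
  block_comb c1938 b1939 (Nat.zero_le _) (Nat.le_of_ble_eq_true rfl) rfl

theorem c1940 : Block F al 0 496896 197226 :=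
  block_comb c1939 b1940 (Nat.zero_le _) (Nat.le_of_ble_eq_true rfl) rfl

theorem c1941 : Block F al 0 497152 197266 :=
  block_comb c1940 b1941 (Nat.zero_le _) (Nat.le_of_ble_eq_true rfl) rfl

theorem c1942 : Block F al 0 497408 197340 :=
  block_comb c1941 b1942 (Nat.zero_le _) (Nat.le_of_ble_eq_true rfl) rfl

theorem c1943 : Block F al 0 497664 197396 :=
  block_comb c1942 b1943 (Nat.zero_le _) (Nat.le_of_ble_eq_true rfl) rfl

theorem c1944 : Block F al 0 497920 197416 :=
  block_comb c1943 b1944 (Nat.zero_le _) (Nat.le_of_ble_eq_true rfl) rfl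

theorem c1945 : Block F al 0 498176 197452 :=
  block_comb c1944 b1945 (Nat.zero_le _) (Nat.le_of_ble_eq_true rfl) rfl

theorem c1946 : Block F al 0 498432 197502 :=
  block_comb c1945 b1946 (Nat.zero_le _) (Nat.le_of_ble_eq_true rfl) rfl

theorem c1947 : Block F al 0 498688 197530 :=
  block_comb c1946 b1947 (Nat.zero_le _) (Nat.le_of_ble_eq_true rfl) rfl

theorem c1948 : Block F al 0 498944 197556 :=
  block_comb c1947 b1948 (Nat.zero_le _) (Nat.le_of_ble_eq_true rfl) rfl

theorem c1949 : Block F al 0 499200 197572 :=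
  block_comb c1948 b1949 (Nat.zero_le _) (Nat.le_of_ble_eq_true rfl) rfl

theorem c1950 : Block F al 0 499456 197596 :=
  block_comb c1949 b1950 (Nat.zero_le _) (Nat.le_of_ble_eq_true rfl) rfl

theorem c1951 : Block F al 0 499712 197662 :=
  block_comb c1950 b1951 (Nat.zero_le _) (Nat.le_of_ble_eq_true rfl) rfl

theorem c1952 : Block F al 0 499968 197692 :=
  block_comb c1951 b1952 (Nat.zero_le _) (Nat.le_of_ble_eq_true rfl) rfl

theorem c1953 : Block F al 0 500224 197725 :=
  block_comb c1952 b1953 (Nat.zero_le _) (Nat.le_of_ble_eq_true rfl) rfl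

theorem c1954 : Block F al 0 500480 197780 :=
  block_comb c1953 b1954 (Nat.zero_le _) (Nat.le_of_ble_eq_true rfl) rfl

theorem c1955 : Block F al 0 500736 197852 :=
  block_comb c1954 b1955 (Nat.zero_le _) (Nat.le_of_ble_eq_true rfl) rfl

theorem c1956 : Block F al 0 500992 197902 :=
  block_comb c1955 b1956 (Nat.zero_le _) (Nat.le_of_ble_eq_true rfl) rfl

theorem c1957 : Block F al 0 501248 197920 :=
  block_comb c1956 b1957 (Nat.zero_le _) (Nat.le_of_ble_eq_true rfl) rfl

theorem c1958 : Block F al 0 501504 197944 :=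
  block_comb c1957 b1958 (Nat.zero_le _) (Nat.le_of_ble_eq_true rfl) rfl

theorem c1959 : Block F al 0 501760 197970 :=
  block_comb c1958 b1959 (Nat.zero_le _) (Nat.le_of_ble_eq_true rfl) rfl

theorem c1960 : Block F al 0 502016 198028 :=
  block_comb c1959 b1960 (Nat.zero_le _) (Nat.le_of_ble_eq_true rfl) rfl

theorem c1961 : Block F al 0 502272 198069 :=
  block_comb c1960 b1961 (Nat.zero_le _) (Nat.le_of_ble_eq_true rfl) rfl

theorem c1962 : Block F al 0 502528 198116 :=
  block_comb c1961 b1962 (Nat.zero_le _) (Nat.le_of_ble_eq_true rfl) rfl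

theorem c1963 : Block F al 0 502784 198202 :=
  block_comb c1962 b1963 (Nat.zero_le _) (Nat.le_of_ble_eq_true rfl) rfl

theorem c1964 : Block F al 0 503040 198214 :=
  block_comb c1963 b1964 (Nat.zero_le _) (Nat.le_of_ble_eq_true rfl) rfl

theorem c1965 : Block F al 0 503296 198250 :=
  block_comb c1964 b1965 (Nat.zero_le _) (Nat.le_of_ble_eq_true rfl) rfl

theorem c1966 : Block F al 0 503552 198304 :=
  block_comb c1965 b1966 (Nat.zero_le _) (Nat.le_of_ble_eq_true rfl) rfl

theorem c1967 : Block F al 0 503808 198372 :=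
  block_comb c1966 b1967 (Nat.zero_le _) (Nat.le_of_ble_eq_true rfl) rfl

theorem c1968 : Block F al 0 504064 198404 :=
  block_comb c1967 b1968 (Nat.zero_le _) (Nat.le_of_ble_eq_true rfl) rfl

theorem c1969 : Block F al 0 504320 198448 :=
  block_comb c1968 b1969 (Nat.zero_le _) (Nat.le_of_ble_eq_true rfl) rfl

theorem c1970 : Block F al 0 504576 198490 :=
  block_comb c1969 b1970 (Nat.zero_le _) (Nat.le_of_ble_eq_true rfl) rfl

theorem c1971 : Block F al 0 504832 198530 :=
  block_comb c1970 b1971 (Nat.zero_le _) (Nat.le_of_ble_eq_true rfl) rfl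

theorem c1972 : Block F al 0 505088 198574 :=
  block_comb c1971 b1972 (Nat.zero_le _) (Nat.le_of_ble_eq_true rfl) rfl

theorem c1973 : Block F al 0 505344 198646 :=
  block_comb c1972 b1973 (Nat.zero_le _) (Nat.le_of_ble_eq_true rfl) rfl

theorem c1974 : Block F al 0 505600 198666 :=
  block_comb c1973 b1974 (Nat.zero_le _) (Nat.le_of_ble_eq_true rfl) rfl

theorem c1975 : Block F al 0 505856 198700 :=
  block_comb c1974 b1975 (Nat.zero_le _) (Nat.le_of_ble_eq_true rfl) rfl

theorem c1976 : Block F al 0 506112 198722 :=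
  block_comb c1975 b1976 (Nat.zero_le _) (Nat.le_of_ble_eq_true rfl) rfl

theorem c1977 : Block F al 0 506368 198746 :=
  block_comb c1976 b1977 (Nat.zero_le _) (Nat.le_of_ble_eq_true rfl) rfl

theorem c1978 : Block F al 0 506624 198815 :=
  block_comb c1977 b1978 (Nat.zero_le _) (Nat.le_of_ble_eq_true rfl) rfl

theorem c1979 : Block F al 0 506880 198871 :=
  block_comb c1978 b1979 (Nat.zero_le _) (Nat.le_of_ble_eq_true rfl) rfl

theorem c1980 : Block F al 0 507136 198902 :=
  block_comb c1979 b1980 (Nat.zero_le _) (Nat.le_of_ble_eq_true rfl) rfl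

theorem c1981 : Block F al 0 507392 198932 :=
  block_comb c1980 b1981 (Nat.zero_le _) (Nat.le_of_ble_eq_true rfl) rfl

theorem c1982 : Block F al 0 507648 198964 :=
  block_comb c1981 b1982 (Nat.zero_le _) (Nat.le_of_ble_eq_true rfl) rfl

theorem c1983 : Block F al 0 507904 198982 :=
  block_comb c1982 b1983 (Nat.zero_le _) (Nat.le_of_ble_eq_true rfl) rfl

theorem c1984 : Block F al 0 508160 199030 :=
  block_comb c1983 b1984 (Nat.zero_le _) (Nat.le_of_ble_eq_true rfl) rfl

theorem c1985 : Block F al 0 508416 199078 :=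
  block_comb c1984 b1985 (Nat.zero_le _) (Nat.le_of_ble_eq_true rfl) rfl

theorem c1986 : Block F al 0 508672 199098 :=
  block_comb c1985 b1986 (Nat.zero_le _) (Nat.le_of_ble_eq_true rfl) rfl

theorem c1987 : Block F al 0 508928 199140 :=
  block_comb c1986 b1987 (Nat.zero_le _) (Nat.le_of_ble_eq_true rfl) rfl

theorem c1988 : Block F al 0 509184 199182 :=
  block_comb c1987 b1988 (Nat.zero_le _) (Nat.le_of_ble_eq_true rfl) rfl

theorem c1989 : Block F al 0 509440 199234 :=
  block_comb c1988 b1989 (Nat.zero_le _) (Nat.le_of_ble_eq_true rfl) rfl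

theorem c1990 : Block F al 0 509696 199238 :=
  block_comb c1989 b1990 (Nat.zero_le _) (Nat.le_of_ble_eq_true rfl) rfl

theorem c1991 : Block F al 0 509952 199238 :=
  block_comb c1990 b1991 (Nat.zero_le _) (Nat.le_of_ble_eq_true rfl) rfl

theorem c1992 : Block F al 0 510208 199282 :=
  block_comb c1991 b1992 (Nat.zero_le _) (Nat.le_of_ble_eq_true rfl) rfl

theorem c1993 : Block F al 0 510464 199325 :=
  block_comb c1992 b1993 (Nat.zero_le _) (Nat.le_of_ble_eq_true rfl) rfl

theorem c1994 : Block F al 0 510720 199358 :=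
  block_comb c1993 b1994 (Nat.zero_le _) (Nat.le_of_ble_eq_true rfl) rfl

theorem c1995 : Block F al 0 510976 199430 :=
  block_comb c1994 b1995 (Nat.zero_le _) (Nat.le_of_ble_eq_true rfl) rfl

theorem c1996 : Block F al 0 511232 199520 :=
  block_comb c1995 b1996 (Nat.zero_le _) (Nat.le_of_ble_eq_true rfl) rfl

theorem c1997 : Block F al 0 511488 199526 :=
  block_comb c1996 b1997 (Nat.zero_le _) (Nat.le_of_ble_eq_true rfl) rfl

theorem c1998 : Block F al 0 511744 199564 :=
  block_comb c1997 b1998 (Nat.zero_le _) (Nat.le_of_ble_eq_true rfl) rfl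

theorem c1999 : Block F al 0 512000 199622 :=
  block_comb c1998 b1999 (Nat.zero_le _) (Nat.le_of_ble_eq_true rfl) rfl

theorem c2000 : Block F al 0 512256 199658 :=
  block_comb c1999 b2000 (Nat.zero_le _) (Nat.le_of_ble_eq_true rfl) rfl

theorem c2001 : Block F al 0 512512 199700 :=
  block_comb c2000 b2001 (Nat.zero_le _) (Nat.le_of_ble_eq_true rfl) rfl

theorem c2002 : Block F al 0 512768 199727 :=
  block_comb c2001 b2002 (Nat.zero_le _) (Nat.le_of_ble_eq_true rfl) rfl

theorem c2003 : Block F al 0 513024 199770 :=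
  block_comb c2002 b2003 (Nat.zero_le _) (Nat.le_of_ble_eq_true rfl) rfl

theorem c2004 : Block F al 0 513280 199822 :=
  block_comb c2003 b2004 (Nat.zero_le _) (Nat.le_of_ble_eq_true rfl) rfl

theorem c2005 : Block F al 0 513536 199868 :=
  block_comb c2004 b2005 (Nat.zero_le _) (Nat.le_of_ble_eq_true rfl) rfl

theorem c2006 : Block F al 0 513792 199891 :=
  block_comb c2005 b2006 (Nat.zero_le _) (Nat.le_of_ble_eq_true rfl) rfl

theorem c2007 : Block F al 0 514048 199916 :=
  block_comb c2006 b2007 (Nat.zero_le _) (Nat.le_of_ble_eq_true rfl) rfl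

theorem c2008 : Block F al 0 514304 199955 :=
  block_comb c2007 b2008 (Nat.zero_le _) (Nat.le_of_ble_eq_true rfl) rfl

theorem c2009 : Block F al 0 514560 199978 :=
  block_comb c2008 b2009 (Nat.zero_le _) (Nat.le_of_ble_eq_true rfl) rfl

theorem c2010 : Block F al 0 514816 199986 :=
  block_comb c2009 b2010 (Nat.zero_le _) (Nat.le_of_ble_eq_true rfl) rfl

theorem c2011 : Block F al 0 515072 200050 :=
  block_comb c2010 b2011 (Nat.zero_le _) (Nat.le_of_ble_eq_true rfl) rfl

theorem c2012 : Block F al 0 515328 200092 :=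
  block_comb c2011 b2012 (Nat.zero_le _) (Nat.le_of_ble_eq_true rfl) rfl

theorem c2013 : Block F al 0 515584 200182 :=
  block_comb c2012 b2013 (Nat.zero_le _) (Nat.le_of_ble_eq_true rfl) rfl

theorem c2014 : Block F al 0 515840 200222 :=
  block_comb c2013 b2014 (Nat.zero_le _) (Nat.le_of_ble_eq_true rfl) rfl

theorem c2015 : Block F al 0 516096 200273 :=
  block_comb c2014 b2015 (Nat.zero_le _) (Nat.le_of_ble_eq_true rfl) rfl

theorem c2016 : Block F al 0 516352 200328 :=
  block_comb c2015 b2016 (Nat.zero_le _) (Nat.le_of_ble_eq_true rfl) rfl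

theorem c2017 : Block F al 0 516608 200370 :=
  block_comb c2016 b2017 (Nat.zero_le _) (Nat.le_of_ble_eq_true rfl) rfl

theorem c2018 : Block F al 0 516864 200376 :=
  block_comb c2017 b2018 (Nat.zero_le _) (Nat.le_of_ble_eq_true rfl) rfl

theorem c2019 : Block F al 0 517120 200413 :=
  block_comb c2018 b2019 (Nat.zero_le _) (Nat.le_of_ble_eq_true rfl) rfl

theorem c2020 : Block F al 0 517376 200460 :=
  block_comb c2019 b2020 (Nat.zero_le _) (Nat.le_of_ble_eq_true rfl) rfl

theorem c2021 : Block F al 0 517632 200516 :=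
  block_comb c2020 b2021 (Nat.zero_le _) (Nat.le_of_ble_eq_true rfl) rfl

theorem c2022 : Block F al 0 517888 200516 :=
  block_comb c2021 b2022 (Nat.zero_le _) (Nat.le_of_ble_eq_true rfl) rfl

theorem c2023 : Block F al 0 518144 200546 :=
  block_comb c2022 b2023 (Nat.zero_le _) (Nat.le_of_ble_eq_true rfl) rfl

theorem c2024 : Block F al 0 518400 200560 :=
  block_comb c2023 b2024 (Nat.zero_le _) (Nat.le_of_ble_eq_true rfl) rfl

theorem c2025 : Block F al 0 518656 200608 :=
  block_comb c2024 b2025 (Nat.zero_le _) (Nat.le_of_ble_eq_true rfl) rfl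

theorem c2026 : Block F al 0 518912 200649 :=
  block_comb c2025 b2026 (Nat.zero_le _) (Nat.le_of_ble_eq_true rfl) rfl

theorem c2027 : Block F al 0 519168 200702 :=
  block_comb c2026 b2027 (Nat.zero_le _) (Nat.le_of_ble_eq_true rfl) rfl

theorem c2028 : Block F al 0 519424 200712 :=
  block_comb c2027 b2028 (Nat.zero_le _) (Nat.le_of_ble_eq_true rfl) rfl

theorem c2029 : Block F al 0 519680 200724 :=
  block_comb c2028 b2029 (Nat.zero_le _) (Nat.le_of_ble_eq_true rfl) rfl

theorem c2030 : Block F al 0 519936 200764 :=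
  block_comb c2029 b2030 (Nat.zero_le _) (Nat.le_of_ble_eq_true rfl) rfl

theorem c2031 : Block F al 0 520192 200787 :=
  block_comb c2030 b2031 (Nat.zero_le _) (Nat.le_of_ble_eq_true rfl) rfl

theorem c2032 : Block F al 0 520448 200854 :=
  block_comb c2031 b2032 (Nat.zero_le _) (Nat.le_of_ble_eq_true rfl) rfl

theorem c2033 : Block F al 0 520704 200886 :=
  block_comb c2032 b2033 (Nat.zero_le _) (Nat.le_of_ble_eq_true rfl) rfl

theorem c2034 : Block F al 0 520960 200928 :=
  block_comb c2033 b2034 (Nat.zero_le _) (Nat.le_of_ble_eq_true rfl) rfl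

theorem c2035 : Block F al 0 521216 200946 :=
  block_comb c2034 b2035 (Nat.zero_le _) (Nat.le_of_ble_eq_true rfl) rfl

theorem c2036 : Block F al 0 521472 200974 :=
  block_comb c2035 b2036 (Nat.zero_le _) (Nat.le_of_ble_eq_true rfl) rfl

theorem c2037 : Block F al 0 521728 200984 :=
  block_comb c2036 b2037 (Nat.zero_le _) (Nat.le_of_ble_eq_true rfl) rfl

theorem c2038 : Block F al 0 521984 201026 :=
  block_comb c2037 b2038 (Nat.zero_le _) (Nat.le_of_ble_eq_true rfl) rfl

theorem c2039 : Block F al 0 522240 201080 :=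
  block_comb c2038 b2039 (Nat.zero_le _) (Nat.le_of_ble_eq_true rfl) rfl

theorem c2040 : Block F al 0 522496 201118 :=
  block_comb c2039 b2040 (Nat.zero_le _) (Nat.le_of_ble_eq_true rfl) rfl

theorem c2041 : Block F al 0 522752 201132 :=
  block_comb c2040 b2041 (Nat.zero_le _) (Nat.le_of_ble_eq_true rfl) rfl

theorem c2042 : Block F al 0 523008 201186 :=
  block_comb c2041 b2042 (Nat.zero_le _) (Nat.le_of_ble_eq_true rfl) rfl

theorem c2043 : Block F al 0 523264 201250 :=
  block_comb c2042 b2043 (Nat.zero_le _) (Nat.le_of_ble_eq_true rfl) rfl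

theorem c2044 : Block F al 0 523520 201320 :=
  block_comb c2043 b2044 (Nat.zero_le _) (Nat.le_of_ble_eq_true rfl) rfl

theorem c2045 : Block F al 0 523776 201402 :=
  block_comb c2044 b2045 (Nat.zero_le _) (Nat.le_of_ble_eq_true rfl) rfl

theorem c2046 : Block F al 0 524032 201472 :=
  block_comb c2045 b2046 (Nat.zero_le _) (Nat.le_of_ble_eq_true rfl) rfl

theorem c2047 : Block F al 0 524288 201510 :=
  block_comb c2046 b2047 (Nat.zero_le _) (Nat.le_of_ble_eq_true rfl) rfl

theorem c2048 : Block F al 0 524544 201554 :=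
  block_comb c2047 b2048 (Nat.zero_le _) (Nat.le_of_ble_eq_true rfl) rfl

theorem c2049 : Block F al 0 524800 201601 :=
  block_comb c2048 b2049 (Nat.zero_le _) (Nat.le_of_ble_eq_true rfl) rfl

theorem c2050 : Block F al 0 525056 201660 :=
  block_comb c2049 b2050 (Nat.zero_le _) (Nat.le_of_ble_eq_true rfl) rfl

theorem c2051 : Block F al 0 525312 201720 :=
  block_comb c2050 b2051 (Nat.zero_le _) (Nat.le_of_ble_eq_true rfl) rfl

theorem c2052 : Block F al 0 525568 201748 :=
  block_comb c2051 b2052 (Nat.zero_le _) (Nat.le_of_ble_eq_true rfl) rfl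

theorem c2053 : Block F al 0 525824 201760 :=
  block_comb c2052 b2053 (Nat.zero_le _) (Nat.le_of_ble_eq_true rfl) rfl

theorem c2054 : Block F al 0 526080 201780 :=
  block_comb c2053 b2054 (Nat.zero_le _) (Nat.le_of_ble_eq_true rfl) rfl

theorem c2055 : Block F al 0 526336 201810 :=
  block_comb c2054 b2055 (Nat.zero_le _) (Nat.le_of_ble_eq_true rfl) rfl

theorem c2056 : Block F al 0 526592 201866 :=
  block_comb c2055 b2056 (Nat.zero_le _) (Nat.le_of_ble_eq_true rfl) rfl

theorem c2057 : Block F al 0 526848 201946 :=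
  block_comb c2056 b2057 (Nat.zero_le _) (Nat.le_of_ble_eq_true rfl) rfl

theorem c2058 : Block F al 0 527104 201981 :=
  block_comb c2057 b2058 (Nat.zero_le _) (Nat.le_of_ble_eq_true rfl) rfl

theorem c2059 : Block F al 0 527360 202020 :=
  block_comb c2058 b2059 (Nat.zero_le _) (Nat.le_of_ble_eq_true rfl) rfl

theorem c2060 : Block F al 0 527616 202060 :=
  block_comb c2059 b2060 (Nat.zero_le _) (Nat.le_of_ble_eq_true rfl) rfl

theorem c2061 : Block F al 0 527872 202090 :=
  block_comb c2060 b2061 (Nat.zero_le _) (Nat.le_of_ble_eq_true rfl) rfl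

theorem c2062 : Block F al 0 528128 202162 :=
  block_comb c2061 b2062 (Nat.zero_le _) (Nat.le_of_ble_eq_true rfl) rfl

theorem c2063 : Block F al 0 528384 202232 :=
  block_comb c2062 b2063 (Nat.zero_le _) (Nat.le_of_ble_eq_true rfl) rfl

theorem c2064 : Block F al 0 528640 202270 :=
  block_comb c2063 b2064 (Nat.zero_le _) (Nat.le_of_ble_eq_true rfl) rfl

theorem c2065 : Block F al 0 528896 202338 :=
  block_comb c2064 b2065 (Nat.zero_le _) (Nat.le_of_ble_eq_true rfl) rfl

theorem c2066 : Block F al 0 529152 202387 :=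
  block_comb c2065 b2066 (Nat.zero_le _) (Nat.le_of_ble_eq_true rfl) rfl

theorem c2067 : Block F al 0 529408 202424 :=
  block_comb c2066 b2067 (Nat.zero_le _) (Nat.le_of_ble_eq_true rfl) rfl

theorem c2068 : Block F al 0 529664 202450 :=
  block_comb c2067 b2068 (Nat.zero_le _) (Nat.le_of_ble_eq_true rfl) rfl

theorem c2069 : Block F al 0 529920 202512 :=
  block_comb c2068 b2069 (Nat.zero_le _) (Nat.le_of_ble_eq_true rfl) rfl

theorem c2070 : Block F al 0 530176 202606 :=
  block_comb c2069 b2070 (Nat.zero_le _) (Nat.le_of_ble_eq_true rfl) rfl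

theorem c2071 : Block F al 0 530432 202661 :=
  block_comb c2070 b2071 (Nat.zero_le _) (Nat.le_of_ble_eq_true rfl) rfl

theorem c2072 : Block F al 0 530688 202749 :=
  block_comb c2071 b2072 (Nat.zero_le _) (Nat.le_of_ble_eq_true rfl) rfl

theorem c2073 : Block F al 0 530944 202810 :=
  block_comb c2072 b2073 (Nat.zero_le _) (Nat.le_of_ble_eq_true rfl) rfl

theorem c2074 : Block F al 0 531200 202838 :=
  block_comb c2073 b2074 (Nat.zero_le _) (Nat.le_of_ble_eq_true rfl) rfl

theorem c2075 : Block F al 0 531456 202866 :=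
  block_comb c2074 b2075 (Nat.zero_le _) (Nat.le_of_ble_eq_true rfl) rfl

theorem c2076 : Block F al 0 531712 202932 :=
  block_comb c2075 b2076 (Nat.zero_le _) (Nat.le_of_ble_eq_true rfl) rfl

theorem c2077 : Block F al 0 531968 202974 :=
  block_comb c2076 b2077 (Nat.zero_le _) (Nat.le_of_ble_eq_true rfl) rfl

theorem c2078 : Block F al 0 532224 202998 :=
  block_comb c2077 b2078 (Nat.zero_le _) (Nat.le_of_ble_eq_true rfl) rfl

theorem c2079 : Block F al 0 532480 203064 :=
  block_comb c2078 b2079 (Nat.zero_le _) (Nat.le_of_ble_eq_true rfl) rfl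

theorem c2080 : Block F al 0 532736 203089 :=
  block_comb c2079 b2080 (Nat.zero_le _) (Nat.le_of_ble_eq_true rfl) rfl

theorem c2081 : Block F al 0 532992 203128 :=
  block_comb c2080 b2081 (Nat.zero_le _) (Nat.le_of_ble_eq_true rfl) rfl

theorem c2082 : Block F al 0 533248 203200 :=
  block_comb c2081 b2082 (Nat.zero_le _) (Nat.le_of_ble_eq_true rfl) rfl

theorem c2083 : Block F al 0 533504 203272 :=
  block_comb c2082 b2083 (Nat.zero_le _) (Nat.le_of_ble_eq_true rfl) rfl

theorem c2084 : Block F al 0 533760 203318 :=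
  block_comb c2083 b2084 (Nat.zero_le _) (Nat.le_of_ble_eq_true rfl) rfl

theorem c2085 : Block F al 0 534016 203408 :=
  block_comb c2084 b2085 (Nat.zero_le _) (Nat.le_of_ble_eq_true rfl) rfl

theorem c2086 : Block F al 0 534272 203444 :=
  block_comb c2085 b2086 (Nat.zero_le _) (Nat.le_of_ble_eq_true rfl) rfl

theorem c2087 : Block F al 0 534528 203484 :=
  block_comb c2086 b2087 (Nat.zero_le _) (Nat.le_of_ble_eq_true rfl) rfl

theorem c2088 : Block F al 0 534784 203492 :=
  block_comb c2087 b2088 (Nat.zero_le _) (Nat.le_of_ble_eq_true rfl) rfl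

theorem c2089 : Block F al 0 535040 203512 :=
  block_comb c2088 b2089 (Nat.zero_le _) (Nat.le_of_ble_eq_true rfl) rfl

theorem c2090 : Block F al 0 535296 203554 :=
  block_comb c2089 b2090 (Nat.zero_le _) (Nat.le_of_ble_eq_true rfl) rfl

theorem c2091 : Block F al 0 535552 203604 :=
  block_comb c2090 b2091 (Nat.zero_le _) (Nat.le_of_ble_eq_true rfl) rfl

theorem c2092 : Block F al 0 535808 203662 :=
  block_comb c2091 b2092 (Nat.zero_le _) (Nat.le_of_ble_eq_true rfl) rfl

theorem c2093 : Block F al 0 536064 203712 :=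
  block_comb c2092 b2093 (Nat.zero_le _) (Nat.le_of_ble_eq_true rfl) rfl

theorem c2094 : Block F al 0 536320 203750 :=
  block_comb c2093 b2094 (Nat.zero_le _) (Nat.le_of_ble_eq_true rfl) rfl

theorem c2095 : Block F al 0 536576 203780 :=
  block_comb c2094 b2095 (Nat.zero_le _) (Nat.le_of_ble_eq_true rfl) rfl

theorem c2096 : Block F al 0 536832 203798 :=
  block_comb c2095 b2096 (Nat.zero_le _) (Nat.le_of_ble_eq_true rfl) rfl

theorem c2097 : Block F al 0 537088 203842 :=
  block_comb c2096 b2097 (Nat.zero_le _) (Nat.le_of_ble_eq_true rfl) rfl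

theorem c2098 : Block F al 0 537344 203920 :=
  block_comb c2097 b2098 (Nat.zero_le _) (Nat.le_of_ble_eq_true rfl) rfl

theorem c2099 : Block F al 0 537600 203978 :=
  block_comb c2098 b2099 (Nat.zero_le _) (Nat.le_of_ble_eq_true rfl) rfl

theorem c2100 : Block F al 0 537856 204018 :=
  block_comb c2099 b2100 (Nat.zero_le _) (Nat.le_of_ble_eq_true rfl) rfl

theorem c2101 : Block F al 0 538112 204073 :=
  block_comb c2100 b2101 (Nat.zero_le _) (Nat.le_of_ble_eq_true rfl) rfl

theorem c2102 : Block F al 0 538368 204102 :=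
  block_comb c2101 b2102 (Nat.zero_le _) (Nat.le_of_ble_eq_true rfl) rfl

theorem c2103 : Block F al 0 538624 204140 :=
  block_comb c2102 b2103 (Nat.zero_le _) (Nat.le_of_ble_eq_true rfl) rfl

theorem c2104 : Block F al 0 538880 204174 :=
  block_comb c2103 b2104 (Nat.zero_le _) (Nat.le_of_ble_eq_true rfl) rfl

theorem c2105 : Block F al 0 539136 204226 :=
  block_comb c2104 b2105 (Nat.zero_le _) (Nat.le_of_ble_eq_true rfl) rfl

theorem c2106 : Block F al 0 539392 204266 :=
  block_comb c2105 b2106 (Nat.zero_le _) (Nat.le_of_ble_eq_true rfl) rfl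

theorem c2107 : Block F al 0 539648 204306 :=
  block_comb c2106 b2107 (Nat.zero_le _) (Nat.le_of_ble_eq_true rfl) rfl

theorem c2108 : Block F al 0 539904 204336 :=
  block_comb c2107 b2108 (Nat.zero_le _) (Nat.le_of_ble_eq_true rfl) rfl

theorem c2109 : Block F al 0 540160 204382 :=
  block_comb c2108 b2109 (Nat.zero_le _) (Nat.le_of_ble_eq_true rfl) rfl

theorem c2110 : Block F al 0 540416 204426 :=
  block_comb c2109 b2110 (Nat.zero_le _) (Nat.le_of_ble_eq_true rfl) rfl

theorem c2111 : Block F al 0 540672 204456 :=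
  block_comb c2110 b2111 (Nat.zero_le _) (Nat.le_of_ble_eq_true rfl) rfl

theorem c2112 : Block F al 0 540928 204462 :=
  block_comb c2111 b2112 (Nat.zero_le _) (Nat.le_of_ble_eq_true rfl) rfl

theorem c2113 : Block F al 0 541184 204502 :=
  block_comb c2112 b2113 (Nat.zero_le _) (Nat.le_of_ble_eq_true rfl) rfl

theorem c2114 : Block F al 0 541440 204564 :=
  block_comb c2113 b2114 (Nat.zero_le _) (Nat.le_of_ble_eq_true rfl) rfl

theorem c2115 : Block F al 0 541696 204588 :=
  block_comb c2114 b2115 (Nat.zero_le _) (Nat.le_of_ble_eq_true rfl) rfl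

theorem c2116 : Block F al 0 541952 204672 :=
  block_comb c2115 b2116 (Nat.zero_le _) (Nat.le_of_ble_eq_true rfl) rfl

theorem c2117 : Block F al 0 542208 204727 :=
  block_comb c2116 b2117 (Nat.zero_le _) (Nat.le_of_ble_eq_true rfl) rfl

theorem c2118 : Block F al 0 542464 204820 :=
  block_comb c2117 b2118 (Nat.zero_le _) (Nat.le_of_ble_eq_true rfl) rfl

theorem c2119 : Block F al 0 542720 204888 :=
  block_comb c2118 b2119 (Nat.zero_le _) (Nat.le_of_ble_eq_true rfl) rfl

theorem c2120 : Block F al 0 542976 204994 :=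
  block_comb c2119 b2120 (Nat.zero_le _) (Nat.le_of_ble_eq_true rfl) rfl

theorem c2121 : Block F al 0 543232 205034 :=
  block_comb c2120 b2121 (Nat.zero_le _) (Nat.le_of_ble_eq_true rfl) rfl

theorem c2122 : Block F al 0 543488 205094 :=
  block_comb c2121 b2122 (Nat.zero_le _) (Nat.le_of_ble_eq_true rfl) rfl

theorem c2123 : Block F al 0 543744 205138 :=
  block_comb c2122 b2123 (Nat.zero_le _) (Nat.le_of_ble_eq_true rfl) rfl

theorem c2124 : Block F al 0 544000 205214 :=
  block_comb c2123 b2124 (Nat.zero_le _) (Nat.le_of_ble_eq_true rfl) rfl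

theorem c2125 : Block F al 0 544256 205283 :=
  block_comb c2124 b2125 (Nat.zero_le _) (Nat.le_of_ble_eq_true rfl) rfl

theorem c2126 : Block F al 0 544512 205330 :=
  block_comb c2125 b2126 (Nat.zero_le _) (Nat.le_of_ble_eq_true rfl) rfl

theorem c2127 : Block F al 0 544768 205370 :=
  block_comb c2126 b2127 (Nat.zero_le _) (Nat.le_of_ble_eq_true rfl) rfl

theorem c2128 : Block F al 0 545024 205410 :=
  block_comb c2127 b2128 (Nat.zero_le _) (Nat.le_of_ble_eq_true rfl) rfl

theorem c2129 : Block F al 0 545280 205462 :=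
  block_comb c2128 b2129 (Nat.zero_le _) (Nat.le_of_ble_eq_true rfl) rfl

theorem c2130 : Block F al 0 545536 205490 :=
  block_comb c2129 b2130 (Nat.zero_le _) (Nat.le_of_ble_eq_true rfl) rfl

theorem c2131 : Block F al 0 545792 205542 :=
  block_comb c2130 b2131 (Nat.zero_le _) (Nat.le_of_ble_eq_true rfl) rfl

theorem c2132 : Block F al 0 546048 205609 :=
  block_comb c2131 b2132 (Nat.zero_le _) (Nat.le_of_ble_eq_true rfl) rfl

theorem c2133 : Block F al 0 546304 205684 :=
  block_comb c2132 b2133 (Nat.zero_le _) (Nat.le_of_ble_eq_true rfl) rfl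

theorem c2134 : Block F al 0 546560 205738 :=
  block_comb c2133 b2134 (Nat.zero_le _) (Nat.le_of_ble_eq_true rfl) rfl

theorem c2135 : Block F al 0 546816 205790 :=
  block_comb c2134 b2135 (Nat.zero_le _) (Nat.le_of_ble_eq_true rfl) rfl

theorem c2136 : Block F al 0 547072 205838 :=
  block_comb c2135 b2136 (Nat.zero_le _) (Nat.le_of_ble_eq_true rfl) rfl

theorem c2137 : Block F al 0 547328 205892 :=
  block_comb c2136 b2137 (Nat.zero_le _) (Nat.le_of_ble_eq_true rfl) rfl

theorem c2138 : Block F al 0 547584 205934 :=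
  block_comb c2137 b2138 (Nat.zero_le _) (Nat.le_of_ble_eq_true rfl) rfl

theorem c2139 : Block F al 0 547840 205986 :=
  block_comb c2138 b2139 (Nat.zero_le _) (Nat.le_of_ble_eq_true rfl) rfl

theorem c2140 : Block F al 0 548096 206059 :=
  block_comb c2139 b2140 (Nat.zero_le _) (Nat.le_of_ble_eq_true rfl) rfl

theorem c2141 : Block F al 0 548352 206126 :=
  block_comb c2140 b2141 (Nat.zero_le _) (Nat.le_of_ble_eq_true rfl) rfl

theorem c2142 : Block F al 0 548608 206168 :=
  block_comb c2141 b2142 (Nat.zero_le _) (Nat.le_of_ble_eq_true rfl) rfl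

theorem c2143 : Block F al 0 548864 206238 :=
  block_comb c2142 b2143 (Nat.zero_le _) (Nat.le_of_ble_eq_true rfl) rfl

theorem c2144 : Block F al 0 549120 206312 :=
  block_comb c2143 b2144 (Nat.zero_le _) (Nat.le_of_ble_eq_true rfl) rfl

theorem c2145 : Block F al 0 549376 206392 :=
  block_comb c2144 b2145 (Nat.zero_le _) (Nat.le_of_ble_eq_true rfl) rfl

theorem c2146 : Block F al 0 549632 206464 :=
  block_comb c2145 b2146 (Nat.zero_le _) (Nat.le_of_ble_eq_true rfl) rfl

theorem c2147 : Block F al 0 549888 206534 :=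
  block_comb c2146 b2147 (Nat.zero_le _) (Nat.le_of_ble_eq_true rfl) rfl

theorem c2148 : Block F al 0 550144 206628 :=
  block_comb c2147 b2148 (Nat.zero_le _) (Nat.le_of_ble_eq_true rfl) rfl

theorem c2149 : Block F al 0 550400 206696 :=
  block_comb c2148 b2149 (Nat.zero_le _) (Nat.le_of_ble_eq_true rfl) rfl

theorem c2150 : Block F al 0 550656 206757 :=
  block_comb c2149 b2150 (Nat.zero_le _) (Nat.le_of_ble_eq_true rfl) rfl

theorem c2151 : Block F al 0 550912 206820 :=
  block_comb c2150 b2151 (Nat.zero_le _) (Nat.le_of_ble_eq_true rfl) rfl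

theorem c2152 : Block F al 0 551168 206914 :=
  block_comb c2151 b2152 (Nat.zero_le _) (Nat.le_of_ble_eq_true rfl) rfl

theorem c2153 : Block F al 0 551424 206993 :=
  block_comb c2152 b2153 (Nat.zero_le _) (Nat.le_of_ble_eq_true rfl) rfl

theorem c2154 : Block F al 0 551680 207078 :=
  block_comb c2153 b2154 (Nat.zero_le _) (Nat.le_of_ble_eq_true rfl) rfl

theorem c2155 : Block F al 0 551936 207120 :=
  block_comb c2154 b2155 (Nat.zero_le _) (Nat.le_of_ble_eq_true rfl) rfl

theorem c2156 : Block F al 0 552192 207170 :=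
  block_comb c2155 b2156 (Nat.zero_le _) (Nat.le_of_ble_eq_true rfl) rfl

theorem c2157 : Block F al 0 552448 207228 :=
  block_comb c2156 b2157 (Nat.zero_le _) (Nat.le_of_ble_eq_true rfl) rfl

theorem c2158 : Block F al 0 552704 207285 :=
  block_comb c2157 b2158 (Nat.zero_le _) (Nat.le_of_ble_eq_true rfl) rfl

theorem c2159 : Block F al 0 552960 207378 :=
  block_comb c2158 b2159 (Nat.zero_le _) (Nat.le_of_ble_eq_true rfl) rfl

theorem c2160 : Block F al 0 553216 207418 :=
  block_comb c2159 b2160 (Nat.zero_le _) (Nat.le_of_ble_eq_true rfl) rfl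

theorem c2161 : Block F al 0 553472 207462 :=
  block_comb c2160 b2161 (Nat.zero_le _) (Nat.le_of_ble_eq_true rfl) rfl

theorem c2162 : Block F al 0 553728 207532 :=
  block_comb c2161 b2162 (Nat.zero_le _) (Nat.le_of_ble_eq_true rfl) rfl

theorem c2163 : Block F al 0 553984 207566 :=
  block_comb c2162 b2163 (Nat.zero_le _) (Nat.le_of_ble_eq_true rfl) rfl

theorem c2164 : Block F al 0 554240 207640 :=
  block_comb c2163 b2164 (Nat.zero_le _) (Nat.le_of_ble_eq_true rfl) rfl

theorem c2165 : Block F al 0 554496 207664 :=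
  block_comb c2164 b2165 (Nat.zero_le _) (Nat.le_of_ble_eq_true rfl) rfl

theorem c2166 : Block F al 0 554752 207682 :=
  block_comb c2165 b2166 (Nat.zero_le _) (Nat.le_of_ble_eq_true rfl) rfl

theorem c2167 : Block F al 0 555008 207714 :=
  block_comb c2166 b2167 (Nat.zero_le _) (Nat.le_of_ble_eq_true rfl) rfl

theorem c2168 : Block F al 0 555264 207761 :=
  block_comb c2167 b2168 (Nat.zero_le _) (Nat.le_of_ble_eq_true rfl) rfl

theorem c2169 : Block F al 0 555520 207802 :=
  block_comb c2168 b2169 (Nat.zero_le _) (Nat.le_of_ble_eq_true rfl) rfl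

theorem c2170 : Block F al 0 555776 207892 :=
  block_comb c2169 b2170 (Nat.zero_le _) (Nat.le_of_ble_eq_true rfl) rfl

theorem c2171 : Block F al 0 556032 207924 :=
  block_comb c2170 b2171 (Nat.zero_le _) (Nat.le_of_ble_eq_true rfl) rfl

theorem c2172 : Block F al 0 556288 207986 :=
  block_comb c2171 b2172 (Nat.zero_le _) (Nat.le_of_ble_eq_true rfl) rfl

theorem c2173 : Block F al 0 556544 208059 :=
  block_comb c2172 b2173 (Nat.zero_le _) (Nat.le_of_ble_eq_true rfl) rfl

theorem c2174 : Block F al 0 556800 208136 :=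
  block_comb c2173 b2174 (Nat.zero_le _) (Nat.le_of_ble_eq_true rfl) rfl

theorem c2175 : Block F al 0 557056 208212 :=
  block_comb c2174 b2175 (Nat.zero_le _) (Nat.le_of_ble_eq_true rfl) rfl

theorem c2176 : Block F al 0 557312 208314 :=
  block_comb c2175 b2176 (Nat.zero_le _) (Nat.le_of_ble_eq_true rfl) rfl

theorem c2177 : Block F al 0 557568 208370 :=
  block_comb c2176 b2177 (Nat.zero_le _) (Nat.le_of_ble_eq_true rfl) rfl

theorem c2178 : Block F al 0 557824 208448 :=
  block_comb c2177 b2178 (Nat.zero_le _) (Nat.le_of_ble_eq_true rfl) rfl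

theorem c2179 : Block F al 0 558080 208521 :=
  block_comb c2178 b2179 (Nat.zero_le _) (Nat.le_of_ble_eq_true rfl) rfl

theorem c2180 : Block F al 0 558336 208612 :=
  block_comb c2179 b2180 (Nat.zero_le _) (Nat.le_of_ble_eq_true rfl) rfl

theorem c2181 : Block F al 0 558592 208692 :=
  block_comb c2180 b2181 (Nat.zero_le _) (Nat.le_of_ble_eq_true rfl) rfl

theorem c2182 : Block F al 0 558848 208754 :=
  block_comb c2181 b2182 (Nat.zero_le _) (Nat.le_of_ble_eq_true rfl) rfl

theorem c2183 : Block F al 0 559104 208783 :=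
  block_comb c2182 b2183 (Nat.zero_le _) (Nat.le_of_ble_eq_true rfl) rfl

theorem c2184 : Block F al 0 559360 208840 :=
  block_comb c2183 b2184 (Nat.zero_le _) (Nat.le_of_ble_eq_true rfl) rfl

theorem c2185 : Block F al 0 559616 208878 :=
  block_comb c2184 b2185 (Nat.zero_le _) (Nat.le_of_ble_eq_true rfl) rfl

theorem c2186 : Block F al 0 559872 208908 :=
  block_comb c2185 b2186 (Nat.zero_le _) (Nat.le_of_ble_eq_true rfl) rfl

theorem c2187 : Block F al 0 560128 208982 :=
  block_comb c2186 b2187 (Nat.zero_le _) (Nat.le_of_ble_eq_true rfl) rfl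

theorem c2188 : Block F al 0 560384 209042 :=
  block_comb c2187 b2188 (Nat.zero_le _) (Nat.le_of_ble_eq_true rfl) rfl

theorem c2189 : Block F al 0 560640 209120 :=
  block_comb c2188 b2189 (Nat.zero_le _) (Nat.le_of_ble_eq_true rfl) rfl

theorem c2190 : Block F al 0 560896 209167 :=
  block_comb c2189 b2190 (Nat.zero_le _) (Nat.le_of_ble_eq_true rfl) rfl

theorem c2191 : Block F al 0 561152 209220 :=
  block_comb c2190 b2191 (Nat.zero_le _) (Nat.le_of_ble_eq_true rfl) rfl

theorem c2192 : Block F al 0 561408 209265 :=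
  block_comb c2191 b2192 (Nat.zero_le _) (Nat.le_of_ble_eq_true rfl) rfl

theorem c2193 : Block F al 0 561664 209327 :=
  block_comb c2192 b2193 (Nat.zero_le _) (Nat.le_of_ble_eq_true rfl) rfl

theorem c2194 : Block F al 0 561920 209394 :=
  block_comb c2193 b2194 (Nat.zero_le _) (Nat.le_of_ble_eq_true rfl) rfl

theorem c2195 : Block F al 0 562176 209458 :=
  block_comb c2194 b2195 (Nat.zero_le _) (Nat.le_of_ble_eq_true rfl) rfl

theorem c2196 : Block F al 0 562432 209502 :=
  block_comb c2195 b2196 (Nat.zero_le _) (Nat.le_of_ble_eq_true rfl) rfl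

theorem c2197 : Block F al 0 562688 209542 :=
  block_comb c2196 b2197 (Nat.zero_le _) (Nat.le_of_ble_eq_true rfl) rfl

theorem c2198 : Block F al 0 562944 209604 :=
  block_comb c2197 b2198 (Nat.zero_le _) (Nat.le_of_ble_eq_true rfl) rfl

theorem c2199 : Block F al 0 563200 209672 :=
  block_comb c2198 b2199 (Nat.zero_le _) (Nat.le_of_ble_eq_true rfl) rfl

theorem c2200 : Block F al 0 563456 209732 :=
  block_comb c2199 b2200 (Nat.zero_le _) (Nat.le_of_ble_eq_true rfl) rfl

theorem c2201 : Block F al 0 563712 209790 :=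
  block_comb c2200 b2201 (Nat.zero_le _) (Nat.le_of_ble_eq_true rfl) rfl

theorem c2202 : Block F al 0 563968 209872 :=
  block_comb c2201 b2202 (Nat.zero_le _) (Nat.le_of_ble_eq_true rfl) rfl

theorem c2203 : Block F al 0 564224 209926 :=
  block_comb c2202 b2203 (Nat.zero_le _) (Nat.le_of_ble_eq_true rfl) rfl

theorem c2204 : Block F al 0 564480 210004 :=
  block_comb c2203 b2204 (Nat.zero_le _) (Nat.le_of_ble_eq_true rfl) rfl

theorem c2205 : Block F al 0 564736 210072 :=
  block_comb c2204 b2205 (Nat.zero_le _) (Nat.le_of_ble_eq_true rfl) rfl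

theorem c2206 : Block F al 0 564992 210110 :=
  block_comb c2205 b2206 (Nat.zero_le _) (Nat.le_of_ble_eq_true rfl) rfl

theorem c2207 : Block F al 0 565248 210160 :=
  block_comb c2206 b2207 (Nat.zero_le _) (Nat.le_of_ble_eq_true rfl) rfl

theorem c2208 : Block F al 0 565504 210192 :=
  block_comb c2207 b2208 (Nat.zero_le _) (Nat.le_of_ble_eq_true rfl) rfl

theorem c2209 : Block F al 0 565760 210231 :=
  block_comb c2208 b2209 (Nat.zero_le _) (Nat.le_of_ble_eq_true rfl) rfl

theorem c2210 : Block F al 0 566016 210276 :=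
  block_comb c2209 b2210 (Nat.zero_le _) (Nat.le_of_ble_eq_true rfl) rfl

theorem c2211 : Block F al 0 566272 210337 :=
  block_comb c2210 b2211 (Nat.zero_le _) (Nat.le_of_ble_eq_true rfl) rfl

theorem c2212 : Block F al 0 566528 210364 :=
  block_comb c2211 b2212 (Nat.zero_le _) (Nat.le_of_ble_eq_true rfl) rfl

theorem c2213 : Block F al 0 566784 210400 :=
  block_comb c2212 b2213 (Nat.zero_le _) (Nat.le_of_ble_eq_true rfl) rfl

theorem c2214 : Block F al 0 567040 210466 :=
  block_comb c2213 b2214 (Nat.zero_le _) (Nat.le_of_ble_eq_true rfl) rfl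

theorem c2215 : Block F al 0 567296 210536 :=
  block_comb c2214 b2215 (Nat.zero_le _) (Nat.le_of_ble_eq_true rfl) rfl

theorem c2216 : Block F al 0 567552 210630 :=
  block_comb c2215 b2216 (Nat.zero_le _) (Nat.le_of_ble_eq_true rfl) rfl

theorem c2217 : Block F al 0 567808 210706 :=
  block_comb c2216 b2217 (Nat.zero_le _) (Nat.le_of_ble_eq_true rfl) rfl

theorem c2218 : Block F al 0 568064 210765 :=
  block_comb c2217 b2218 (Nat.zero_le _) (Nat.le_of_ble_eq_true rfl) rfl

theorem c2219 : Block F al 0 568320 210834 :=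
  block_comb c2218 b2219 (Nat.zero_le _) (Nat.le_of_ble_eq_true rfl) rfl

theorem c2220 : Block F al 0 568576 210904 :=
  block_comb c2219 b2220 (Nat.zero_le _) (Nat.le_of_ble_eq_true rfl) rfl

theorem c2221 : Block F al 0 568832 210956 :=
  block_comb c2220 b2221 (Nat.zero_le _) (Nat.le_of_ble_eq_true rfl) rfl

theorem c2222 : Block F al 0 569088 211040 :=
  block_comb c2221 b2222 (Nat.zero_le _) (Nat.le_of_ble_eq_true rfl) rfl

theorem c2223 : Block F al 0 569344 211138 :=
  block_comb c2222 b2223 (Nat.zero_le _) (Nat.le_of_ble_eq_true rfl) rfl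

theorem c2224 : Block F al 0 569600 211192 :=
  block_comb c2223 b2224 (Nat.zero_le _) (Nat.le_of_ble_eq_true rfl) rfl

theorem c2225 : Block F al 0 569856 211222 :=
  block_comb c2224 b2225 (Nat.zero_le _) (Nat.le_of_ble_eq_true rfl) rfl

theorem c2226 : Block F al 0 570112 211238 :=
  block_comb c2225 b2226 (Nat.zero_le _) (Nat.le_of_ble_eq_true rfl) rfl

theorem c2227 : Block F al 0 570368 211284 :=
  block_comb c2226 b2227 (Nat.zero_le _) (Nat.le_of_ble_eq_true rfl) rfl

theorem c2228 : Block F al 0 570624 211314 :=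
  block_comb c2227 b2228 (Nat.zero_le _) (Nat.le_of_ble_eq_true rfl) rfl

theorem c2229 : Block F al 0 570880 211346 :=
  block_comb c2228 b2229 (Nat.zero_le _) (Nat.le_of_ble_eq_true rfl) rfl

theorem c2230 : Block F al 0 571136 211406 :=
  block_comb c2229 b2230 (Nat.zero_le _) (Nat.le_of_ble_eq_true rfl) rfl

theorem c2231 : Block F al 0 571392 211480 :=
  block_comb c2230 b2231 (Nat.zero_le _) (Nat.le_of_ble_eq_true rfl) rfl

theorem c2232 : Block F al 0 571648 211568 :=
  block_comb c2231 b2232 (Nat.zero_le _) (Nat.le_of_ble_eq_true rfl) rfl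

theorem c2233 : Block F al 0 571904 211650 :=
  block_comb c2232 b2233 (Nat.zero_le _) (Nat.le_of_ble_eq_true rfl) rfl

theorem c2234 : Block F al 0 572160 211745 :=
  block_comb c2233 b2234 (Nat.zero_le _) (Nat.le_of_ble_eq_true rfl) rfl

theorem c2235 : Block F al 0 572416 211810 :=
  block_comb c2234 b2235 (Nat.zero_le _) (Nat.le_of_ble_eq_true rfl) rfl

theorem c2236 : Block F al 0 572672 211842 :=
  block_comb c2235 b2236 (Nat.zero_le _) (Nat.le_of_ble_eq_true rfl) rfl

theorem c2237 : Block F al 0 572928 211902 :=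
  block_comb c2236 b2237 (Nat.zero_le _) (Nat.le_of_ble_eq_true rfl) rfl

theorem c2238 : Block F al 0 573184 211972 :=
  block_comb c2237 b2238 (Nat.zero_le _) (Nat.le_of_ble_eq_true rfl) rfl

theorem c2239 : Block F al 0 573440 212028 :=
  block_comb c2238 b2239 (Nat.zero_le _) (Nat.le_of_ble_eq_true rfl) rfl

theorem c2240 : Block F al 0 573696 212062 :=
  block_comb c2239 b2240 (Nat.zero_le _) (Nat.le_of_ble_eq_true rfl) rfl

theorem c2241 : Block F al 0 573952 212122 :=
  block_comb c2240 b2241 (Nat.zero_le _) (Nat.le_of_ble_eq_true rfl) rfl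

theorem c2242 : Block F al 0 574208 212177 :=
  block_comb c2241 b2242 (Nat.zero_le _) (Nat.le_of_ble_eq_true rfl) rfl

theorem c2243 : Block F al 0 574464 212212 :=
  block_comb c2242 b2243 (Nat.zero_le _) (Nat.le_of_ble_eq_true rfl) rfl

theorem c2244 : Block F al 0 574720 212268 :=
  block_comb c2243 b2244 (Nat.zero_le _) (Nat.le_of_ble_eq_true rfl) rfl

theorem c2245 : Block F al 0 574976 212328 :=
  block_comb c2244 b2245 (Nat.zero_le _) (Nat.le_of_ble_eq_true rfl) rfl

theorem c2246 : Block F al 0 575232 212370 :=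
  block_comb c2245 b2246 (Nat.zero_le _) (Nat.le_of_ble_eq_true rfl) rfl

theorem c2247 : Block F al 0 575488 212404 :=
  block_comb c2246 b2247 (Nat.zero_le _) (Nat.le_of_ble_eq_true rfl) rfl

theorem c2248 : Block F al 0 575744 212424 :=
  block_comb c2247 b2248 (Nat.zero_le _) (Nat.le_of_ble_eq_true rfl) rfl

theorem c2249 : Block F al 0 576000 212490 :=
  block_comb c2248 b2249 (Nat.zero_le _) (Nat.le_of_ble_eq_true rfl) rfl

theorem c2250 : Block F al 0 576256 212534 :=
  block_comb c2249 b2250 (Nat.zero_le _) (Nat.le_of_ble_eq_true rfl) rfl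

theorem c2251 : Block F al 0 576512 212574 :=
  block_comb c2250 b2251 (Nat.zero_le _) (Nat.le_of_ble_eq_true rfl) rfl

theorem c2252 : Block F al 0 576768 212626 :=
  block_comb c2251 b2252 (Nat.zero_le _) (Nat.le_of_ble_eq_true rfl) rfl

theorem c2253 : Block F al 0 577024 212689 :=
  block_comb c2252 b2253 (Nat.zero_le _) (Nat.le_of_ble_eq_true rfl) rfl

theorem c2254 : Block F al 0 577280 212744 :=
  block_comb c2253 b2254 (Nat.zero_le _) (Nat.le_of_ble_eq_true rfl) rfl

theorem c2255 : Block F al 0 577536 212814 :=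
  block_comb c2254 b2255 (Nat.zero_le _) (Nat.le_of_ble_eq_true rfl) rfl

theorem c2256 : Block F al 0 577792 212860 :=
  block_comb c2255 b2256 (Nat.zero_le _) (Nat.le_of_ble_eq_true rfl) rfl

theorem c2257 : Block F al 0 578048 212914 :=
  block_comb c2256 b2257 (Nat.zero_le _) (Nat.le_of_ble_eq_true rfl) rfl

theorem c2258 : Block F al 0 578304 212934 :=
  block_comb c2257 b2258 (Nat.zero_le _) (Nat.le_of_ble_eq_true rfl) rfl

theorem c2259 : Block F al 0 578560 212985 :=
  block_comb c2258 b2259 (Nat.zero_le _) (Nat.le_of_ble_eq_true rfl) rfl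

theorem c2260 : Block F al 0 578816 213072 :=
  block_comb c2259 b2260 (Nat.zero_le _) (Nat.le_of_ble_eq_true rfl) rfl

theorem c2261 : Block F al 0 579072 213132 :=
  block_comb c2260 b2261 (Nat.zero_le _) (Nat.le_of_ble_eq_true rfl) rfl

theorem c2262 : Block F al 0 579328 213178 :=
  block_comb c2261 b2262 (Nat.zero_le _) (Nat.le_of_ble_eq_true rfl) rfl

theorem c2263 : Block F al 0 579584 213232 :=
  block_comb c2262 b2263 (Nat.zero_le _) (Nat.le_of_ble_eq_true rfl) rfl

theorem c2264 : Block F al 0 579840 213290 :=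
  block_comb c2263 b2264 (Nat.zero_le _) (Nat.le_of_ble_eq_true rfl) rfl

theorem c2265 : Block F al 0 580096 213336 :=
  block_comb c2264 b2265 (Nat.zero_le _) (Nat.le_of_ble_eq_true rfl) rfl

theorem c2266 : Block F al 0 580352 213360 :=
  block_comb c2265 b2266 (Nat.zero_le _) (Nat.le_of_ble_eq_true rfl) rfl

theorem c2267 : Block F al 0 580608 213396 :=
  block_comb c2266 b2267 (Nat.zero_le _) (Nat.le_of_ble_eq_true rfl) rfl

theorem c2268 : Block F al 0 580864 213467 :=
  block_comb c2267 b2268 (Nat.zero_le _) (Nat.le_of_ble_eq_true rfl) rfl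

theorem c2269 : Block F al 0 581120 213540 :=
  block_comb c2268 b2269 (Nat.zero_le _) (Nat.le_of_ble_eq_true rfl) rfl

theorem c2270 : Block F al 0 581376 213610 :=
  block_comb c2269 b2270 (Nat.zero_le _) (Nat.le_of_ble_eq_true rfl) rfl

theorem c2271 : Block F al 0 581632 213648 :=
  block_comb c2270 b2271 (Nat.zero_le _) (Nat.le_of_ble_eq_true rfl) rfl

theorem c2272 : Block F al 0 581888 213733 :=
  block_comb c2271 b2272 (Nat.zero_le _) (Nat.le_of_ble_eq_true rfl) rfl

theorem c2273 : Block F al 0 582144 213794 :=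
  block_comb c2272 b2273 (Nat.zero_le _) (Nat.le_of_ble_eq_true rfl) rfl

theorem c2274 : Block F al 0 582400 213848 :=
  block_comb c2273 b2274 (Nat.zero_le _) (Nat.le_of_ble_eq_true rfl) rfl

theorem c2275 : Block F al 0 582656 213902 :=
  block_comb c2274 b2275 (Nat.zero_le _) (Nat.le_of_ble_eq_true rfl) rfl

theorem c2276 : Block F al 0 582912 213953 :=
  block_comb c2275 b2276 (Nat.zero_le _) (Nat.le_of_ble_eq_true rfl) rfl

theorem c2277 : Block F al 0 583168 214005 :=
  block_comb c2276 b2277 (Nat.zero_le _) (Nat.le_of_ble_eq_true rfl) rfl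

theorem c2278 : Block F al 0 583424 214048 :=
  block_comb c2277 b2278 (Nat.zero_le _) (Nat.le_of_ble_eq_true rfl) rfl

theorem c2279 : Block F al 0 583680 214082 :=
  block_comb c2278 b2279 (Nat.zero_le _) (Nat.le_of_ble_eq_true rfl) rfl

theorem c2280 : Block F al 0 583936 214147 :=
  block_comb c2279 b2280 (Nat.zero_le _) (Nat.le_of_ble_eq_true rfl) rfl

theorem c2281 : Block F al 0 584192 214218 :=
  block_comb c2280 b2281 (Nat.zero_le _) (Nat.le_of_ble_eq_true rfl) rfl

theorem c2282 : Block F al 0 584448 214278 :=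
  block_comb c2281 b2282 (Nat.zero_le _) (Nat.le_of_ble_eq_true rfl) rfl

theorem c2283 : Block F al 0 584704 214326 :=
  block_comb c2282 b2283 (Nat.zero_le _) (Nat.le_of_ble_eq_true rfl) rfl

theorem c2284 : Block F al 0 584960 214410 :=
  block_comb c2283 b2284 (Nat.zero_le _) (Nat.le_of_ble_eq_true rfl) rfl

theorem c2285 : Block F al 0 585216 214450 :=
  block_comb c2284 b2285 (Nat.zero_le _) (Nat.le_of_ble_eq_true rfl) rfl

theorem c2286 : Block F al 0 585472 214521 :=
  block_comb c2285 b2286 (Nat.zero_le _) (Nat.le_of_ble_eq_true rfl) rfl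

theorem c2287 : Block F al 0 585728 214576 :=
  block_comb c2286 b2287 (Nat.zero_le _) (Nat.le_of_ble_eq_true rfl) rfl

theorem c2288 : Block F al 0 585984 214604 :=
  block_comb c2287 b2288 (Nat.zero_le _) (Nat.le_of_ble_eq_true rfl) rfl

theorem c2289 : Block F al 0 586240 214666 :=
  block_comb c2288 b2289 (Nat.zero_le _) (Nat.le_of_ble_eq_true rfl) rfl

theorem c2290 : Block F al 0 586496 214711 :=
  block_comb c2289 b2290 (Nat.zero_le _) (Nat.le_of_ble_eq_true rfl) rfl

theorem c2291 : Block F al 0 586752 214730 :=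
  block_comb c2290 b2291 (Nat.zero_le _) (Nat.le_of_ble_eq_true rfl) rfl

theorem c2292 : Block F al 0 587008 214788 :=
  block_comb c2291 b2292 (Nat.zero_le _) (Nat.le_of_ble_eq_true rfl) rfl

theorem c2293 : Block F al 0 587264 214846 :=
  block_comb c2292 b2293 (Nat.zero_le _) (Nat.le_of_ble_eq_true rfl) rfl

theorem c2294 : Block F al 0 587520 214880 :=
  block_comb c2293 b2294 (Nat.zero_le _) (Nat.le_of_ble_eq_true rfl) rfl

theorem c2295 : Block F al 0 587776 214916 :=
  block_comb c2294 b2295 (Nat.zero_le _) (Nat.le_of_ble_eq_true rfl) rfl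

theorem c2296 : Block F al 0 588032 214962 :=
  block_comb c2295 b2296 (Nat.zero_le _) (Nat.le_of_ble_eq_true rfl) rfl

theorem c2297 : Block F al 0 588288 214984 :=
  block_comb c2296 b2297 (Nat.zero_le _) (Nat.le_of_ble_eq_true rfl) rfl

theorem c2298 : Block F al 0 588544 215015 :=
  block_comb c2297 b2298 (Nat.zero_le _) (Nat.le_of_ble_eq_true rfl) rfl

theorem c2299 : Block F al 0 588800 215066 :=
  block_comb c2298 b2299 (Nat.zero_le _) (Nat.le_of_ble_eq_true rfl) rfl

theorem c2300 : Block F al 0 589056 215122 :=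
  block_comb c2299 b2300 (Nat.zero_le _) (Nat.le_of_ble_eq_true rfl) rfl

theorem c2301 : Block F al 0 589312 215188 :=
  block_comb c2300 b2301 (Nat.zero_le _) (Nat.le_of_ble_eq_true rfl) rfl

theorem c2302 : Block F al 0 589568 215286 :=
  block_comb c2301 b2302 (Nat.zero_le _) (Nat.le_of_ble_eq_true rfl) rfl

theorem c2303 : Block F al 0 589824 215340 :=
  block_comb c2302 b2303 (Nat.zero_le _) (Nat.le_of_ble_eq_true rfl) rfl

theorem c2304 : Block F al 0 590080 215404 :=
  block_comb c2303 b2304 (Nat.zero_le _) (Nat.le_of_ble_eq_true rfl) rfl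

theorem c2305 : Block F al 0 590336 215468 :=
  block_comb c2304 b2305 (Nat.zero_le _) (Nat.le_of_ble_eq_true rfl) rfl

theorem c2306 : Block F al 0 590592 215550 :=
  block_comb c2305 b2306 (Nat.zero_le _) (Nat.le_of_ble_eq_true rfl) rfl

theorem c2307 : Block F al 0 590848 215578 :=
  block_comb c2306 b2307 (Nat.zero_le _) (Nat.le_of_ble_eq_true rfl) rfl

theorem c2308 : Block F al 0 591104 215630 :=
  block_comb c2307 b2308 (Nat.zero_le _) (Nat.le_of_ble_eq_true rfl) rfl

theorem c2309 : Block F al 0 591360 215664 :=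
  block_comb c2308 b2309 (Nat.zero_le _) (Nat.le_of_ble_eq_true rfl) rfl

theorem c2310 : Block F al 0 591616 215679 :=
  block_comb c2309 b2310 (Nat.zero_le _) (Nat.le_of_ble_eq_true rfl) rfl

theorem c2311 : Block F al 0 591872 215710 :=
  block_comb c2310 b2311 (Nat.zero_le _) (Nat.le_of_ble_eq_true rfl) rfl

theorem c2312 : Block F al 0 592128 215736 :=
  block_comb c2311 b2312 (Nat.zero_le _) (Nat.le_of_ble_eq_true rfl) rfl

theorem c2313 : Block F al 0 592384 215765 :=
  block_comb c2312 b2313 (Nat.zero_le _) (Nat.le_of_ble_eq_true rfl) rfl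

theorem c2314 : Block F al 0 592640 215823 :=
  block_comb c2313 b2314 (Nat.zero_le _) (Nat.le_of_ble_eq_true rfl) rfl

theorem c2315 : Block F al 0 592896 215900 :=
  block_comb c2314 b2315 (Nat.zero_le _) (Nat.le_of_ble_eq_true rfl) rfl

theorem c2316 : Block F al 0 593152 215948 :=
  block_comb c2315 b2316 (Nat.zero_le _) (Nat.le_of_ble_eq_true rfl) rfl

theorem c2317 : Block F al 0 593408 215985 :=
  block_comb c2316 b2317 (Nat.zero_le _) (Nat.le_of_ble_eq_true rfl) rfl

theorem c2318 : Block F al 0 593664 216034 :=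
  block_comb c2317 b2318 (Nat.zero_le _) (Nat.le_of_ble_eq_true rfl) rfl

theorem c2319 : Block F al 0 593920 216092 :=
  block_comb c2318 b2319 (Nat.zero_le _) (Nat.le_of_ble_eq_true rfl) rfl

theorem c2320 : Block F al 0 594176 216136 :=
  block_comb c2319 b2320 (Nat.zero_le _) (Nat.le_of_ble_eq_true rfl) rfl

theorem c2321 : Block F al 0 594432 216174 :=
  block_comb c2320 b2321 (Nat.zero_le _) (Nat.le_of_ble_eq_true rfl) rfl

theorem c2322 : Block F al 0 594688 216234 :=
  block_comb c2321 b2322 (Nat.zero_le _) (Nat.le_of_ble_eq_true rfl) rfl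

theorem c2323 : Block F al 0 594944 216299 :=
  block_comb c2322 b2323 (Nat.zero_le _) (Nat.le_of_ble_eq_true rfl) rfl

theorem c2324 : Block F al 0 595200 216338 :=
  block_comb c2323 b2324 (Nat.zero_le _) (Nat.le_of_ble_eq_true rfl) rfl

theorem c2325 : Block F al 0 595456 216362 :=
  block_comb c2324 b2325 (Nat.zero_le _) (Nat.le_of_ble_eq_true rfl) rfl

theorem c2326 : Block F al 0 595712 216395 :=
  block_comb c2325 b2326 (Nat.zero_le _) (Nat.le_of_ble_eq_true rfl) rfl

theorem c2327 : Block F al 0 595968 216417 :=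
  block_comb c2326 b2327 (Nat.zero_le _) (Nat.le_of_ble_eq_true rfl) rfl

theorem c2328 : Block F al 0 596224 216471 :=
  block_comb c2327 b2328 (Nat.zero_le _) (Nat.le_of_ble_eq_true rfl) rfl

theorem c2329 : Block F al 0 596480 216546 :=
  block_comb c2328 b2329 (Nat.zero_le _) (Nat.le_of_ble_eq_true rfl) rfl

theorem c2330 : Block F al 0 596736 216572 :=
  block_comb c2329 b2330 (Nat.zero_le _) (Nat.le_of_ble_eq_true rfl) rfl

theorem c2331 : Block F al 0 596992 216648 :=
  block_comb c2330 b2331 (Nat.zero_le _) (Nat.le_of_ble_eq_true rfl) rfl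

theorem c2332 : Block F al 0 597248 216728 :=
  block_comb c2331 b2332 (Nat.zero_le _) (Nat.le_of_ble_eq_true rfl) rfl

theorem c2333 : Block F al 0 597504 216770 :=
  block_comb c2332 b2333 (Nat.zero_le _) (Nat.le_of_ble_eq_true rfl) rfl

theorem c2334 : Block F al 0 597760 216864 :=
  block_comb c2333 b2334 (Nat.zero_le _) (Nat.le_of_ble_eq_true rfl) rfl

theorem c2335 : Block F al 0 598016 216926 :=
  block_comb c2334 b2335 (Nat.zero_le _) (Nat.le_of_ble_eq_true rfl) rfl

theorem c2336 : Block F al 0 598272 216994 :=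
  block_comb c2335 b2336 (Nat.zero_le _) (Nat.le_of_ble_eq_true rfl) rfl

theorem c2337 : Block F al 0 598528 217046 :=
  block_comb c2336 b2337 (Nat.zero_le _) (Nat.le_of_ble_eq_true rfl) rfl

theorem c2338 : Block F al 0 598784 217109 :=
  block_comb c2337 b2338 (Nat.zero_le _) (Nat.le_of_ble_eq_true rfl) rfl

theorem c2339 : Block F al 0 599040 217158 :=
  block_comb c2338 b2339 (Nat.zero_le _) (Nat.le_of_ble_eq_true rfl) rfl

theorem c2340 : Block F al 0 599296 217182 :=
  block_comb c2339 b2340 (Nat.zero_le _) (Nat.le_of_ble_eq_true rfl) rfl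

theorem c2341 : Block F al 0 599552 217194 :=
  block_comb c2340 b2341 (Nat.zero_le _) (Nat.le_of_ble_eq_true rfl) rfl

theorem c2342 : Block F al 0 599808 217259 :=
  block_comb c2341 b2342 (Nat.zero_le _) (Nat.le_of_ble_eq_true rfl) rfl

theorem c2343 : Block F al 0 600064 217316 :=
  block_comb c2342 b2343 (Nat.zero_le _) (Nat.le_of_ble_eq_true rfl) rfl

theorem c2344 : Block F al 0 600320 217336 :=
  block_comb c2343 b2344 (Nat.zero_le _) (Nat.le_of_ble_eq_true rfl) rfl

theorem c2345 : Block F al 0 600576 217398 :=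
  block_comb c2344 b2345 (Nat.zero_le _) (Nat.le_of_ble_eq_true rfl) rfl

theorem c2346 : Block F al 0 600832 217472 :=
  block_comb c2345 b2346 (Nat.zero_le _) (Nat.le_of_ble_eq_true rfl) rfl

theorem c2347 : Block F al 0 601088 217500 :=
  block_comb c2346 b2347 (Nat.zero_le _) (Nat.le_of_ble_eq_true rfl) rfl

theorem c2348 : Block F al 0 601344 217544 :=
  block_comb c2347 b2348 (Nat.zero_le _) (Nat.le_of_ble_eq_true rfl) rfl

theorem c2349 : Block F al 0 601600 217594 :=
  block_comb c2348 b2349 (Nat.zero_le _) (Nat.le_of_ble_eq_true rfl) rfl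

theorem c2350 : Block F al 0 601856 217632 :=
  block_comb c2349 b2350 (Nat.zero_le _) (Nat.le_of_ble_eq_true rfl) rfl

theorem c2351 : Block F al 0 602112 217690 :=
  block_comb c2350 b2351 (Nat.zero_le _) (Nat.le_of_ble_eq_true rfl) rfl

theorem c2352 : Block F al 0 602368 217764 :=
  block_comb c2351 b2352 (Nat.zero_le _) (Nat.le_of_ble_eq_true rfl) rfl

theorem c2353 : Block F al 0 602624 217806 :=
  block_comb c2352 b2353 (Nat.zero_le _) (Nat.le_of_ble_eq_true rfl) rfl

theorem c2354 : Block F al 0 602880 217854 :=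
  block_comb c2353 b2354 (Nat.zero_le _) (Nat.le_of_ble_eq_true rfl) rfl

theorem c2355 : Block F al 0 603136 217896 :=
  block_comb c2354 b2355 (Nat.zero_le _) (Nat.le_of_ble_eq_true rfl) rfl

theorem c2356 : Block F al 0 603392 217950 :=
  block_comb c2355 b2356 (Nat.zero_le _) (Nat.le_of_ble_eq_true rfl) rfl

theorem c2357 : Block F al 0 603648 218000 :=
  block_comb c2356 b2357 (Nat.zero_le _) (Nat.le_of_ble_eq_true rfl) rfl

theorem c2358 : Block F al 0 603904 218046 :=
  block_comb c2357 b2358 (Nat.zero_le _) (Nat.le_of_ble_eq_true rfl) rfl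

theorem c2359 : Block F al 0 604160 218082 :=
  block_comb c2358 b2359 (Nat.zero_le _) (Nat.le_of_ble_eq_true rfl) rfl

theorem c2360 : Block F al 0 604416 218112 :=
  block_comb c2359 b2360 (Nat.zero_le _) (Nat.le_of_ble_eq_true rfl) rfl

theorem c2361 : Block F al 0 604672 218168 :=
  block_comb c2360 b2361 (Nat.zero_le _) (Nat.le_of_ble_eq_true rfl) rfl

theorem c2362 : Block F al 0 604928 218220 :=
  block_comb c2361 b2362 (Nat.zero_le _) (Nat.le_of_ble_eq_true rfl) rfl

theorem c2363 : Block F al 0 605184 218258 :=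
  block_comb c2362 b2363 (Nat.zero_le _) (Nat.le_of_ble_eq_true rfl) rfl

theorem c2364 : Block F al 0 605440 218290 :=
  block_comb c2363 b2364 (Nat.zero_le _) (Nat.le_of_ble_eq_true rfl) rfl

theorem c2365 : Block F al 0 605696 218318 :=
  block_comb c2364 b2365 (Nat.zero_le _) (Nat.le_of_ble_eq_true rfl) rfl

theorem c2366 : Block F al 0 605952 218348 :=
  block_comb c2365 b2366 (Nat.zero_le _) (Nat.le_of_ble_eq_true rfl) rfl

theorem c2367 : Block F al 0 606208 218389 :=
  block_comb c2366 b2367 (Nat.zero_le _) (Nat.le_of_ble_eq_true rfl) rfl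

theorem c2368 : Block F al 0 606464 218438 :=
  block_comb c2367 b2368 (Nat.zero_le _) (Nat.le_of_ble_eq_true rfl) rfl

theorem c2369 : Block F al 0 606720 218498 :=
  block_comb c2368 b2369 (Nat.zero_le _) (Nat.le_of_ble_eq_true rfl) rfl

theorem c2370 : Block F al 0 606976 218537 :=
  block_comb c2369 b2370 (Nat.zero_le _) (Nat.le_of_ble_eq_true rfl) rfl

theorem c2371 : Block F al 0 607232 218604 :=
  block_comb c2370 b2371 (Nat.zero_le _) (Nat.le_of_ble_eq_true rfl) rfl

theorem c2372 : Block F al 0 607488 218658 :=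
  block_comb c2371 b2372 (Nat.zero_le _) (Nat.le_of_ble_eq_true rfl) rfl

theorem c2373 : Block F al 0 607744 218720 :=
  block_comb c2372 b2373 (Nat.zero_le _) (Nat.le_of_ble_eq_true rfl) rfl

theorem c2374 : Block F al 0 608000 218765 :=
  block_comb c2373 b2374 (Nat.zero_le _) (Nat.le_of_ble_eq_true rfl) rfl

theorem c2375 : Block F al 0 608256 218834 :=
  block_comb c2374 b2375 (Nat.zero_le _) (Nat.le_of_ble_eq_true rfl) rfl

theorem c2376 : Block F al 0 608512 218867 :=
  block_comb c2375 b2376 (Nat.zero_le _) (Nat.le_of_ble_eq_true rfl) rfl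

theorem c2377 : Block F al 0 608768 218914 :=
  block_comb c2376 b2377 (Nat.zero_le _) (Nat.le_of_ble_eq_true rfl) rfl

theorem c2378 : Block F al 0 609024 218938 :=
  block_comb c2377 b2378 (Nat.zero_le _) (Nat.le_of_ble_eq_true rfl) rfl

theorem c2379 : Block F al 0 609280 218964 :=
  block_comb c2378 b2379 (Nat.zero_le _) (Nat.le_of_ble_eq_true rfl) rfl

theorem c2380 : Block F al 0 609536 218988 :=
  block_comb c2379 b2380 (Nat.zero_le _) (Nat.le_of_ble_eq_true rfl) rfl

theorem c2381 : Block F al 0 609792 219046 :=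
  block_comb c2380 b2381 (Nat.zero_le _) (Nat.le_of_ble_eq_true rfl) rfl

theorem c2382 : Block F al 0 610048 219074 :=
  block_comb c2381 b2382 (Nat.zero_le _) (Nat.le_of_ble_eq_true rfl) rfl

theorem c2383 : Block F al 0 610304 219090 :=
  block_comb c2382 b2383 (Nat.zero_le _) (Nat.le_of_ble_eq_true rfl) rfl

theorem c2384 : Block F al 0 610560 219120 :=
  block_comb c2383 b2384 (Nat.zero_le _) (Nat.le_of_ble_eq_true rfl) rfl

theorem c2385 : Block F al 0 610816 219170 :=
  block_comb c2384 b2385 (Nat.zero_le _) (Nat.le_of_ble_eq_true rfl) rfl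

theorem c2386 : Block F al 0 611072 219226 :=
  block_comb c2385 b2386 (Nat.zero_le _) (Nat.le_of_ble_eq_true rfl) rfl

theorem c2387 : Block F al 0 611328 219272 :=
  block_comb c2386 b2387 (Nat.zero_le _) (Nat.le_of_ble_eq_true rfl) rfl

theorem c2388 : Block F al 0 611584 219316 :=
  block_comb c2387 b2388 (Nat.zero_le _) (Nat.le_of_ble_eq_true rfl) rfl

theorem c2389 : Block F al 0 611840 219346 :=
  block_comb c2388 b2389 (Nat.zero_le _) (Nat.le_of_ble_eq_true rfl) rfl

theorem c2390 : Block F al 0 612096 219364 :=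
  block_comb c2389 b2390 (Nat.zero_le _) (Nat.le_of_ble_eq_true rfl) rfl

theorem c2391 : Block F al 0 612352 219412 :=
  block_comb c2390 b2391 (Nat.zero_le _) (Nat.le_of_ble_eq_true rfl) rfl

theorem c2392 : Block F al 0 612608 219442 :=
  block_comb c2391 b2392 (Nat.zero_le _) (Nat.le_of_ble_eq_true rfl) rfl

theorem c2393 : Block F al 0 612864 219485 :=
  block_comb c2392 b2393 (Nat.zero_le _) (Nat.le_of_ble_eq_true rfl) rfl

theorem c2394 : Block F al 0 613120 219518 :=
  block_comb c2393 b2394 (Nat.zero_le _) (Nat.le_of_ble_eq_true rfl) rfl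

theorem c2395 : Block F al 0 613376 219545 :=
  block_comb c2394 b2395 (Nat.zero_le _) (Nat.le_of_ble_eq_true rfl) rfl

theorem c2396 : Block F al 0 613632 219606 :=
  block_comb c2395 b2396 (Nat.zero_le _) (Nat.le_of_ble_eq_true rfl) rfl

theorem c2397 : Block F al 0 613888 219624 :=
  block_comb c2396 b2397 (Nat.zero_le _) (Nat.le_of_ble_eq_true rfl) rfl

theorem c2398 : Block F al 0 614144 219678 :=
  block_comb c2397 b2398 (Nat.zero_le _) (Nat.le_of_ble_eq_true rfl) rfl

theorem c2399 : Block F al 0 614400 219716 :=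
  block_comb c2398 b2399 (Nat.zero_le _) (Nat.le_of_ble_eq_true rfl) rfl

theorem c2400 : Block F al 0 614656 219749 :=
  block_comb c2399 b2400 (Nat.zero_le _) (Nat.le_of_ble_eq_true rfl) rfl

theorem c2401 : Block F al 0 614912 219808 :=
  block_comb c2400 b2401 (Nat.zero_le _) (Nat.le_of_ble_eq_true rfl) rfl

theorem c2402 : Block F al 0 615168 219840 :=
  block_comb c2401 b2402 (Nat.zero_le _) (Nat.le_of_ble_eq_true rfl) rfl

theorem c2403 : Block F al 0 615424 219880 :=
  block_comb c2402 b2403 (Nat.zero_le _) (Nat.le_of_ble_eq_true rfl) rfl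

theorem c2404 : Block F al 0 615680 219927 :=
  block_comb c2403 b2404 (Nat.zero_le _) (Nat.le_of_ble_eq_true rfl) rfl

theorem c2405 : Block F al 0 615936 219976 :=
  block_comb c2404 b2405 (Nat.zero_le _) (Nat.le_of_ble_eq_true rfl) rfl

theorem c2406 : Block F al 0 616192 220012 :=
  block_comb c2405 b2406 (Nat.zero_le _) (Nat.le_of_ble_eq_true rfl) rfl

theorem c2407 : Block F al 0 616448 220062 :=
  block_comb c2406 b2407 (Nat.zero_le _) (Nat.le_of_ble_eq_true rfl) rfl

theorem c2408 : Block F al 0 616704 220124 :=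
  block_comb c2407 b2408 (Nat.zero_le _) (Nat.le_of_ble_eq_true rfl) rfl

theorem c2409 : Block F al 0 616960 220154 :=
  block_comb c2408 b2409 (Nat.zero_le _) (Nat.le_of_ble_eq_true rfl) rfl

theorem c2410 : Block F al 0 617216 220221 :=
  block_comb c2409 b2410 (Nat.zero_le _) (Nat.le_of_ble_eq_true rfl) rfl

theorem c2411 : Block F al 0 617472 220274 :=
  block_comb c2410 b2411 (Nat.zero_le _) (Nat.le_of_ble_eq_true rfl) rfl

theorem c2412 : Block F al 0 617728 220324 :=
  block_comb c2411 b2412 (Nat.zero_le _) (Nat.le_of_ble_eq_true rfl) rfl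

theorem c2413 : Block F al 0 617984 220351 :=
  block_comb c2412 b2413 (Nat.zero_le _) (Nat.le_of_ble_eq_true rfl) rfl

theorem c2414 : Block F al 0 618240 220410 :=
  block_comb c2413 b2414 (Nat.zero_le _) (Nat.le_of_ble_eq_true rfl) rfl

theorem c2415 : Block F al 0 618496 220481 :=
  block_comb c2414 b2415 (Nat.zero_le _) (Nat.le_of_ble_eq_true rfl) rfl

theorem c2416 : Block F al 0 618752 220542 :=
  block_comb c2415 b2416 (Nat.zero_le _) (Nat.le_of_ble_eq_true rfl) rfl

theorem c2417 : Block F al 0 619008 220576 :=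
  block_comb c2416 b2417 (Nat.zero_le _) (Nat.le_of_ble_eq_true rfl) rfl

theorem c2418 : Block F al 0 619264 220633 :=
  block_comb c2417 b2418 (Nat.zero_le _) (Nat.le_of_ble_eq_true rfl) rfl

theorem c2419 : Block F al 0 619520 220712 :=
  block_comb c2418 b2419 (Nat.zero_le _) (Nat.le_of_ble_eq_true rfl) rfl

theorem c2420 : Block F al 0 619776 220760 :=
  block_comb c2419 b2420 (Nat.zero_le _) (Nat.le_of_ble_eq_true rfl) rfl

theorem c2421 : Block F al 0 620032 220784 :=
  block_comb c2420 b2421 (Nat.zero_le _) (Nat.le_of_ble_eq_true rfl) rfl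

theorem c2422 : Block F al 0 620288 220822 :=
  block_comb c2421 b2422 (Nat.zero_le _) (Nat.le_of_ble_eq_true rfl) rfl

theorem c2423 : Block F al 0 620544 220884 :=
  block_comb c2422 b2423 (Nat.zero_le _) (Nat.le_of_ble_eq_true rfl) rfl

theorem c2424 : Block F al 0 620800 220910 :=
  block_comb c2423 b2424 (Nat.zero_le _) (Nat.le_of_ble_eq_true rfl) rfl

theorem c2425 : Block F al 0 621056 220946 :=
  block_comb c2424 b2425 (Nat.zero_le _) (Nat.le_of_ble_eq_true rfl) rfl

theorem c2426 : Block F al 0 621312 220988 :=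
  block_comb c2425 b2426 (Nat.zero_le _) (Nat.le_of_ble_eq_true rfl) rfl

theorem c2427 : Block F al 0 621568 221046 :=
  block_comb c2426 b2427 (Nat.zero_le _) (Nat.le_of_ble_eq_true rfl) rfl

theorem c2428 : Block F al 0 621824 221094 :=
  block_comb c2427 b2428 (Nat.zero_le _) (Nat.le_of_ble_eq_true rfl) rfl

theorem c2429 : Block F al 0 622080 221139 :=
  block_comb c2428 b2429 (Nat.zero_le _) (Nat.le_of_ble_eq_true rfl) rfl

theorem c2430 : Block F al 0 622336 221172 :=
  block_comb c2429 b2430 (Nat.zero_le _) (Nat.le_of_ble_eq_true rfl) rfl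

theorem c2431 : Block F al 0 622592 221196 :=
  block_comb c2430 b2431 (Nat.zero_le _) (Nat.le_of_ble_eq_true rfl) rfl

theorem c2432 : Block F al 0 622848 221234 :=
  block_comb c2431 b2432 (Nat.zero_le _) (Nat.le_of_ble_eq_true rfl) rfl

theorem c2433 : Block F al 0 623104 221258 :=
  block_comb c2432 b2433 (Nat.zero_le _) (Nat.le_of_ble_eq_true rfl) rfl

theorem c2434 : Block F al 0 623360 221319 :=
  block_comb c2433 b2434 (Nat.zero_le _) (Nat.le_of_ble_eq_true rfl) rfl

theorem c2435 : Block F al 0 623616 221386 :=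
  block_comb c2434 b2435 (Nat.zero_le _) (Nat.le_of_ble_eq_true rfl) rfl

theorem c2436 : Block F al 0 623872 221428 :=
  block_comb c2435 b2436 (Nat.zero_le _) (Nat.le_of_ble_eq_true rfl) rfl

theorem c2437 : Block F al 0 624128 221460 :=
  block_comb c2436 b2437 (Nat.zero_le _) (Nat.le_of_ble_eq_true rfl) rfl

theorem c2438 : Block F al 0 624384 221526 :=
  block_comb c2437 b2438 (Nat.zero_le _) (Nat.le_of_ble_eq_true rfl) rfl

theorem c2439 : Block F al 0 624640 221592 :=
  block_comb c2438 b2439 (Nat.zero_le _) (Nat.le_of_ble_eq_true rfl) rfl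

theorem c2440 : Block F al 0 624896 221602 :=
  block_comb c2439 b2440 (Nat.zero_le _) (Nat.le_of_ble_eq_true rfl) rfl

theorem c2441 : Block F al 0 625152 221644 :=
  block_comb c2440 b2441 (Nat.zero_le _) (Nat.le_of_ble_eq_true rfl) rfl

theorem c2442 : Block F al 0 625408 221668 :=
  block_comb c2441 b2442 (Nat.zero_le _) (Nat.le_of_ble_eq_true rfl) rfl

theorem c2443 : Block F al 0 625664 221704 :=
  block_comb c2442 b2443 (Nat.zero_le _) (Nat.le_of_ble_eq_true rfl) rfl

theorem c2444 : Block F al 0 625920 221762 :=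
  block_comb c2443 b2444 (Nat.zero_le _) (Nat.le_of_ble_eq_true rfl) rfl

theorem c2445 : Block F al 0 626176 221826 :=
  block_comb c2444 b2445 (Nat.zero_le _) (Nat.le_of_ble_eq_true rfl) rfl

theorem c2446 : Block F al 0 626432 221866 :=
  block_comb c2445 b2446 (Nat.zero_le _) (Nat.le_of_ble_eq_true rfl) rfl

theorem c2447 : Block F al 0 626688 221898 :=
  block_comb c2446 b2447 (Nat.zero_le _) (Nat.le_of_ble_eq_true rfl) rfl

theorem c2448 : Block F al 0 626944 221932 :=
  block_comb c2447 b2448 (Nat.zero_le _) (Nat.le_of_ble_eq_true rfl) rfl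

theorem c2449 : Block F al 0 627200 221978 :=
  block_comb c2448 b2449 (Nat.zero_le _) (Nat.le_of_ble_eq_true rfl) rfl

theorem c2450 : Block F al 0 627456 222029 :=
  block_comb c2449 b2450 (Nat.zero_le _) (Nat.le_of_ble_eq_true rfl) rfl

theorem c2451 : Block F al 0 627712 222075 :=
  block_comb c2450 b2451 (Nat.zero_le _) (Nat.le_of_ble_eq_true rfl) rfl

theorem c2452 : Block F al 0 627968 222098 :=
  block_comb c2451 b2452 (Nat.zero_le _) (Nat.le_of_ble_eq_true rfl) rfl

theorem c2453 : Block F al 0 628224 222106 :=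
  block_comb c2452 b2453 (Nat.zero_le _) (Nat.le_of_ble_eq_true rfl) rfl

theorem c2454 : Block F al 0 628480 222162 :=
  block_comb c2453 b2454 (Nat.zero_le _) (Nat.le_of_ble_eq_true rfl) rfl

theorem c2455 : Block F al 0 628736 222227 :=
  block_comb c2454 b2455 (Nat.zero_le _) (Nat.le_of_ble_eq_true rfl) rfl

theorem c2456 : Block F al 0 628992 222299 :=
  block_comb c2455 b2456 (Nat.zero_le _) (Nat.le_of_ble_eq_true rfl) rfl

theorem c2457 : Block F al 0 629248 222364 :=
  block_comb c2456 b2457 (Nat.zero_le _) (Nat.le_of_ble_eq_true rfl) rfl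

theorem c2458 : Block F al 0 629504 222378 :=
  block_comb c2457 b2458 (Nat.zero_le _) (Nat.le_of_ble_eq_true rfl) rfl

theorem c2459 : Block F al 0 629760 222410 :=
  block_comb c2458 b2459 (Nat.zero_le _) (Nat.le_of_ble_eq_true rfl) rfl

theorem c2460 : Block F al 0 630016 222448 :=
  block_comb c2459 b2460 (Nat.zero_le _) (Nat.le_of_ble_eq_true rfl) rfl

theorem c2461 : Block F al 0 630272 222522 :=
  block_comb c2460 b2461 (Nat.zero_le _) (Nat.le_of_ble_eq_true rfl) rfl

theorem c2462 : Block F al 0 630528 222554 :=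
  block_comb c2461 b2462 (Nat.zero_le _) (Nat.le_of_ble_eq_true rfl) rfl

theorem c2463 : Block F al 0 630784 222574 :=
  block_comb c2462 b2463 (Nat.zero_le _) (Nat.le_of_ble_eq_true rfl) rfl

theorem c2464 : Block F al 0 631040 222594 :=
  block_comb c2463 b2464 (Nat.zero_le _) (Nat.le_of_ble_eq_true rfl) rfl

theorem c2465 : Block F al 0 631296 222616 :=
  block_comb c2464 b2465 (Nat.zero_le _) (Nat.le_of_ble_eq_true rfl) rfl

theorem c2466 : Block F al 0 631552 222654 :=
  block_comb c2465 b2466 (Nat.zero_le _) (Nat.le_of_ble_eq_true rfl) rfl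

theorem c2467 : Block F al 0 631808 222706 :=
  block_comb c2466 b2467 (Nat.zero_le _) (Nat.le_of_ble_eq_true rfl) rfl

theorem c2468 : Block F al 0 632064 222758 :=
  block_comb c2467 b2468 (Nat.zero_le _) (Nat.le_of_ble_eq_true rfl) rfl

theorem c2469 : Block F al 0 632320 222784 :=
  block_comb c2468 b2469 (Nat.zero_le _) (Nat.le_of_ble_eq_true rfl) rfl

theorem c2470 : Block F al 0 632576 222802 :=
  block_comb c2469 b2470 (Nat.zero_le _) (Nat.le_of_ble_eq_true rfl) rfl

theorem c2471 : Block F al 0 632832 222842 :=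
  block_comb c2470 b2471 (Nat.zero_le _) (Nat.le_of_ble_eq_true rfl) rfl

theorem c2472 : Block F al 0 633088 222873 :=
  block_comb c2471 b2472 (Nat.zero_le _) (Nat.le_of_ble_eq_true rfl) rfl

theorem c2473 : Block F al 0 633344 222916 :=
  block_comb c2472 b2473 (Nat.zero_le _) (Nat.le_of_ble_eq_true rfl) rfl

theorem c2474 : Block F al 0 633600 222958 :=
  block_comb c2473 b2474 (Nat.zero_le _) (Nat.le_of_ble_eq_true rfl) rfl

theorem c2475 : Block F al 0 633856 222990 :=
  block_comb c2474 b2475 (Nat.zero_le _) (Nat.le_of_ble_eq_true rfl) rfl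

theorem c2476 : Block F al 0 634112 223006 :=
  block_comb c2475 b2476 (Nat.zero_le _) (Nat.le_of_ble_eq_true rfl) rfl

theorem c2477 : Block F al 0 634368 223040 :=
  block_comb c2476 b2477 (Nat.zero_le _) (Nat.le_of_ble_eq_true rfl) rfl

theorem c2478 : Block F al 0 634624 223086 :=
  block_comb c2477 b2478 (Nat.zero_le _) (Nat.le_of_ble_eq_true rfl) rfl

theorem c2479 : Block F al 0 634880 223131 :=
  block_comb c2478 b2479 (Nat.zero_le _) (Nat.le_of_ble_eq_true rfl) rfl

theorem c2480 : Block F al 0 635136 223169 :=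
  block_comb c2479 b2480 (Nat.zero_le _) (Nat.le_of_ble_eq_true rfl) rfl

theorem c2481 : Block F al 0 635392 223203 :=
  block_comb c2480 b2481 (Nat.zero_le _) (Nat.le_of_ble_eq_true rfl) rfl

theorem c2482 : Block F al 0 635648 223257 :=
  block_comb c2481 b2482 (Nat.zero_le _) (Nat.le_of_ble_eq_true rfl) rfl

theorem c2483 : Block F al 0 635904 223286 :=
  block_comb c2482 b2483 (Nat.zero_le _) (Nat.le_of_ble_eq_true rfl) rfl

theorem c2484 : Block F al 0 636160 223324 :=
  block_comb c2483 b2484 (Nat.zero_le _) (Nat.le_of_ble_eq_true rfl) rfl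

theorem c2485 : Block F al 0 636416 223384 :=
  block_comb c2484 b2485 (Nat.zero_le _) (Nat.le_of_ble_eq_true rfl) rfl

theorem c2486 : Block F al 0 636672 223412 :=
  block_comb c2485 b2486 (Nat.zero_le _) (Nat.le_of_ble_eq_true rfl) rfl

theorem c2487 : Block F al 0 636928 223444 :=
  block_comb c2486 b2487 (Nat.zero_le _) (Nat.le_of_ble_eq_true rfl) rfl

theorem c2488 : Block F al 0 637184 223484 :=
  block_comb c2487 b2488 (Nat.zero_le _) (Nat.le_of_ble_eq_true rfl) rfl

theorem c2489 : Block F al 0 637440 223538 :=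
  block_comb c2488 b2489 (Nat.zero_le _) (Nat.le_of_ble_eq_true rfl) rfl

theorem c2490 : Block F al 0 637696 223588 :=
  block_comb c2489 b2490 (Nat.zero_le _) (Nat.le_of_ble_eq_true rfl) rfl

theorem c2491 : Block F al 0 637952 223616 :=
  block_comb c2490 b2491 (Nat.zero_le _) (Nat.le_of_ble_eq_true rfl) rfl

theorem c2492 : Block F al 0 638208 223638 :=
  block_comb c2491 b2492 (Nat.zero_le _) (Nat.le_of_ble_eq_true rfl) rfl

theorem c2493 : Block F al 0 638464 223694 :=
  block_comb c2492 b2493 (Nat.zero_le _) (Nat.le_of_ble_eq_true rfl) rfl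

theorem c2494 : Block F al 0 638720 223730 :=
  block_comb c2493 b2494 (Nat.zero_le _) (Nat.le_of_ble_eq_true rfl) rfl

theorem c2495 : Block F al 0 638976 223782 :=
  block_comb c2494 b2495 (Nat.zero_le _) (Nat.le_of_ble_eq_true rfl) rfl

theorem c2496 : Block F al 0 639232 223820 :=
  block_comb c2495 b2496 (Nat.zero_le _) (Nat.le_of_ble_eq_true rfl) rfl

theorem c2497 : Block F al 0 639488 223836 :=
  block_comb c2496 b2497 (Nat.zero_le _) (Nat.le_of_ble_eq_true rfl) rfl

theorem c2498 : Block F al 0 639744 223870 :=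
  block_comb c2497 b2498 (Nat.zero_le _) (Nat.le_of_ble_eq_true rfl) rfl

theorem c2499 : Block F al 0 640000 223882 :=
  block_comb c2498 b2499 (Nat.zero_le _) (Nat.le_of_ble_eq_true rfl) rfl

theorem c2500 : Block F al 0 640256 223898 :=
  block_comb c2499 b2500 (Nat.zero_le _) (Nat.le_of_ble_eq_true rfl) rfl

theorem c2501 : Block F al 0 640512 223914 :=
  block_comb c2500 b2501 (Nat.zero_le _) (Nat.le_of_ble_eq_true rfl) rfl

theorem c2502 : Block F al 0 640768 223924 :=
  block_comb c2501 b2502 (Nat.zero_le _) (Nat.le_of_ble_eq_true rfl) rfl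

theorem c2503 : Block F al 0 641024 223934 :=
  block_comb c2502 b2503 (Nat.zero_le _) (Nat.le_of_ble_eq_true rfl) rfl

theorem c2504 : Block F al 0 641280 223959 :=
  block_comb c2503 b2504 (Nat.zero_le _) (Nat.le_of_ble_eq_true rfl) rfl

theorem c2505 : Block F al 0 641536 223978 :=
  block_comb c2504 b2505 (Nat.zero_le _) (Nat.le_of_ble_eq_true rfl) rfl

theorem c2506 : Block F al 0 641792 224016 :=
  block_comb c2505 b2506 (Nat.zero_le _) (Nat.le_of_ble_eq_true rfl) rfl

theorem c2507 : Block F al 0 642048 224059 :=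
  block_comb c2506 b2507 (Nat.zero_le _) (Nat.le_of_ble_eq_true rfl) rfl

theorem c2508 : Block F al 0 642304 224092 :=
  block_comb c2507 b2508 (Nat.zero_le _) (Nat.le_of_ble_eq_true rfl) rfl

theorem c2509 : Block F al 0 642560 224146 :=
  block_comb c2508 b2509 (Nat.zero_le _) (Nat.le_of_ble_eq_true rfl) rfl

theorem c2510 : Block F al 0 642816 224172 :=
  block_comb c2509 b2510 (Nat.zero_le _) (Nat.le_of_ble_eq_true rfl) rfl

theorem c2511 : Block F al 0 643072 224178 :=
  block_comb c2510 b2511 (Nat.zero_le _) (Nat.le_of_ble_eq_true rfl) rfl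

theorem c2512 : Block F al 0 643328 224208 :=
  block_comb c2511 b2512 (Nat.zero_le _) (Nat.le_of_ble_eq_true rfl) rfl

theorem c2513 : Block F al 0 643584 224266 :=
  block_comb c2512 b2513 (Nat.zero_le _) (Nat.le_of_ble_eq_true rfl) rfl

theorem c2514 : Block F al 0 643840 224304 :=
  block_comb c2513 b2514 (Nat.zero_le _) (Nat.le_of_ble_eq_true rfl) rfl

theorem c2515 : Block F al 0 644096 224374 :=
  block_comb c2514 b2515 (Nat.zero_le _) (Nat.le_of_ble_eq_true rfl) rfl

theorem c2516 : Block F al 0 644352 224406 :=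
  block_comb c2515 b2516 (Nat.zero_le _) (Nat.le_of_ble_eq_true rfl) rfl

theorem c2517 : Block F al 0 644608 224442 :=
  block_comb c2516 b2517 (Nat.zero_le _) (Nat.le_of_ble_eq_true rfl) rfl

theorem c2518 : Block F al 0 644864 224448 :=
  block_comb c2517 b2518 (Nat.zero_le _) (Nat.le_of_ble_eq_true rfl) rfl

theorem c2519 : Block F al 0 645120 224464 :=
  block_comb c2518 b2519 (Nat.zero_le _) (Nat.le_of_ble_eq_true rfl) rfl

theorem c2520 : Block F al 0 645376 224496 :=
  block_comb c2519 b2520 (Nat.zero_le _) (Nat.le_of_ble_eq_true rfl) rfl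

theorem c2521 : Block F al 0 645632 224516 :=
  block_comb c2520 b2521 (Nat.zero_le _) (Nat.le_of_ble_eq_true rfl) rfl

theorem c2522 : Block F al 0 645888 224568 :=
  block_comb c2521 b2522 (Nat.zero_le _) (Nat.le_of_ble_eq_true rfl) rfl

theorem c2523 : Block F al 0 646144 224617 :=
  block_comb c2522 b2523 (Nat.zero_le _) (Nat.le_of_ble_eq_true rfl) rfl

theorem c2524 : Block F al 0 646400 224668 :=
  block_comb c2523 b2524 (Nat.zero_le _) (Nat.le_of_ble_eq_true rfl) rfl

theorem c2525 : Block F al 0 646656 224720 :=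
  block_comb c2524 b2525 (Nat.zero_le _) (Nat.le_of_ble_eq_true rfl) rfl

theorem c2526 : Block F al 0 646912 224750 :=
  block_comb c2525 b2526 (Nat.zero_le _) (Nat.le_of_ble_eq_true rfl) rfl

theorem c2527 : Block F al 0 647168 224792 :=
  block_comb c2526 b2527 (Nat.zero_le _) (Nat.le_of_ble_eq_true rfl) rfl

theorem c2528 : Block F al 0 647424 224834 :=
  block_comb c2527 b2528 (Nat.zero_le _) (Nat.le_of_ble_eq_true rfl) rfl

theorem c2529 : Block F al 0 647680 224876 :=
  block_comb c2528 b2529 (Nat.zero_le _) (Nat.le_of_ble_eq_true rfl) rfl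

theorem c2530 : Block F al 0 647936 224916 :=
  block_comb c2529 b2530 (Nat.zero_le _) (Nat.le_of_ble_eq_true rfl) rfl

theorem c2531 : Block F al 0 648192 224956 :=
  block_comb c2530 b2531 (Nat.zero_le _) (Nat.le_of_ble_eq_true rfl) rfl

theorem c2532 : Block F al 0 648448 225004 :=
  block_comb c2531 b2532 (Nat.zero_le _) (Nat.le_of_ble_eq_true rfl) rfl

theorem c2533 : Block F al 0 648704 225046 :=
  block_comb c2532 b2533 (Nat.zero_le _) (Nat.le_of_ble_eq_true rfl) rfl

theorem c2534 : Block F al 0 648960 225082 :=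
  block_comb c2533 b2534 (Nat.zero_le _) (Nat.le_of_ble_eq_true rfl) rfl

theorem c2535 : Block F al 0 649216 225124 :=
  block_comb c2534 b2535 (Nat.zero_le _) (Nat.le_of_ble_eq_true rfl) rfl

theorem c2536 : Block F al 0 649472 225182 :=
  block_comb c2535 b2536 (Nat.zero_le _) (Nat.le_of_ble_eq_true rfl) rfl

theorem c2537 : Block F al 0 649728 225234 :=
  block_comb c2536 b2537 (Nat.zero_le _) (Nat.le_of_ble_eq_true rfl) rfl

theorem c2538 : Block F al 0 649984 225290 :=
  block_comb c2537 b2538 (Nat.zero_le _) (Nat.le_of_ble_eq_true rfl) rfl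

theorem c2539 : Block F al 0 650240 225348 :=
  block_comb c2538 b2539 (Nat.zero_le _) (Nat.le_of_ble_eq_true rfl) rfl

theorem c2540 : Block F al 0 650496 225402 :=
  block_comb c2539 b2540 (Nat.zero_le _) (Nat.le_of_ble_eq_true rfl) rfl

theorem c2541 : Block F al 0 650752 225418 :=
  block_comb c2540 b2541 (Nat.zero_le _) (Nat.le_of_ble_eq_true rfl) rfl

theorem c2542 : Block F al 0 651008 225448 :=
  block_comb c2541 b2542 (Nat.zero_le _) (Nat.le_of_ble_eq_true rfl) rfl

theorem c2543 : Block F al 0 651264 225476 :=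
  block_comb c2542 b2543 (Nat.zero_le _) (Nat.le_of_ble_eq_true rfl) rfl

theorem c2544 : Block F al 0 651520 225492 :=
  block_comb c2543 b2544 (Nat.zero_le _) (Nat.le_of_ble_eq_true rfl) rfl

theorem c2545 : Block F al 0 651776 225540 :=
  block_comb c2544 b2545 (Nat.zero_le _) (Nat.le_of_ble_eq_true rfl) rfl

theorem c2546 : Block F al 0 652032 225568 :=
  block_comb c2545 b2546 (Nat.zero_le _) (Nat.le_of_ble_eq_true rfl) rfl

theorem c2547 : Block F al 0 652288 225618 :=
  block_comb c2546 b2547 (Nat.zero_le _) (Nat.le_of_ble_eq_true rfl) rfl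

theorem c2548 : Block F al 0 652544 225658 :=
  block_comb c2547 b2548 (Nat.zero_le _) (Nat.le_of_ble_eq_true rfl) rfl

theorem c2549 : Block F al 0 652800 225677 :=
  block_comb c2548 b2549 (Nat.zero_le _) (Nat.le_of_ble_eq_true rfl) rfl

theorem c2550 : Block F al 0 653056 225696 :=
  block_comb c2549 b2550 (Nat.zero_le _) (Nat.le_of_ble_eq_true rfl) rfl

theorem c2551 : Block F al 0 653312 225722 :=
  block_comb c2550 b2551 (Nat.zero_le _) (Nat.le_of_ble_eq_true rfl) rfl

theorem c2552 : Block F al 0 653568 225768 :=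
  block_comb c2551 b2552 (Nat.zero_le _) (Nat.le_of_ble_eq_true rfl) rfl

theorem c2553 : Block F al 0 653824 225802 :=
  block_comb c2552 b2553 (Nat.zero_le _) (Nat.le_of_ble_eq_true rfl) rfl

theorem c2554 : Block F al 0 654080 225832 :=
  block_comb c2553 b2554 (Nat.zero_le _) (Nat.le_of_ble_eq_true rfl) rfl

theorem c2555 : Block F al 0 654336 225875 :=
  block_comb c2554 b2555 (Nat.zero_le _) (Nat.le_of_ble_eq_true rfl) rfl

theorem c2556 : Block F al 0 654592 225898 :=
  block_comb c2555 b2556 (Nat.zero_le _) (Nat.le_of_ble_eq_true rfl) rfl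

theorem c2557 : Block F al 0 654848 225924 :=
  block_comb c2556 b2557 (Nat.zero_le _) (Nat.le_of_ble_eq_true rfl) rfl

theorem c2558 : Block F al 0 655104 225962 :=
  block_comb c2557 b2558 (Nat.zero_le _) (Nat.le_of_ble_eq_true rfl) rfl

theorem c2559 : Block F al 0 655360 226014 :=
  block_comb c2558 b2559 (Nat.zero_le _) (Nat.le_of_ble_eq_true rfl) rfl

theorem c2560 : Block F al 0 655616 226062 :=
  block_comb c2559 b2560 (Nat.zero_le _) (Nat.le_of_ble_eq_true rfl) rfl

theorem c2561 : Block F al 0 655872 226092 :=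
  block_comb c2560 b2561 (Nat.zero_le _) (Nat.le_of_ble_eq_true rfl) rfl

theorem c2562 : Block F al 0 656128 226154 :=
  block_comb c2561 b2562 (Nat.zero_le _) (Nat.le_of_ble_eq_true rfl) rfl

theorem c2563 : Block F al 0 656384 226228 :=
  block_comb c2562 b2563 (Nat.zero_le _) (Nat.le_of_ble_eq_true rfl) rfl

theorem c2564 : Block F al 0 656640 226280 :=
  block_comb c2563 b2564 (Nat.zero_le _) (Nat.le_of_ble_eq_true rfl) rfl

theorem c2565 : Block F al 0 656896 226313 :=
  block_comb c2564 b2565 (Nat.zero_le _) (Nat.le_of_ble_eq_true rfl) rfl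

theorem c2566 : Block F al 0 657152 226336 :=
  block_comb c2565 b2566 (Nat.zero_le _) (Nat.le_of_ble_eq_true rfl) rfl

theorem c2567 : Block F al 0 657408 226368 :=
  block_comb c2566 b2567 (Nat.zero_le _) (Nat.le_of_ble_eq_true rfl) rfl

theorem c2568 : Block F al 0 657664 226416 :=
  block_comb c2567 b2568 (Nat.zero_le _) (Nat.le_of_ble_eq_true rfl) rfl

theorem c2569 : Block F al 0 657920 226452 :=
  block_comb c2568 b2569 (Nat.zero_le _) (Nat.le_of_ble_eq_true rfl) rfl

theorem c2570 : Block F al 0 658176 226472 :=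
  block_comb c2569 b2570 (Nat.zero_le _) (Nat.le_of_ble_eq_true rfl) rfl

theorem c2571 : Block F al 0 658432 226484 :=
  block_comb c2570 b2571 (Nat.zero_le _) (Nat.le_of_ble_eq_true rfl) rfl

theorem c2572 : Block F al 0 658688 226519 :=
  block_comb c2571 b2572 (Nat.zero_le _) (Nat.le_of_ble_eq_true rfl) rfl

theorem c2573 : Block F al 0 658944 226576 :=
  block_comb c2572 b2573 (Nat.zero_le _) (Nat.le_of_ble_eq_true rfl) rfl

theorem c2574 : Block F al 0 659200 226608 :=
  block_comb c2573 b2574 (Nat.zero_le _) (Nat.le_of_ble_eq_true rfl) rfl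

theorem c2575 : Block F al 0 659456 226638 :=
  block_comb c2574 b2575 (Nat.zero_le _) (Nat.le_of_ble_eq_true rfl) rfl

theorem c2576 : Block F al 0 659712 226682 :=
  block_comb c2575 b2576 (Nat.zero_le _) (Nat.le_of_ble_eq_true rfl) rfl

theorem c2577 : Block F al 0 659968 226706 :=
  block_comb c2576 b2577 (Nat.zero_le _) (Nat.le_of_ble_eq_true rfl) rfl

theorem c2578 : Block F al 0 660224 226726 :=
  block_comb c2577 b2578 (Nat.zero_le _) (Nat.le_of_ble_eq_true rfl) rfl

theorem c2579 : Block F al 0 660480 226760 :=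
  block_comb c2578 b2579 (Nat.zero_le _) (Nat.le_of_ble_eq_true rfl) rfl

theorem c2580 : Block F al 0 660736 226776 :=
  block_comb c2579 b2580 (Nat.zero_le _) (Nat.le_of_ble_eq_true rfl) rfl

theorem c2581 : Block F al 0 660992 226796 :=
  block_comb c2580 b2581 (Nat.zero_le _) (Nat.le_of_ble_eq_true rfl) rfl

theorem c2582 : Block F al 0 661248 226825 :=
  block_comb c2581 b2582 (Nat.zero_le _) (Nat.le_of_ble_eq_true rfl) rfl

theorem c2583 : Block F al 0 661504 226872 :=
  block_comb c2582 b2583 (Nat.zero_le _) (Nat.le_of_ble_eq_true rfl) rfl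

theorem c2584 : Block F al 0 661760 226904 :=
  block_comb c2583 b2584 (Nat.zero_le _) (Nat.le_of_ble_eq_true rfl) rfl

theorem c2585 : Block F al 0 662016 226942 :=
  block_comb c2584 b2585 (Nat.zero_le _) (Nat.le_of_ble_eq_true rfl) rfl

theorem c2586 : Block F al 0 662272 226978 :=
  block_comb c2585 b2586 (Nat.zero_le _) (Nat.le_of_ble_eq_true rfl) rfl

theorem c2587 : Block F al 0 662528 227006 :=
  block_comb c2586 b2587 (Nat.zero_le _) (Nat.le_of_ble_eq_true rfl) rfl

theorem c2588 : Block F al 0 662784 227018 :=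
  block_comb c2587 b2588 (Nat.zero_le _) (Nat.le_of_ble_eq_true rfl) rfl

theorem c2589 : Block F al 0 663040 227052 :=
  block_comb c2588 b2589 (Nat.zero_le _) (Nat.le_of_ble_eq_true rfl) rfl

theorem c2590 : Block F al 0 663296 227094 :=
  block_comb c2589 b2590 (Nat.zero_le _) (Nat.le_of_ble_eq_true rfl) rfl

theorem c2591 : Block F al 0 663552 227124 :=
  block_comb c2590 b2591 (Nat.zero_le _) (Nat.le_of_ble_eq_true rfl) rfl

theorem c2592 : Block F al 0 663808 227174 :=
  block_comb c2591 b2592 (Nat.zero_le _) (Nat.le_of_ble_eq_true rfl) rfl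

theorem c2593 : Block F al 0 664064 227208 :=
  block_comb c2592 b2593 (Nat.zero_le _) (Nat.le_of_ble_eq_true rfl) rfl

theorem c2594 : Block F al 0 664320 227252 :=
  block_comb c2593 b2594 (Nat.zero_le _) (Nat.le_of_ble_eq_true rfl) rfl

theorem c2595 : Block F al 0 664576 227292 :=
  block_comb c2594 b2595 (Nat.zero_le _) (Nat.le_of_ble_eq_true rfl) rfl

theorem c2596 : Block F al 0 664832 227318 :=
  block_comb c2595 b2596 (Nat.zero_le _) (Nat.le_of_ble_eq_true rfl) rfl

theorem c2597 : Block F al 0 665088 227358 :=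
  block_comb c2596 b2597 (Nat.zero_le _) (Nat.le_of_ble_eq_true rfl) rfl

theorem c2598 : Block F al 0 665344 227404 :=
  block_comb c2597 b2598 (Nat.zero_le _) (Nat.le_of_ble_eq_true rfl) rfl

theorem c2599 : Block F al 0 665600 227434 :=
  block_comb c2598 b2599 (Nat.zero_le _) (Nat.le_of_ble_eq_true rfl) rfl

theorem c2600 : Block F al 0 665856 227468 :=
  block_comb c2599 b2600 (Nat.zero_le _) (Nat.le_of_ble_eq_true rfl) rfl

theorem c2601 : Block F al 0 666112 227508 :=
  block_comb c2600 b2601 (Nat.zero_le _) (Nat.le_of_ble_eq_true rfl) rfl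

theorem c2602 : Block F al 0 666368 227536 :=
  block_comb c2601 b2602 (Nat.zero_le _) (Nat.le_of_ble_eq_true rfl) rfl

theorem c2603 : Block F al 0 666624 227561 :=
  block_comb c2602 b2603 (Nat.zero_le _) (Nat.le_of_ble_eq_true rfl) rfl

theorem c2604 : Block F al 0 666880 227596 :=
  block_comb c2603 b2604 (Nat.zero_le _) (Nat.le_of_ble_eq_true rfl) rfl

theorem c2605 : Block F al 0 667136 227644 :=
  block_comb c2604 b2605 (Nat.zero_le _) (Nat.le_of_ble_eq_true rfl) rfl

theorem c2606 : Block F al 0 667392 227670 :=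
  block_comb c2605 b2606 (Nat.zero_le _) (Nat.le_of_ble_eq_true rfl) rfl

theorem c2607 : Block F al 0 667648 227694 :=
  block_comb c2606 b2607 (Nat.zero_le _) (Nat.le_of_ble_eq_true rfl) rfl

theorem c2608 : Block F al 0 667904 227712 :=
  block_comb c2607 b2608 (Nat.zero_le _) (Nat.le_of_ble_eq_true rfl) rfl

theorem c2609 : Block F al 0 668160 227738 :=
  block_comb c2608 b2609 (Nat.zero_le _) (Nat.le_of_ble_eq_true rfl) rfl

theorem c2610 : Block F al 0 668416 227764 :=
  block_comb c2609 b2610 (Nat.zero_le _) (Nat.le_of_ble_eq_true rfl) rfl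

theorem c2611 : Block F al 0 668672 227790 :=
  block_comb c2610 b2611 (Nat.zero_le _) (Nat.le_of_ble_eq_true rfl) rfl

theorem c2612 : Block F al 0 668928 227836 :=
  block_comb c2611 b2612 (Nat.zero_le _) (Nat.le_of_ble_eq_true rfl) rfl

theorem c2613 : Block F al 0 669184 227870 :=
  block_comb c2612 b2613 (Nat.zero_le _) (Nat.le_of_ble_eq_true rfl) rfl

theorem c2614 : Block F al 0 669440 227889 :=
  block_comb c2613 b2614 (Nat.zero_le _) (Nat.le_of_ble_eq_true rfl) rfl

theorem c2615 : Block F al 0 669696 227933 :=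
  block_comb c2614 b2615 (Nat.zero_le _) (Nat.le_of_ble_eq_true rfl) rfl

theorem c2616 : Block F al 0 669952 227954 :=
  block_comb c2615 b2616 (Nat.zero_le _) (Nat.le_of_ble_eq_true rfl) rfl

theorem c2617 : Block F al 0 670208 227999 :=
  block_comb c2616 b2617 (Nat.zero_le _) (Nat.le_of_ble_eq_true rfl) rfl

theorem c2618 : Block F al 0 670464 228040 :=
  block_comb c2617 b2618 (Nat.zero_le _) (Nat.le_of_ble_eq_true rfl) rfl

theorem c2619 : Block F al 0 670720 228054 :=
  block_comb c2618 b2619 (Nat.zero_le _) (Nat.le_of_ble_eq_true rfl) rfl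

theorem c2620 : Block F al 0 670976 228102 :=
  block_comb c2619 b2620 (Nat.zero_le _) (Nat.le_of_ble_eq_true rfl) rfl

theorem c2621 : Block F al 0 671232 228136 :=
  block_comb c2620 b2621 (Nat.zero_le _) (Nat.le_of_ble_eq_true rfl) rfl

theorem c2622 : Block F al 0 671488 228148 :=
  block_comb c2621 b2622 (Nat.zero_le _) (Nat.le_of_ble_eq_true rfl) rfl

theorem c2623 : Block F al 0 671744 228184 :=
  block_comb c2622 b2623 (Nat.zero_le _) (Nat.le_of_ble_eq_true rfl) rfl

theorem c2624 : Block F al 0 672000 228210 :=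
  block_comb c2623 b2624 (Nat.zero_le _) (Nat.le_of_ble_eq_true rfl) rfl

theorem c2625 : Block F al 0 672256 228246 :=
  block_comb c2624 b2625 (Nat.zero_le _) (Nat.le_of_ble_eq_true rfl) rfl

theorem c2626 : Block F al 0 672512 228270 :=
  block_comb c2625 b2626 (Nat.zero_le _) (Nat.le_of_ble_eq_true rfl) rfl

theorem c2627 : Block F al 0 672768 228300 :=
  block_comb c2626 b2627 (Nat.zero_le _) (Nat.le_of_ble_eq_true rfl) rfl

theorem c2628 : Block F al 0 673024 228312 :=
  block_comb c2627 b2628 (Nat.zero_le _) (Nat.le_of_ble_eq_true rfl) rfl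

theorem c2629 : Block F al 0 673280 228365 :=
  block_comb c2628 b2629 (Nat.zero_le _) (Nat.le_of_ble_eq_true rfl) rfl

theorem c2630 : Block F al 0 673536 228402 :=
  block_comb c2629 b2630 (Nat.zero_le _) (Nat.le_of_ble_eq_true rfl) rfl

theorem c2631 : Block F al 0 673792 228464 :=
  block_comb c2630 b2631 (Nat.zero_le _) (Nat.le_of_ble_eq_true rfl) rfl

theorem c2632 : Block F al 0 674048 228488 :=
  block_comb c2631 b2632 (Nat.zero_le _) (Nat.le_of_ble_eq_true rfl) rfl

theorem c2633 : Block F al 0 674304 228514 :=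
  block_comb c2632 b2633 (Nat.zero_le _) (Nat.le_of_ble_eq_true rfl) rfl

theorem c2634 : Block F al 0 674560 228542 :=
  block_comb c2633 b2634 (Nat.zero_le _) (Nat.le_of_ble_eq_true rfl) rfl

theorem c2635 : Block F al 0 674816 228556 :=
  block_comb c2634 b2635 (Nat.zero_le _) (Nat.le_of_ble_eq_true rfl) rfl

theorem c2636 : Block F al 0 675072 228587 :=
  block_comb c2635 b2636 (Nat.zero_le _) (Nat.le_of_ble_eq_true rfl) rfl

theorem c2637 : Block F al 0 675328 228650 :=
  block_comb c2636 b2637 (Nat.zero_le _) (Nat.le_of_ble_eq_true rfl) rfl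

theorem c2638 : Block F al 0 675584 228661 :=
  block_comb c2637 b2638 (Nat.zero_le _) (Nat.le_of_ble_eq_true rfl) rfl

theorem c2639 : Block F al 0 675840 228688 :=
  block_comb c2638 b2639 (Nat.zero_le _) (Nat.le_of_ble_eq_true rfl) rfl

theorem c2640 : Block F al 0 676096 228706 :=
  block_comb c2639 b2640 (Nat.zero_le _) (Nat.le_of_ble_eq_true rfl) rfl

theorem c2641 : Block F al 0 676352 228748 :=
  block_comb c2640 b2641 (Nat.zero_le _) (Nat.le_of_ble_eq_true rfl) rfl

theorem c2642 : Block F al 0 676608 228758 :=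
  block_comb c2641 b2642 (Nat.zero_le _) (Nat.le_of_ble_eq_true rfl) rfl

theorem c2643 : Block F al 0 676864 228790 :=
  block_comb c2642 b2643 (Nat.zero_le _) (Nat.le_of_ble_eq_true rfl) rfl

theorem c2644 : Block F al 0 677120 228818 :=
  block_comb c2643 b2644 (Nat.zero_le _) (Nat.le_of_ble_eq_true rfl) rfl

theorem c2645 : Block F al 0 677376 228854 :=
  block_comb c2644 b2645 (Nat.zero_le _) (Nat.le_of_ble_eq_true rfl) rfl

theorem c2646 : Block F al 0 677632 228887 :=
  block_comb c2645 b2646 (Nat.zero_le _) (Nat.le_of_ble_eq_true rfl) rfl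

theorem c2647 : Block F al 0 677888 228904 :=
  block_comb c2646 b2647 (Nat.zero_le _) (Nat.le_of_ble_eq_true rfl) rfl

theorem c2648 : Block F al 0 678144 228932 :=
  block_comb c2647 b2648 (Nat.zero_le _) (Nat.le_of_ble_eq_true rfl) rfl

theorem c2649 : Block F al 0 678400 228956 :=
  block_comb c2648 b2649 (Nat.zero_le _) (Nat.le_of_ble_eq_true rfl) rfl

theorem c2650 : Block F al 0 678656 228998 :=
  block_comb c2649 b2650 (Nat.zero_le _) (Nat.le_of_ble_eq_true rfl) rfl

theorem c2651 : Block F al 0 678912 229024 :=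
  block_comb c2650 b2651 (Nat.zero_le _) (Nat.le_of_ble_eq_true rfl) rfl

theorem c2652 : Block F al 0 679168 229062 :=
  block_comb c2651 b2652 (Nat.zero_le _) (Nat.le_of_ble_eq_true rfl) rfl

theorem c2653 : Block F al 0 679424 229112 :=
  block_comb c2652 b2653 (Nat.zero_le _) (Nat.le_of_ble_eq_true rfl) rfl

theorem c2654 : Block F al 0 679680 229162 :=
  block_comb c2653 b2654 (Nat.zero_le _) (Nat.le_of_ble_eq_true rfl) rfl

theorem c2655 : Block F al 0 679936 229221 :=
  block_comb c2654 b2655 (Nat.zero_le _) (Nat.le_of_ble_eq_true rfl) rfl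

theorem c2656 : Block F al 0 680192 229277 :=
  block_comb c2655 b2656 (Nat.zero_le _) (Nat.le_of_ble_eq_true rfl) rfl

theorem c2657 : Block F al 0 680448 229310 :=
  block_comb c2656 b2657 (Nat.zero_le _) (Nat.le_of_ble_eq_true rfl) rfl

theorem c2658 : Block F al 0 680704 229346 :=
  block_comb c2657 b2658 (Nat.zero_le _) (Nat.le_of_ble_eq_true rfl) rfl

theorem c2659 : Block F al 0 680960 229374 :=
  block_comb c2658 b2659 (Nat.zero_le _) (Nat.le_of_ble_eq_true rfl) rfl

theorem c2660 : Block F al 0 681216 229425 :=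
  block_comb c2659 b2660 (Nat.zero_le _) (Nat.le_of_ble_eq_true rfl) rfl

theorem c2661 : Block F al 0 681472 229452 :=
  block_comb c2660 b2661 (Nat.zero_le _) (Nat.le_of_ble_eq_true rfl) rfl

theorem c2662 : Block F al 0 681728 229462 :=
  block_comb c2661 b2662 (Nat.zero_le _) (Nat.le_of_ble_eq_true rfl) rfl

theorem c2663 : Block F al 0 681984 229474 :=
  block_comb c2662 b2663 (Nat.zero_le _) (Nat.le_of_ble_eq_true rfl) rfl

theorem c2664 : Block F al 0 682240 229522 :=
  block_comb c2663 b2664 (Nat.zero_le _) (Nat.le_of_ble_eq_true rfl) rfl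

theorem c2665 : Block F al 0 682496 229576 :=
  block_comb c2664 b2665 (Nat.zero_le _) (Nat.le_of_ble_eq_true rfl) rfl

theorem c2666 : Block F al 0 682752 229596 :=
  block_comb c2665 b2666 (Nat.zero_le _) (Nat.le_of_ble_eq_true rfl) rfl

theorem c2667 : Block F al 0 683008 229612 :=
  block_comb c2666 b2667 (Nat.zero_le _) (Nat.le_of_ble_eq_true rfl) rfl

theorem c2668 : Block F al 0 683264 229638 :=
  block_comb c2667 b2668 (Nat.zero_le _) (Nat.le_of_ble_eq_true rfl) rfl

theorem c2669 : Block F al 0 683520 229693 :=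
  block_comb c2668 b2669 (Nat.zero_le _) (Nat.le_of_ble_eq_true rfl) rfl

theorem c2670 : Block F al 0 683776 229732 :=
  block_comb c2669 b2670 (Nat.zero_le _) (Nat.le_of_ble_eq_true rfl) rfl

theorem c2671 : Block F al 0 684032 229759 :=
  block_comb c2670 b2671 (Nat.zero_le _) (Nat.le_of_ble_eq_true rfl) rfl

theorem c2672 : Block F al 0 684288 229784 :=
  block_comb c2671 b2672 (Nat.zero_le _) (Nat.le_of_ble_eq_true rfl) rfl

theorem c2673 : Block F al 0 684544 229814 :=
  block_comb c2672 b2673 (Nat.zero_le _) (Nat.le_of_ble_eq_true rfl) rfl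

theorem c2674 : Block F al 0 684800 229830 :=
  block_comb c2673 b2674 (Nat.zero_le _) (Nat.le_of_ble_eq_true rfl) rfl

theorem c2675 : Block F al 0 685056 229860 :=
  block_comb c2674 b2675 (Nat.zero_le _) (Nat.le_of_ble_eq_true rfl) rfl

theorem c2676 : Block F al 0 685312 229922 :=
  block_comb c2675 b2676 (Nat.zero_le _) (Nat.le_of_ble_eq_true rfl) rfl

theorem c2677 : Block F al 0 685568 229968 :=
  block_comb c2676 b2677 (Nat.zero_le _) (Nat.le_of_ble_eq_true rfl) rfl

theorem c2678 : Block F al 0 685824 230012 :=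
  block_comb c2677 b2678 (Nat.zero_le _) (Nat.le_of_ble_eq_true rfl) rfl

theorem c2679 : Block F al 0 686080 230074 :=
  block_comb c2678 b2679 (Nat.zero_le _) (Nat.le_of_ble_eq_true rfl) rfl

theorem c2680 : Block F al 0 686336 230088 :=
  block_comb c2679 b2680 (Nat.zero_le _) (Nat.le_of_ble_eq_true rfl) rfl

theorem c2681 : Block F al 0 686592 230118 :=
  block_comb c2680 b2681 (Nat.zero_le _) (Nat.le_of_ble_eq_true rfl) rfl

theorem c2682 : Block F al 0 686848 230158 :=
  block_comb c2681 b2682 (Nat.zero_le _) (Nat.le_of_ble_eq_true rfl) rfl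

theorem c2683 : Block F al 0 687104 230180 :=
  block_comb c2682 b2683 (Nat.zero_le _) (Nat.le_of_ble_eq_true rfl) rfl

theorem c2684 : Block F al 0 687360 230216 :=
  block_comb c2683 b2684 (Nat.zero_le _) (Nat.le_of_ble_eq_true rfl) rfl

theorem c2685 : Block F al 0 687616 230242 :=
  block_comb c2684 b2685 (Nat.zero_le _) (Nat.le_of_ble_eq_true rfl) rfl

theorem c2686 : Block F al 0 687872 230270 :=
  block_comb c2685 b2686 (Nat.zero_le _) (Nat.le_of_ble_eq_true rfl) rfl

theorem c2687 : Block F al 0 688128 230319 :=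
  block_comb c2686 b2687 (Nat.zero_le _) (Nat.le_of_ble_eq_true rfl) rfl

theorem c2688 : Block F al 0 688384 230372 :=
  block_comb c2687 b2688 (Nat.zero_le _) (Nat.le_of_ble_eq_true rfl) rfl

theorem c2689 : Block F al 0 688640 230419 :=
  block_comb c2688 b2689 (Nat.zero_le _) (Nat.le_of_ble_eq_true rfl) rfl

theorem c2690 : Block F al 0 688896 230468 :=
  block_comb c2689 b2690 (Nat.zero_le _) (Nat.le_of_ble_eq_true rfl) rfl

theorem c2691 : Block F al 0 689152 230492 :=
  block_comb c2690 b2691 (Nat.zero_le _) (Nat.le_of_ble_eq_true rfl) rfl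

theorem c2692 : Block F al 0 689408 230502 :=
  block_comb c2691 b2692 (Nat.zero_le _) (Nat.le_of_ble_eq_true rfl) rfl

theorem c2693 : Block F al 0 689664 230524 :=
  block_comb c2692 b2693 (Nat.zero_le _) (Nat.le_of_ble_eq_true rfl) rfl

theorem c2694 : Block F al 0 689920 230550 :=
  block_comb c2693 b2694 (Nat.zero_le _) (Nat.le_of_ble_eq_true rfl) rfl

theorem c2695 : Block F al 0 690176 230598 :=
  block_comb c2694 b2695 (Nat.zero_le _) (Nat.le_of_ble_eq_true rfl) rfl

theorem c2696 : Block F al 0 690432 230628 :=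
  block_comb c2695 b2696 (Nat.zero_le _) (Nat.le_of_ble_eq_true rfl) rfl

theorem c2697 : Block F al 0 690688 230664 :=
  block_comb c2696 b2697 (Nat.zero_le _) (Nat.le_of_ble_eq_true rfl) rfl

theorem c2698 : Block F al 0 690944 230682 :=
  block_comb c2697 b2698 (Nat.zero_le _) (Nat.le_of_ble_eq_true rfl) rfl

theorem c2699 : Block F al 0 691200 230728 :=
  block_comb c2698 b2699 (Nat.zero_le _) (Nat.le_of_ble_eq_true rfl) rfl

theorem c2700 : Block F al 0 691456 230790 :=
  block_comb c2699 b2700 (Nat.zero_le _) (Nat.le_of_ble_eq_true rfl) rfl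

theorem c2701 : Block F al 0 691712 230814 :=
  block_comb c2700 b2701 (Nat.zero_le _) (Nat.le_of_ble_eq_true rfl) rfl

theorem c2702 : Block F al 0 691968 230840 :=
  block_comb c2701 b2702 (Nat.zero_le _) (Nat.le_of_ble_eq_true rfl) rfl

theorem c2703 : Block F al 0 692224 230868 :=
  block_comb c2702 b2703 (Nat.zero_le _) (Nat.le_of_ble_eq_true rfl) rfl

theorem c2704 : Block F al 0 692480 230904 :=
  block_comb c2703 b2704 (Nat.zero_le _) (Nat.le_of_ble_eq_true rfl) rfl

theorem c2705 : Block F al 0 692736 230936 :=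
  block_comb c2704 b2705 (Nat.zero_le _) (Nat.le_of_ble_eq_true rfl) rfl

theorem c2706 : Block F al 0 692992 230974 :=
  block_comb c2705 b2706 (Nat.zero_le _) (Nat.le_of_ble_eq_true rfl) rfl

theorem c2707 : Block F al 0 693248 230992 :=
  block_comb c2706 b2707 (Nat.zero_le _) (Nat.le_of_ble_eq_true rfl) rfl

theorem c2708 : Block F al 0 693504 231030 :=
  block_comb c2707 b2708 (Nat.zero_le _) (Nat.le_of_ble_eq_true rfl) rfl

theorem c2709 : Block F al 0 693760 231056 :=
  block_comb c2708 b2709 (Nat.zero_le _) (Nat.le_of_ble_eq_true rfl) rfl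

theorem c2710 : Block F al 0 694016 231074 :=
  block_comb c2709 b2710 (Nat.zero_le _) (Nat.le_of_ble_eq_true rfl) rfl

theorem c2711 : Block F al 0 694272 231126 :=
  block_comb c2710 b2711 (Nat.zero_le _) (Nat.le_of_ble_eq_true rfl) rfl

theorem c2712 : Block F al 0 694528 231168 :=
  block_comb c2711 b2712 (Nat.zero_le _) (Nat.le_of_ble_eq_true rfl) rfl

theorem c2713 : Block F al 0 694784 231232 :=
  block_comb c2712 b2713 (Nat.zero_le _) (Nat.le_of_ble_eq_true rfl) rfl

theorem c2714 : Block F al 0 695040 231302 :=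
  block_comb c2713 b2714 (Nat.zero_le _) (Nat.le_of_ble_eq_true rfl) rfl

theorem c2715 : Block F al 0 695296 231370 :=
  block_comb c2714 b2715 (Nat.zero_le _) (Nat.le_of_ble_eq_true rfl) rfl

theorem c2716 : Block F al 0 695552 231430 :=
  block_comb c2715 b2716 (Nat.zero_le _) (Nat.le_of_ble_eq_true rfl) rfl

theorem c2717 : Block F al 0 695808 231472 :=
  block_comb c2716 b2717 (Nat.zero_le _) (Nat.le_of_ble_eq_true rfl) rfl

theorem c2718 : Block F al 0 696064 231512 :=
  block_comb c2717 b2718 (Nat.zero_le _) (Nat.le_of_ble_eq_true rfl) rfl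

theorem c2719 : Block F al 0 696320 231548 :=
  block_comb c2718 b2719 (Nat.zero_le _) (Nat.le_of_ble_eq_true rfl) rfl

theorem c2720 : Block F al 0 696576 231591 :=
  block_comb c2719 b2720 (Nat.zero_le _) (Nat.le_of_ble_eq_true rfl) rfl

theorem c2721 : Block F al 0 696832 231628 :=
  block_comb c2720 b2721 (Nat.zero_le _) (Nat.le_of_ble_eq_true rfl) rfl

theorem c2722 : Block F al 0 697088 231666 :=
  block_comb c2721 b2722 (Nat.zero_le _) (Nat.le_of_ble_eq_true rfl) rfl

theorem c2723 : Block F al 0 697344 231689 :=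
  block_comb c2722 b2723 (Nat.zero_le _) (Nat.le_of_ble_eq_true rfl) rfl

theorem c2724 : Block F al 0 697600 231732 :=
  block_comb c2723 b2724 (Nat.zero_le _) (Nat.le_of_ble_eq_true rfl) rfl

theorem c2725 : Block F al 0 697856 231762 :=
  block_comb c2724 b2725 (Nat.zero_le _) (Nat.le_of_ble_eq_true rfl) rfl

theorem c2726 : Block F al 0 698112 231896 :=
  block_comb c2725 b2726 (Nat.zero_le _) (Nat.le_of_ble_eq_true rfl) rfl

theorem c2727 : Block F al 0 698368 232072 :=
  block_comb c2726 b2727 (Nat.zero_le _) (Nat.le_of_ble_eq_true rfl) rfl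

theorem c2728 : Block F al 0 698624 232250 :=
  block_comb c2727 b2728 (Nat.zero_le _) (Nat.le_of_ble_eq_true rfl) rfl

theorem c2729 : Block F al 0 698880 232446 :=
  block_comb c2728 b2729 (Nat.zero_le _) (Nat.le_of_ble_eq_true rfl) rfl

theorem c2730 : Block F al 0 699136 232642 :=
  block_comb c2729 b2730 (Nat.zero_le _) (Nat.le_of_ble_eq_true rfl) rfl

theorem c2731 : Block F al 0 699392 232827 :=
  block_comb c2730 b2731 (Nat.zero_le _) (Nat.le_of_ble_eq_true rfl) rfl

theorem c2732 : Block F al 0 699648 233040 :=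
  block_comb c2731 b2732 (Nat.zero_le _) (Nat.le_of_ble_eq_true rfl) rfl

theorem c2733 : Block F al 0 699904 233230 :=
  block_comb c2732 b2733 (Nat.zero_le _) (Nat.le_of_ble_eq_true rfl) rfl

theorem c2734 : Block F al 0 700160 233439 :=
  block_comb c2733 b2734 (Nat.zero_le _) (Nat.le_of_ble_eq_true rfl) rfl

theorem c2735 : Block F al 0 700416 233648 :=
  block_comb c2734 b2735 (Nat.zero_le _) (Nat.le_of_ble_eq_true rfl) rfl

theorem c2736 : Block F al 0 700672 233870 :=
  block_comb c2735 b2736 (Nat.zero_le _) (Nat.le_of_ble_eq_true rfl) rfl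

theorem c2737 : Block F al 0 700928 234076 :=
  block_comb c2736 b2737 (Nat.zero_le _) (Nat.le_of_ble_eq_true rfl) rfl

theorem c2738 : Block F al 0 701184 234299 :=
  block_comb c2737 b2738 (Nat.zero_le _) (Nat.le_of_ble_eq_true rfl) rfl

theorem c2739 : Block F al 0 701440 234537 :=
  block_comb c2738 b2739 (Nat.zero_le _) (Nat.le_of_ble_eq_true rfl) rfl

theorem c2740 : Block F al 0 701696 234763 :=
  block_comb c2739 b2740 (Nat.zero_le _) (Nat.le_of_ble_eq_true rfl) rfl

theorem c2741 : Block F al 0 701952 234988 :=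
  block_comb c2740 b2741 (Nat.zero_le _) (Nat.le_of_ble_eq_true rfl) rfl

theorem c2742 : Block F al 0 702208 235220 :=
  block_comb c2741 b2742 (Nat.zero_le _) (Nat.le_of_ble_eq_true rfl) rfl

theorem c2743 : Block F al 0 702464 235438 :=
  block_comb c2742 b2743 (Nat.zero_le _) (Nat.le_of_ble_eq_true rfl) rfl

theorem c2744 : Block F al 0 702720 235668 :=
  block_comb c2743 b2744 (Nat.zero_le _) (Nat.le_of_ble_eq_true rfl) rfl

theorem c2745 : Block F al 0 702976 235907 :=
  block_comb c2744 b2745 (Nat.zero_le _) (Nat.le_of_ble_eq_true rfl) rfl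

theorem c2746 : Block F al 0 703232 236146 :=
  block_comb c2745 b2746 (Nat.zero_le _) (Nat.le_of_ble_eq_true rfl) rfl

theorem c2747 : Block F al 0 703488 236384 :=
  block_comb c2746 b2747 (Nat.zero_le _) (Nat.le_of_ble_eq_true rfl) rfl

theorem c2748 : Block F al 0 703744 236624 :=
  block_comb c2747 b2748 (Nat.zero_le _) (Nat.le_of_ble_eq_true rfl) rfl

theorem c2749 : Block F al 0 704000 236866 :=
  block_comb c2748 b2749 (Nat.zero_le _) (Nat.le_of_ble_eq_true rfl) rfl

theorem c2750 : Block F al 0 704256 237094 :=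
  block_comb c2749 b2750 (Nat.zero_le _) (Nat.le_of_ble_eq_true rfl) rfl

theorem c2751 : Block F al 0 704512 237329 :=
  block_comb c2750 b2751 (Nat.zero_le _) (Nat.le_of_ble_eq_true rfl) rfl

theorem c2752 : Block F al 0 704768 237565 :=
  block_comb c2751 b2752 (Nat.zero_le _) (Nat.le_of_ble_eq_true rfl) rfl

theorem c2753 : Block F al 0 705024 237806 :=
  block_comb c2752 b2753 (Nat.zero_le _) (Nat.le_of_ble_eq_true rfl) rfl

theorem c2754 : Block F al 0 705280 238050 :=
  block_comb c2753 b2754 (Nat.zero_le _) (Nat.le_of_ble_eq_true rfl) rfl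

theorem c2755 : Block F al 0 705536 238286 :=
  block_comb c2754 b2755 (Nat.zero_le _) (Nat.le_of_ble_eq_true rfl) rfl

theorem c2756 : Block F al 0 705792 238524 :=
  block_comb c2755 b2756 (Nat.zero_le _) (Nat.le_of_ble_eq_true rfl) rfl

theorem c2757 : Block F al 0 706048 238767 :=
  block_comb c2756 b2757 (Nat.zero_le _) (Nat.le_of_ble_eq_true rfl) rfl

theorem c2758 : Block F al 0 706304 239007 :=
  block_comb c2757 b2758 (Nat.zero_le _) (Nat.le_of_ble_eq_true rfl) rfl

theorem c2759 : Block F al 0 706560 239250 :=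
  block_comb c2758 b2759 (Nat.zero_le _) (Nat.le_of_ble_eq_true rfl) rfl

theorem c2760 : Block F al 0 706816 239496 :=
  block_comb c2759 b2760 (Nat.zero_le _) (Nat.le_of_ble_eq_true rfl) rfl

theorem c2761 : Block F al 0 707072 239742 :=
  block_comb c2760 b2761 (Nat.zero_le _) (Nat.le_of_ble_eq_true rfl) rfl

theorem c2762 : Block F al 0 707328 239992 :=
  block_comb c2761 b2762 (Nat.zero_le _) (Nat.le_of_ble_eq_true rfl) rfl

theorem c2763 : Block F al 0 707584 240242 :=
  block_comb c2762 b2763 (Nat.zero_le _) (Nat.le_of_ble_eq_true rfl) rfl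

theorem c2764 : Block F al 0 707840 240481 :=
  block_comb c2763 b2764 (Nat.zero_le _) (Nat.le_of_ble_eq_true rfl) rfl

theorem c2765 : Block F al 0 708096 240728 :=
  block_comb c2764 b2765 (Nat.zero_le _) (Nat.le_of_ble_eq_true rfl) rfl

theorem c2766 : Block F al 0 708352 240983 :=
  block_comb c2765 b2766 (Nat.zero_le _) (Nat.le_of_ble_eq_true rfl) rfl

theorem c2767 : Block F al 0 708608 241232 :=
  block_comb c2766 b2767 (Nat.zero_le _) (Nat.le_of_ble_eq_true rfl) rfl

theorem c2768 : Block F al 0 708864 241474 :=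
  block_comb c2767 b2768 (Nat.zero_le _) (Nat.le_of_ble_eq_true rfl) rfl

theorem c2769 : Block F al 0 709120 241726 :=
  block_comb c2768 b2769 (Nat.zero_le _) (Nat.le_of_ble_eq_true rfl) rfl

theorem c2770 : Block F al 0 709376 241973 :=
  block_comb c2769 b2770 (Nat.zero_le _) (Nat.le_of_ble_eq_true rfl) rfl

theorem c2771 : Block F al 0 709632 242220 :=
  block_comb c2770 b2771 (Nat.zero_le _) (Nat.le_of_ble_eq_true rfl) rfl

theorem c2772 : Block F al 0 709888 242471 :=
  block_comb c2771 b2772 (Nat.zero_le _) (Nat.le_of_ble_eq_true rfl) rfl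

theorem c2773 : Block F al 0 710144 242718 :=
  block_comb c2772 b2773 (Nat.zero_le _) (Nat.le_of_ble_eq_true rfl) rfl

theorem c2774 : Block F al 0 710400 242969 :=
  block_comb c2773 b2774 (Nat.zero_le _) (Nat.le_of_ble_eq_true rfl) rfl

theorem c2775 : Block F al 0 710656 243224 :=
  block_comb c2774 b2775 (Nat.zero_le _) (Nat.le_of_ble_eq_true rfl) rfl

theorem c2776 : Block F al 0 710912 243478 :=
  block_comb c2775 b2776 (Nat.zero_le _) (Nat.le_of_ble_eq_true rfl) rfl

theorem c2777 : Block F al 0 711168 243733 :=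
  block_comb c2776 b2777 (Nat.zero_le _) (Nat.le_of_ble_eq_true rfl) rfl

theorem c2778 : Block F al 0 711424 243989 :=
  block_comb c2777 b2778 (Nat.zero_le _) (Nat.le_of_ble_eq_true rfl) rfl

theorem c2779 : Block F al 0 711680 244239 :=
  block_comb c2778 b2779 (Nat.zero_le _) (Nat.le_of_ble_eq_true rfl) rfl

theorem c2780 : Block F al 0 711936 244492 :=
  block_comb c2779 b2780 (Nat.zero_le _) (Nat.le_of_ble_eq_true rfl) rfl

theorem c2781 : Block F al 0 712192 244748 :=
  block_comb c2780 b2781 (Nat.zero_le _) (Nat.le_of_ble_eq_true rfl) rfl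

theorem c2782 : Block F al 0 712448 245003 :=
  block_comb c2781 b2782 (Nat.zero_le _) (Nat.le_of_ble_eq_true rfl) rfl

theorem c2783 : Block F al 0 712704 245258 :=
  block_comb c2782 b2783 (Nat.zero_le _) (Nat.le_of_ble_eq_true rfl) rfl

theorem c2784 : Block F al 0 712960 245514 :=
  block_comb c2783 b2784 (Nat.zero_le _) (Nat.le_of_ble_eq_true rfl) rfl

theorem c2785 : Block F al 0 713216 245768 :=
  block_comb c2784 b2785 (Nat.zero_le _) (Nat.le_of_ble_eq_true rfl) rfl

theorem c2786 : Block F al 0 713472 246024 :=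
  block_comb c2785 b2786 (Nat.zero_le _) (Nat.le_of_ble_eq_true rfl) rfl

theorem c2787 : Block F al 0 713728 246278 :=
  block_comb c2786 b2787 (Nat.zero_le _) (Nat.le_of_ble_eq_true rfl) rfl

theorem c2788 : Block F al 0 713984 246534 :=
  block_comb c2787 b2788 (Nat.zero_le _) (Nat.le_of_ble_eq_true rfl) rfl

theorem c2789 : Block F al 0 714240 246790 :=
  block_comb c2788 b2789 (Nat.zero_le _) (Nat.le_of_ble_eq_true rfl) rfl

theorem c2790 : Block F al 0 714496 247046 :=
  block_comb c2789 b2790 (Nat.zero_le _) (Nat.le_of_ble_eq_true rfl) rfl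

theorem c2791 : Block F al 0 714752 247302 :=
  block_comb c2790 b2791 (Nat.zero_le _) (Nat.le_of_ble_eq_true rfl) rfl

theorem c2792 : Block F al 0 715008 247558 :=
  block_comb c2791 b2792 (Nat.zero_le _) (Nat.le_of_ble_eq_true rfl) rfl

theorem c2793 : Block F al 0 715264 247814 :=
  block_comb c2792 b2793 (Nat.zero_le _) (Nat.le_of_ble_eq_true rfl) rfl

theorem c2794 : Block F al 0 715520 248070 :=
  block_comb c2793 b2794 (Nat.zero_le _) (Nat.le_of_ble_eq_true rfl) rfl

theorem c2795 : Block F al 0 715776 248324 :=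
  block_comb c2794 b2795 (Nat.zero_le _) (Nat.le_of_ble_eq_true rfl) rfl

theorem c2796 : Block F al 0 716032 248580 :=
  block_comb c2795 b2796 (Nat.zero_le _) (Nat.le_of_ble_eq_true rfl) rfl

theorem c2797 : Block F al 0 716288 248836 :=
  block_comb c2796 b2797 (Nat.zero_le _) (Nat.le_of_ble_eq_true rfl) rfl

theorem c2798 : Block F al 0 716544 249092 :=
  block_comb c2797 b2798 (Nat.zero_le _) (Nat.le_of_ble_eq_true rfl) rfl

theorem c2799 : Block F al 0 716800 249348 :=
  block_comb c2798 b2799 (Nat.zero_le _) (Nat.le_of_ble_eq_true rfl) rfl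

theorem c2800 : Block F al 0 717056 249604 :=
  block_comb c2799 b2800 (Nat.zero_le _) (Nat.le_of_ble_eq_true rfl) rfl

theorem c2801 : Block F al 0 717312 249858 :=
  block_comb c2800 b2801 (Nat.zero_le _) (Nat.le_of_ble_eq_true rfl) rfl

theorem c2802 : Block F al 0 717568 250114 :=
  block_comb c2801 b2802 (Nat.zero_le _) (Nat.le_of_ble_eq_true rfl) rfl

theorem c2803 : Block F al 0 717824 250368 :=
  block_comb c2802 b2803 (Nat.zero_le _) (Nat.le_of_ble_eq_true rfl) rfl

theorem c2804 : Block F al 0 718080 250624 :=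
  block_comb c2803 b2804 (Nat.zero_le _) (Nat.le_of_ble_eq_true rfl) rfl

theorem c2805 : Block F al 0 718336 250880 :=
  block_comb c2804 b2805 (Nat.zero_le _) (Nat.le_of_ble_eq_true rfl) rfl

theorem c2806 : Block F al 0 718592 251136 :=
  block_comb c2805 b2806 (Nat.zero_le _) (Nat.le_of_ble_eq_true rfl) rfl

theorem c2807 : Block F al 0 718848 251392 :=
  block_comb c2806 b2807 (Nat.zero_le _) (Nat.le_of_ble_eq_true rfl) rfl

theorem c2808 : Block F al 0 719104 251648 :=
  block_comb c2807 b2808 (Nat.zero_le _) (Nat.le_of_ble_eq_true rfl) rfl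

theorem c2809 : Block F al 0 719360 251904 :=
  block_comb c2808 b2809 (Nat.zero_le _) (Nat.le_of_ble_eq_true rfl) rfl

theorem c2810 : Block F al 0 719616 252000 :=
  block_comb c2809 b2810 (Nat.zero_le _) (Nat.le_of_ble_eq_true rfl) rfl

end Cfsg.Agent.TcData.HNK.R0
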