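import Mathlib
import Cfsg.Agent.TcData.HNK.R0.Tab

set_option autoImplicit false
set_option Elab.async false
set_option maxRecDepth 100000
set_option linter.all false

namespace Cfsg.Agent.TcData.HNK.R0

open Cfsg.Spor Cfsg.Agent.Lib.TcFacts Cfsg.Agent.Lib.TcBits Cfsg.Agent.Lib.TcPres Cfsg.Spor.HN Cfsg.Agent.TcData.HNK

theorem b1117 : Block F al 285952 286208 74 :=
  block_of_check (k := 8) rfl (by decide +kernel)

theorem b1118 : Block F al 286208 286464 89 :=
  block_of_check (k := 8) rfl (by decide +kernel)

theorem b1119 : Block F al 286464 286720 135 :=
  block_of_check (k := 8) rfl (by decide +kernel)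

theorem b1120 : Block F al 286720 286976 51 :=
  block_of_check (k := 8) rfl (by decide +kernel)

theorem b1121 : Block F al 286976 287232 63 :=
  block_of_check (k := 8) rfl (by decide +kernel)

theorem b1122 : Block F al 287232 287488 140 :=
  block_of_check (k := 8) rfl (by decide +kernel)

theorem b1123 : Block F al 287488 287744 55 :=
  block_of_check (k := 8) rfl (by decide +kernel)

theorem b1124 : Block F al 287744 288000 69 :=
  block_of_check (k := 8) rfl (by decide +kernel)

theorem b1125 : Block F al 288000 288256 66 :=
  block_of_check (k := 8) rfl (by decide +kernel)

theorem b1126 : Block F al 288256 288512 84 :=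
  block_of_check (k := 8) rfl (by decide +kernel)

theorem b1127 : Block F al 288512 288768 36 :=
  block_of_check (k := 8) rfl (by decide +kernel)

theorem b1128 : Block F al 288768 289024 72 :=
  block_of_check (k := 8) rfl (by decide +kernel)

theorem b1129 : Block F al 289024 289280 80 :=
  block_of_check (k := 8) rfl (by decide +kernel)

theorem b1130 : Block F al 289280 289536 74 :=
  block_of_check (k := 8) rfl (by decide +kernel)

theorem b1131 : Block F al 289536 289792 109 :=
  block_of_check (k := 8) rfl (by decide +kernel)

theorem b1132 : Block F al 289792 290048 87 :=
  block_of_check (k := 8) rfl (by decide +kernel)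

theorem b1133 : Block F al 290048 290304 56 :=
  block_of_check (k := 8) rfl (by decide +kernel)

theorem b1134 : Block F al 290304 290560 61 :=
  block_of_check (k := 8) rfl (by decide +kernel)

theorem b1135 : Block F al 290560 290816 73 :=
  block_of_check (k := 8) rfl (by decide +kernel)

theorem b1136 : Block F al 290816 291072 102 :=
  block_of_check (k := 8) rfl (by decide +kernel)

theorem b1137 : Block F al 291072 291328 86 :=
  block_of_check (k := 8) rfl (by decide +kernel)

theorem b1138 : Block F al 291328 291584 87 :=
  block_of_check (k := 8) rfl (by decide +kernel)

theorem b1139 : Block F al 291584 291840 95 :=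
  block_of_check (k := 8) rfl (by decide +kernel)

theorem b1140 : Block F al 291840 292096 46 :=
  block_of_check (k := 8) rfl (by decide +kernel)

theorem b1141 : Block F al 292096 292352 44 :=
  block_of_check (k := 8) rfl (by decide +kernel)

theorem b1142 : Block F al 292352 292608 76 :=
  block_of_check (k := 8) rfl (by decide +kernel)

theorem b1143 : Block F al 292608 292864 52 :=
  block_of_check (k := 8) rfl (by decide +kernel)

theorem b1144 : Block F al 292864 293120 112 :=
  block_of_check (k := 8) rfl (by decide +kernel)

theorem b1145 : Block F al 293120 293376 84 :=
  block_of_check (k := 8) rfl (by decide +kernel)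

theorem b1146 : Block F al 293376 293632 95 :=
  block_of_check (k := 8) rfl (by decide +kernel)

theorem b1147 : Block F al 293632 293888 45 :=
  block_of_check (k := 8) rfl (by decide +kernel)

theorem b1148 : Block F al 293888 294144 66 :=
  block_of_check (k := 8) rfl (by decide +kernel)

theorem b1149 : Block F al 294144 294400 48 :=
  block_of_check (k := 8) rfl (by decide +kernel)

theorem b1150 : Block F al 294400 294656 111 :=
  block_of_check (k := 8) rfl (by decide +kernel)

theorem b1151 : Block F al 294656 294912 53 :=
  block_of_check (k := 8) rfl (by decide +kernel)

theorem b1152 : Block F al 294912 295168 44 :=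
  block_of_check (k := 8) rfl (by decide +kernel)

theorem b1153 : Block F al 295168 295424 21 :=
  block_of_check (k := 8) rfl (by decide +kernel)

theorem b1154 : Block F al 295424 295680 106 :=
  block_of_check (k := 8) rfl (by decide +kernel)

theorem b1155 : Block F al 295680 295936 126 :=
  block_of_check (k := 8) rfl (by decide +kernel)

theorem b1156 : Block F al 295936 296192 69 :=
  block_of_check (k := 8) rfl (by decide +kernel)

theorem b1157 : Block F al 296192 296448 30 :=
  block_of_check (k := 8) rfl (by decide +kernel)

theorem b1158 : Block F al 296448 296704 84 :=
  block_of_check (k := 8) rfl (by decide +kernel)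

theorem b1159 : Block F al 296704 296960 93 :=
  block_of_check (k := 8) rfl (by decide +kernel)

theorem b1160 : Block F al 296960 297216 119 :=
  block_of_check (k := 8) rfl (by decide +kernel)

theorem b1161 : Block F al 297216 297472 66 :=
  block_of_check (k := 8) rfl (by decide +kernel)

theorem b1162 : Block F al 297472 297728 42 :=
  block_of_check (k := 8) rfl (by decide +kernel)

theorem b1163 : Block F al 297728 297984 48 :=
  block_of_check (k := 8) rfl (by decide +kernel)

theorem b1164 : Block F al 297984 298240 28 :=
  block_of_check (k := 8) rfl (by decide +kernel)

theorem b1165 : Block F al 298240 298496 76 :=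
  block_of_check (k := 8) rfl (by decide +kernel)

theorem b1166 : Block F al 298496 298752 44 :=
  block_of_check (k := 8) rfl (by decide +kernel)

theorem b1167 : Block F al 298752 299008 56 :=
  block_of_check (k := 8) rfl (by decide +kernel)

theorem b1168 : Block F al 299008 299264 36 :=
  block_of_check (k := 8) rfl (by decide +kernel)

theorem b1169 : Block F al 299264 299520 26 :=
  block_of_check (k := 8) rfl (by decide +kernel)

theorem b1170 : Block F al 299520 299776 46 :=
  block_of_check (k := 8) rfl (by decide +kernel)

theorem b1171 : Block F al 299776 300032 50 :=
  block_of_check (k := 8) rfl (by decide +kernel)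

theorem b1172 : Block F al 300032 300288 55 :=
  block_of_check (k := 8) rfl (by decide +kernel)

theorem b1173 : Block F al 300288 300544 79 :=
  block_of_check (k := 8) rfl (by decide +kernel)

theorem b1174 : Block F al 300544 300800 56 :=
  block_of_check (k := 8) rfl (by decide +kernel)

theorem b1175 : Block F al 300800 301056 43 :=
  block_of_check (k := 8) rfl (by decide +kernel)

theorem b1176 : Block F al 301056 301312 87 :=
  block_of_check (k := 8) rfl (by decide +kernel)

theorem b1177 : Block F al 301312 301568 101 :=
  block_of_check (k := 8) rfl (by decide +kernel)

theorem b1178 : Block F al 301568 301824 55 :=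
  block_of_check (k := 8) rfl (by decide +kernel)

theorem b1179 : Block F al 301824 302080 76 :=
  block_of_check (k := 8) rfl (by decide +kernel)

theorem b1180 : Block F al 302080 302336 80 :=
  block_of_check (k := 8) rfl (by decide +kernel)

theorem b1181 : Block F al 302336 302592 114 :=
  block_of_check (k := 8) rfl (by decide +kernel)

theorem b1182 : Block F al 302592 302848 56 :=
  block_of_check (k := 8) rfl (by decide +kernel)

theorem b1183 : Block F al 302848 303104 108 :=
  block_of_check (k := 8) rfl (by decide +kernel)

theorem b1184 : Block F al 303104 303360 78 :=
  block_of_check (k := 8) rfl (by decide +kernel)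

theorem b1185 : Block F al 303360 303616 112 :=
  block_of_check (k := 8) rfl (by decide +kernel)

theorem b1186 : Block F al 303616 303872 100 :=
  block_of_check (k := 8) rfl (by decide +kernel)

theorem b1187 : Block F al 303872 304128 111 :=
  block_of_check (k := 8) rfl (by decide +kernel)

theorem b1188 : Block F al 304128 304384 45 :=
  block_of_check (k := 8) rfl (by decide +kernel)

theorem b1189 : Block F al 304384 304640 66 :=
  block_of_check (k := 8) rfl (by decide +kernel)

theorem b1190 : Block F al 304640 304896 72 :=
  block_of_check (k := 8) rfl (by decide +kernel)

theorem b1191 : Block F al 304896 305152 94 :=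
  block_of_check (k := 8) rfl (by decide +kernel)

theorem b1192 : Block F al 305152 305408 90 :=
  block_of_check (k := 8) rfl (by decide +kernel)

theorem b1193 : Block F al 305408 305664 68 :=
  block_of_check (k := 8) rfl (by decide +kernel)

theorem b1194 : Block F al 305664 305920 67 :=
  block_of_check (k := 8) rfl (by decide +kernel)

theorem b1195 : Block F al 305920 306176 37 :=
  block_of_check (k := 8) rfl (by decide +kernel)

theorem b1196 : Block F al 306176 306432 65 :=
  block_of_check (k := 8) rfl (by decide +kernel)

theorem b1197 : Block F al 306432 306688 13 :=
  block_of_check (k := 8) rfl (by decide +kernel)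

theorem b1198 : Block F al 306688 306944 64 :=
  block_of_check (k := 8) rfl (by decide +kernel)

theorem b1199 : Block F al 306944 307200 32 :=
  block_of_check (k := 8) rfl (by decide +kernel)

theorem b1200 : Block F al 307200 307456 60 :=
  block_of_check (k := 8) rfl (by decide +kernel)

end Cfsg.Agent.TcData.HNK.R0
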