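import Mathlib
import Cfsg.Agent.TcData.HNK.R0.Tab

set_option autoImplicit false
set_option Elab.async false
set_option maxRecDepth 100000
set_option linter.all false

namespace Cfsg.Agent.TcData.HNK.R0

open Cfsg.Spor Cfsg.Agent.Lib.TcFacts Cfsg.Agent.Lib.TcBits Cfsg.Agent.Lib.TcPres Cfsg.Spor.HN Cfsg.Agent.TcData.HNK

theorem b2282 : Block F al 584192 584448 60 :=
  block_of_check (k := 8) rfl (by decide +kernel)

theorem b2283 : Block F al 584448 584704 48 :=
  block_of_check (k := 8) rfl (by decide +kernel)

theorem b2284 : Block F al 584704 584960 84 :=
  block_of_check (k := 8) rfl (by decide +kernel)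

theorem b2285 : Block F al 584960 585216 40 :=
  block_of_check (k := 8) rfl (by decide +kernel)

theorem b2286 : Block F al 585216 585472 71 :=
  block_of_check (k := 8) rfl (by decide +kernel)

theorem b2287 : Block F al 585472 585728 55 :=
  block_of_check (k := 8) rfl (by decide +kernel)

theorem b2288 : Block F al 585728 585984 28 :=
  block_of_check (k := 8) rfl (by decide +kernel)

theorem b2289 : Block F al 585984 586240 62 :=
  block_of_check (k := 8) rfl (by decide +kernel)

theorem b2290 : Block F al 586240 586496 45 :=
  block_of_check (k := 8) rfl (by decide +kernel)

theorem b2291 : Block F al 586496 586752 19 :=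
  block_of_check (k := 8) rfl (by decide +kernel)

theorem b2292 : Block F al 586752 587008 58 :=
  block_of_check (k := 8) rfl (by decide +kernel)

theorem b2293 : Block F al 587008 587264 58 :=
  block_of_check (k := 8) rfl (by decide +kernel)

theorem b2294 : Block F al 587264 587520 34 :=
  block_of_check (k := 8) rfl (by decide +kernel)

theorem b2295 : Block F al 587520 587776 36 :=
  block_of_check (k := 8) rfl (by decide +kernel)

theorem b2296 : Block F al 587776 588032 46 :=
  block_of_check (k := 8) rfl (by decide +kernel)

theorem b2297 : Block F al 588032 588288 22 :=
  block_of_check (k := 8) rfl (by decide +kernel)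

theorem b2298 : Block F al 588288 588544 31 :=
  block_of_check (k := 8) rfl (by decide +kernel)

theorem b2299 : Block F al 588544 588800 51 :=
  block_of_check (k := 8) rfl (by decide +kernel)

theorem b2300 : Block F al 588800 589056 56 :=
  block_of_check (k := 8) rfl (by decide +kernel)

theorem b2301 : Block F al 589056 589312 66 :=
  block_of_check (k := 8) rfl (by decide +kernel)

theorem b2302 : Block F al 589312 589568 98 :=
  block_of_check (k := 8) rfl (by decide +kernel)

theorem b2303 : Block F al 589568 589824 54 :=
  block_of_check (k := 8) rfl (by decide +kernel)

theorem b2304 : Block F al 589824 590080 64 :=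
  block_of_check (k := 8) rfl (by decide +kernel)

theorem b2305 : Block F al 590080 590336 64 :=
  block_of_check (k := 8) rfl (by decide +kernel)

theorem b2306 : Block F al 590336 590592 82 :=
  block_of_check (k := 8) rfl (by decide +kernel)

theorem b2307 : Block F al 590592 590848 28 :=
  block_of_check (k := 8) rfl (by decide +kernel)

theorem b2308 : Block F al 590848 591104 52 :=
  block_of_check (k := 8) rfl (by decide +kernel)

theorem b2309 : Block F al 591104 591360 34 :=
  block_of_check (k := 8) rfl (by decide +kernel)

theorem b2310 : Block F al 591360 591616 15 :=
  block_of_check (k := 8) rfl (by decide +kernel)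

theorem b2311 : Block F al 591616 591872 31 :=
  block_of_check (k := 8) rfl (by decide +kernel)

theorem b2312 : Block F al 591872 592128 26 :=
  block_of_check (k := 8) rfl (by decide +kernel)

theorem b2313 : Block F al 592128 592384 29 :=
  block_of_check (k := 8) rfl (by decide +kernel)

theorem b2314 : Block F al 592384 592640 58 :=
  block_of_check (k := 8) rfl (by decide +kernel)

theorem b2315 : Block F al 592640 592896 77 :=
  block_of_check (k := 8) rfl (by decide +kernel)

theorem b2316 : Block F al 592896 593152 48 :=
  block_of_check (k := 8) rfl (by decide +kernel)

theorem b2317 : Block F al 593152 593408 37 :=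
  block_of_check (k := 8) rfl (by decide +kernel)

theorem b2318 : Block F al 593408 593664 49 :=
  block_of_check (k := 8) rfl (by decide +kernel)

theorem b2319 : Block F al 593664 593920 58 :=
  block_of_check (k := 8) rfl (by decide +kernel)

theorem b2320 : Block F al 593920 594176 44 :=
  block_of_check (k := 8) rfl (by decide +kernel)

theorem b2321 : Block F al 594176 594432 38 :=
  block_of_check (k := 8) rfl (by decide +kernel)

theorem b2322 : Block F al 594432 594688 60 :=
  block_of_check (k := 8) rfl (by decide +kernel)

theorem b2323 : Block F al 594688 594944 65 :=
  block_of_check (k := 8) rfl (by decide +kernel)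

theorem b2324 : Block F al 594944 595200 39 :=
  block_of_check (k := 8) rfl (by decide +kernel)

theorem b2325 : Block F al 595200 595456 24 :=
  block_of_check (k := 8) rfl (by decide +kernel)

theorem b2326 : Block F al 595456 595712 33 :=
  block_of_check (k := 8) rfl (by decide +kernel)

theorem b2327 : Block F al 595712 595968 22 :=
  block_of_check (k := 8) rfl (by decide +kernel)

theorem b2328 : Block F al 595968 596224 54 :=
  block_of_check (k := 8) rfl (by decide +kernel)

theorem b2329 : Block F al 596224 596480 75 :=
  block_of_check (k := 8) rfl (by decide +kernel)

theorem b2330 : Block F al 596480 596736 26 :=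
  block_of_check (k := 8) rfl (by decide +kernel)

theorem b2331 : Block F al 596736 596992 76 :=
  block_of_check (k := 8) rfl (by decide +kernel)

theorem b2332 : Block F al 596992 597248 80 :=
  block_of_check (k := 8) rfl (by decide +kernel)

theorem b2333 : Block F al 597248 597504 42 :=
  block_of_check (k := 8) rfl (by decide +kernel)

theorem b2334 : Block F al 597504 597760 94 :=
  block_of_check (k := 8) rfl (by decide +kernel)

theorem b2335 : Block F al 597760 598016 62 :=
  block_of_check (k := 8) rfl (by decide +kernel)

theorem b2336 : Block F al 598016 598272 68 :=
  block_of_check (k := 8) rfl (by decide +kernel)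

theorem b2337 : Block F al 598272 598528 52 :=
  block_of_check (k := 8) rfl (by decide +kernel)

theorem b2338 : Block F al 598528 598784 63 :=
  block_of_check (k := 8) rfl (by decide +kernel)

theorem b2339 : Block F al 598784 599040 49 :=
  block_of_check (k := 8) rfl (by decide +kernel)

theorem b2340 : Block F al 599040 599296 24 :=
  block_of_check (k := 8) rfl (by decide +kernel)

theorem b2341 : Block F al 599296 599552 12 :=
  block_of_check (k := 8) rfl (by decide +kernel)

theorem b2342 : Block F al 599552 599808 65 :=
  block_of_check (k := 8) rfl (by decide +kernel)

theorem b2343 : Block F al 599808 600064 57 :=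
  block_of_check (k := 8) rfl (by decide +kernel)

theorem b2344 : Block F al 600064 600320 20 :=
  block_of_check (k := 8) rfl (by decide +kernel)

theorem b2345 : Block F al 600320 600576 62 :=
  block_of_check (k := 8) rfl (by decide +kernel)

theorem b2346 : Block F al 600576 600832 74 :=
  block_of_check (k := 8) rfl (by decide +kernel)

theorem b2347 : Block F al 600832 601088 28 :=
  block_of_check (k := 8) rfl (by decide +kernel)

theorem b2348 : Block F al 601088 601344 44 :=
  block_of_check (k := 8) rfl (by decide +kernel)

theorem b2349 : Block F al 601344 601600 50 :=
  block_of_check (k := 8) rfl (by decide +kernel)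

theorem b2350 : Block F al 601600 601856 38 :=
  block_of_check (k := 8) rfl (by decide +kernel)

theorem b2351 : Block F al 601856 602112 58 :=
  block_of_check (k := 8) rfl (by decide +kernel)

theorem b2352 : Block F al 602112 602368 74 :=
  block_of_check (k := 8) rfl (by decide +kernel)

theorem b2353 : Block F al 602368 602624 42 :=
  block_of_check (k := 8) rfl (by decide +kernel)

end Cfsg.Agent.TcData.HNK.R0
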